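import Groth.Agent.AGF27.ObsScheme
import Mathlib.RingTheory.HopfAlgebra.Quotient

/-!
# Closed subgroup schemes of an affine group scheme

Morphisms of affine schemes over a field as maps of functions; the group structure on the closed subscheme of a Hopf
ideal.
-/

universe u

open CategoryTheory AlgebraicGeometry MonoidalCategory CartesianMonoidalCategory MonObj GrpObj TensorProduct WithConv
open Groth.Agent.GrpSchLib.Kunneth
open scoped Groth.Agent.AGF27

namespace Groth.Agent.AGFHopf

open Groth.Agent.AGF27 (toPt univPt pullFn_comp pullFn_toPt)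

variable {k : Type u} [Field k] {X G H : Over (Spec (CommRingCat.of k))}

instance isIso_univPt [IsAffine X.left] : IsIso (univPt X) := by
  haveI : IsIso ((Over.forget _).map (univPt X)) := by
    show IsIso (Spec.map (CommRingCat.ofHom (AlgHom.id k (Fn X)).toRingHom) ≫ X.left.isoSpec.inv)
    rw [show CommRingCat.ofHom (AlgHom.id k (Fn X)).toRingHom = 𝟙 (CommRingCat.of Γ(X.left, ⊤)) from rfl]
    erw [Spec.map_id, Category.id_comp]
    infer_instance
  exact isIso_of_reflects_iso (univPt X) (Over.forget _)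

theorem pullFn_univPt_comp [IsAffine X.left] (φ : X ⟶ G) : pullFn (univPt X ≫ φ) = ev φ := by
  rw [pullFn_comp, univPt, pullFn_toPt, AlgHom.id_comp]

/-- Morphisms of affine schemes are determined by their maps on functions. -/
theorem hom_ext_fn [IsAffine X.left] [IsAffine G.left] {φ ψ : X ⟶ G} (h : ev φ = ev ψ) : φ = ψ := by
  rw [← cancel_epi (univPt X)]
  exact AGF27.pt_ext (by rw [pullFn_univPt_comp, pullFn_univPt_comp, h])

theorem ev_comp (φ : X ⟶ H) (i : H ⟶ G) : ev (φ ≫ i) = (ev φ).comp (ev i) := AlgHom.ext fun _ => rfl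

/-- Maps of functions give morphisms of affine schemes. -/
theorem exists_hom_of_fn [IsAffine X.left] [IsAffine G.left] (ψ : Fn G →ₐ[k] Fn X) : ∃ φ : X ⟶ G, ev φ = ψ := by
  refine ⟨inv (univPt X) ≫ toPt ψ, ?_⟩
  rw [← pullFn_univPt_comp, IsIso.hom_inv_id_assoc, pullFn_toPt]

/-- A morphism factors through a subscheme with surjective comorphism when it kills its ideal. -/
theorem exists_factor [IsAffine X.left] [IsAffine H.left] [IsAffine G.left] (i : H ⟶ G)
    (hi : Function.Surjective (ev i)) (φ : X ⟶ G) (h : ∀ f, ev i f = 0 → ev φ f = 0) : ∃ ψ : X ⟶ H, ψ ≫ i = φ := by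
  let χ : Fn H →ₐ[k] Fn X := AlgHom.liftOfSurjective (ev i) hi (ev φ) fun f hf => h f hf
  obtain ⟨ψ, hψ⟩ := exists_hom_of_fn χ
  refine ⟨ψ, hom_ext_fn ?_⟩
  rw [ev_comp, hψ]
  exact AlgHom.liftOfSurjective_comp _ _ _ _

/-- A monomorphism whose image is stable under the operations is a subgroup. -/
theorem exists_grpObj_of_mono [GrpObj G] (i : H ⟶ G) [Mono i] (h1 : ∃ e, e ≫ i = η[G])
    (h2 : ∃ m : H ⊗ H ⟶ H, m ≫ i = (fst H H ≫ i) * (snd H H ≫ i)) (h3 : ∃ v : H ⟶ H, v ≫ i = i⁻¹) :
    ∃ _ : GrpObj H, IsMonHom i := by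
  obtain ⟨e, he⟩ := h1
  obtain ⟨m, hm⟩ := h2
  obtain ⟨v, hv⟩ := h3
  have hone : ∀ {T : Over (Spec (CommRingCat.of k))} (t : T ⟶ 𝟙_ _), t ≫ η[G] = (1 : T ⟶ G) := fun t => by
    rw [Hom.one_def, toUnit_unique t]
  have hm' : ∀ {T : Over (Spec (CommRingCat.of k))} (t : T ⟶ H ⊗ H),
      t ≫ m ≫ i = ((t ≫ fst H H) ≫ i) * ((t ≫ snd H H) ≫ i) := fun t => by
    rw [hm, MonObj.comp_mul, Category.assoc, Category.assoc]
  let M : MonObj H :=
  { one := e
    mul := m
    one_mul := by
      rw [← cancel_mono i, Category.assoc, hm', whiskerRight_fst, whiskerRight_snd, Category.assoc, he, hone,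
        _root_.one_mul, leftUnitor_hom]
    mul_one := by
      rw [← cancel_mono i, Category.assoc, hm', whiskerLeft_fst, whiskerLeft_snd, Category.assoc _ e i, he,
        hone, _root_.mul_one, rightUnitor_hom]
    mul_assoc := by
      rw [← cancel_mono i]
      simp only [Category.assoc]
      rw [hm', hm']
      simp only [Category.assoc, whiskerRight_fst_assoc, whiskerRight_snd_assoc, whiskerLeft_fst_assoc,
        whiskerLeft_snd_assoc, associator_hom_fst_assoc, MonObj.comp_mul, hm', associator_hom_snd_fst_assoc,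
        associator_hom_snd_snd_assoc, _root_.mul_assoc] }
  letI : GrpObj H :=
  { M with
    inv := v
    left_inv := by
      show lift v (𝟙 H) ≫ m = toUnit H ≫ e
      rw [← cancel_mono i, Category.assoc, hm', lift_fst, lift_snd, Category.id_comp, hv, Category.assoc, he, hone,
        inv_mul_cancel]
    right_inv := by
      show lift (𝟙 H) v ≫ m = toUnit H ≫ e
      rw [← cancel_mono i, Category.assoc, hm', lift_fst, lift_snd, Category.id_comp, hv, Category.assoc, he, hone,
        mul_inv_cancel] }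
  refine ⟨‹GrpObj H›, { one_hom := he, mul_hom := ?_ }⟩
  show m ≫ i = (i ⊗ₘ i) ≫ μ[G]
  rw [hm, Hom.mul_def]
  congr 1

/-- Products of points killing a Hopf ideal kill it. -/
theorem convMul_eq_zero {A B : Type*} [CommRing A] [HopfAlgebra k A] [CommRing B] [Algebra k B] (I : Ideal A)
    [I.IsHopfIdeal k] (x y : WithConv (A →ₐ[k] B)) (hx : ∀ a ∈ I, x.ofConv a = 0) (hy : ∀ a ∈ I, y.ofConv a = 0)
    {a : A} (ha : a ∈ I) : (x * y).ofConv a = 0 := by
  show Algebra.TensorProduct.lmul' k (Algebra.TensorProduct.map x.ofConv y.ofConv (Coalgebra.comul (R := k) a)) = 0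
  let g' : A ⧸ I.restrictScalars k →ₗ[k] B := (I.restrictScalars k).liftQ x.ofConv.toLinearMap hx
  let h' : A ⧸ I.restrictScalars k →ₗ[k] B := (I.restrictScalars k).liftQ y.ofConv.toLinearMap hy
  have key : ∀ z : A ⊗[k] A, Algebra.TensorProduct.lmul' k (Algebra.TensorProduct.map x.ofConv y.ofConv z) =
      LinearMap.mul' k B (TensorProduct.map g' h'
        (TensorProduct.map (I.restrictScalars k).mkQ (I.restrictScalars k).mkQ z)) := fun z => by
    induction z using TensorProduct.induction_on with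
    | zero => simp
    | tmul p q => simp [g', h']
    | add p q hp hq => simp only [map_add, hp, hq]
  rw [key, Submodule.IsCoideal.map_mkQ_comul_eq_zero (I := I.restrictScalars k) ha, map_zero, map_zero]

variable [GrpObj G] [IsAffine G.left]

/-- The closed subgroup scheme of a Hopf ideal. -/
theorem exists_subgroupScheme (I : Ideal (Fn G)) [I.IsHopfIdeal k] :
    ∃ (H : Over (Spec (CommRingCat.of k))) (_ : GrpObj H) (i : H ⟶ G), IsMonHom i ∧ IsClosedImmersion i.left ∧
      IsAffine H.left ∧ (∀ f, ev i f = 0 ↔ f ∈ I) ∧ Nonempty (H.left ≅ Spec (CommRingCat.of (Fn G ⧸ I))) := by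
  let H := VecGrp.pt k (Fn G ⧸ I)
  let i : H ⟶ G := toPt (Ideal.Quotient.mkₐ k I)
  haveI hci : IsClosedImmersion i.left := by
    show IsClosedImmersion (Spec.map _ ≫ G.left.isoSpec.inv)
    haveI : IsClosedImmersion (Spec.map (CommRingCat.ofHom (Ideal.Quotient.mkₐ k I).toRingHom)) :=
      IsClosedImmersion.spec_of_surjective _ Ideal.Quotient.mk_surjective
    infer_instance
  haveI hHaff : IsAffine H.left := inferInstanceAs (IsAffine (Spec (CommRingCat.of (Fn G ⧸ I))))
  haveI : Mono i := (Over.forget _).mono_of_mono_map (inferInstanceAs (Mono i.left))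
  have hker : ∀ f, ev i f = 0 ↔ f ∈ I := fun f => by
    have h := AlgHom.congr_fun (pullFn_toPt (Ideal.Quotient.mkₐ k I) : pullFn i = _) f
    rw [pullFn_apply] at h
    rw [← Ideal.Quotient.eq_zero_iff_mem, ← Ideal.Quotient.mkₐ_eq_mk k, ← h]
    exact (map_eq_zero_iff (Scheme.ΓSpecIso (CommRingCat.of (Fn G ⧸ I))).hom.hom
      (ConcreteCategory.bijective_of_isIso _).1).symm
  have hsurj : Function.Surjective (ev i) := AGF27.ev_surjective i
  have fac : ∀ {T : Over (Spec (CommRingCat.of k))} [IsAffine T.left] (φ : T ⟶ G),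
      (∀ f ∈ I, pullFn (univPt T ≫ φ) f = 0) → ∃ ψ : T ⟶ H, ψ ≫ i = φ := fun φ hφ =>
    exists_factor i hsurj φ fun f hf => by rw [← pullFn_univPt_comp]; exact hφ f ((hker f).mp hf)
  have hii : ∀ {B : Type u} [CommRing B] [Algebra k B] (t : VecGrp.pt k B ⟶ H), ∀ f ∈ I, pullFn (t ≫ i) f = 0 :=
    fun t f hf => by rw [pullFn_comp, AlgHom.comp_apply, (hker f).mpr hf, map_zero]
  haveI : IsAffine (H ⊗ H).left := inferInstanceAs (IsAffine (Limits.pullback H.hom H.hom))
  haveI : IsAffine (𝟙_ (Over (Spec (CommRingCat.of k)))).left := inferInstanceAs (IsAffine (Spec (CommRingCat.of k)))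
  have h1 : ∃ e, e ≫ i = η[G] := fac _ fun f hf => by
    rw [show univPt _ ≫ η[G] = (1 : VecGrp.pt k _ ⟶ G) by rw [Hom.one_def, toUnit_unique (univPt _)],
      AGF27.pullFn_one, AlgHom.comp_apply]
    rw [show AGF27.counitAlg G f = 0 from Submodule.IsCoideal.counit_eq_zero (I := I.restrictScalars k) hf, map_zero]
  have h2 : ∃ m : H ⊗ H ⟶ H, m ≫ i = (fst H H ≫ i) * (snd H H ≫ i) := fac _ fun f hf => by
    rw [MonObj.comp_mul, AGF27.pullFn_mul]
    exact convMul_eq_zero I _ _ (fun a ha => by simpa only [← Category.assoc] using hii (univPt _ ≫ fst H H) a ha)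
      (fun a ha => by simpa only [← Category.assoc] using hii (univPt _ ≫ snd H H) a ha) hf
  have h3 : ∃ v : H ⟶ H, v ≫ i = i⁻¹ := fac _ fun f hf => by
    rw [GrpObj.comp_inv, AGF27.pullFn_inv, AlgHom.comp_apply]
    exact hii (univPt H) _ (Ideal.IsHopfIdeal.antipode_mem (R := k) hf)
  obtain ⟨hG, hmon⟩ := exists_grpObj_of_mono i h1 h2 h3
  exact ⟨H, hG, i, hmon, hci, hHaff, hker, ⟨Iso.refl _⟩⟩

end Groth.Agent.AGFHopf
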