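import Groth.Agent.AGFHopf.PtAct
import Groth.Agent.ComodLib.BaseChange
import Groth.Agent.ComodLib.PrimCriteria

/-!
# Unipotent and trigonalizable groups under extension of the base field
-/

universe u

open TensorProduct

namespace Groth.Agent.AGFHopf

open Groth.Agent.ComodLib

variable {k k' A : Type u} [Field k] [Field k'] [Algebra k k'] [CommRing A] [HopfAlgebra k A]

theorem isUnipotent_baseChange (hU : HopfRep.IsUnipotent k A) :
    HopfRep.IsUnipotent k' (k' ⊗[k] A) := by
  refine isUnipotent_of_filtration uniLevel_mono uniLevel_zero ?_ map_comul_uniLevel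
  have h1 : ∀ a : A, (1 : k') ⊗ₜ[k] a ∈ ⨆ r, uniLevel k' (k' ⊗[k] A) r := by
    intro a
    obtain ⟨r, hr⟩ := (Submodule.mem_iSup_of_directed _ uniLevel_mono.directed_le).mp
      ((iSup_uniLevel_eq_top hU).ge (Submodule.mem_top (x := a)))
    refine (Submodule.span_le (p := ((⨆ r, uniLevel k' (k' ⊗[k] A) r).restrictScalars k).comap
      (TensorProduct.mk k k' A 1))).mpr ?_ hr
    rintro _ ⟨n, M, i, j, hM, h, rfl⟩
    show (1 : k') ⊗ₜ[k] M i j ∈ ⨆ r, uniLevel k' (k' ⊗[k] A) r
    refine Submodule.mem_iSup_of_mem r (mem_uniLevel (M := fun i j => (1 : k') ⊗ₜ[k] M i j) ⟨fun i j hij => ?_, fun i j => ?_⟩ h)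
    · show (1 : k') ⊗ₜ[k] M i j = _
      rw [hM.1 i j hij]
      split
      · rfl
      · simp
    · rw [PrimDiag.comul_one_tmul, hM.2, TensorProduct.tmul_sum, map_sum]
      simp [AlgebraTensorModule.distribBaseChange]
  refine eq_top_iff.mpr fun x _ => ?_
  induction x using TensorProduct.induction_on with
  | zero => exact Submodule.zero_mem _
  | tmul c a =>
    rw [show c ⊗ₜ[k] a = c • ((1 : k') ⊗ₜ[k] a) by rw [TensorProduct.smul_tmul', smul_eq_mul, mul_one]]
    exact Submodule.smul_mem _ c (h1 a)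
  | add p q hp hq => exact Submodule.add_mem _ (hp trivial) (hq trivial)

theorem isUnipotent_of_baseChange (hU : HopfRep.IsUnipotent k' (k' ⊗[k] A)) : HopfRep.IsUnipotent k A := by
  intro V _ _ c hfin hnt
  classical
  letI : HopfRep.Comod k' (k' ⊗[k] A) (k' ⊗[k] V) := CoactBr.Comod.baseChange k k' A V
  haveI : Nontrivial (k' ⊗[k] V) := Module.nontrivial_of_finrank_pos
    (R := k') (by rw [Module.finrank_baseChange]; exact Module.finrank_pos)
  have h := hU (k' ⊗[k] V) inferInstance inferInstance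
  rw [fixedPts_baseChange] at h
  intro h0
  rw [h0] at h
  exact h (Submodule.baseChange_bot _)

theorem isTrigonalizable_baseChange (hA : HopfRep.IsTrigonalizable k A) :
    HopfRep.IsTrigonalizable k' (k' ⊗[k] A) := by
  classical
  refine isTrigonalizable_of_flags fun s => ?_
  obtain ⟨t, ht⟩ : ∃ t : Finset A, ∀ x ∈ s, x ∈ Submodule.span k' ((fun a : A => (1 : k') ⊗ₜ[k] a) '' t) := by
    have h1 : ∀ x : k' ⊗[k] A, ∃ t : Finset A, x ∈ Submodule.span k' ((fun a : A => (1 : k') ⊗ₜ[k] a) '' t) := by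
      intro x
      induction x using TensorProduct.induction_on with
      | zero => exact ⟨∅, Submodule.zero_mem _⟩
      | tmul c a =>
        refine ⟨{a}, ?_⟩
        rw [show c ⊗ₜ[k] a = c • ((1 : k') ⊗ₜ[k] a) by rw [TensorProduct.smul_tmul', smul_eq_mul, mul_one]]
        exact Submodule.smul_mem _ _ (Submodule.subset_span ⟨a, by simp, rfl⟩)
      | add p q hp hq =>
        obtain ⟨t, ht⟩ := hp
        obtain ⟨t', ht'⟩ := hq
        exact ⟨t ∪ t', Submodule.add_mem _
          (Submodule.span_mono (Set.image_mono (by simp)) ht) (Submodule.span_mono (Set.image_mono (by simp)) ht')⟩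
    choose T hT using h1
    exact ⟨s.biUnion T, fun x hx => Submodule.span_mono
      (Set.image_mono (Finset.coe_subset.mpr (Finset.subset_biUnion_of_mem T hx))) (hT x)⟩
  obtain ⟨U, hUf, htU, hUs⟩ := exists_finite_subcomod_le (k := k) (C := A) (V := A) t.finite_toSet
  letI : HopfRep.Comod k A U := ComodSub.Comod.restr (HopfRep.Comod.regular k A) U hUs
  haveI := hUf
  obtain ⟨F, hmono, hsub, htop, hrank⟩ := exists_flag hA U
  let G : ℕ → Submodule k' (k' ⊗[k] A) := fun i =>
    Submodule.span k' ((fun a : A => (1 : k') ⊗ₜ[k] a) '' ((F i).map U.subtype : Set A))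
  refine ⟨G, Module.finrank k U, ?_, ?_, ?_, fun x hx => Submodule.span_mono (Set.image_mono ?_) (ht x hx)⟩
  · rw [Submodule.span_eq_bot]
    rintro _ ⟨a, ⟨u, hu, rfl⟩, rfl⟩
    have : F 0 = ⊥ := Submodule.finrank_eq_zero.mp (hrank 0 (Nat.zero_le _))
    rw [this] at hu
    simp [show u = 0 from hu]
  · intro i
    have hi : HopfRep.IsSubcomod (k := k) (A := A) ((F i).map U.subtype) :=
      isSubcomod_map (C := A) (ComodSub.isComodHom_subtype _ U hUs) (hsub i)
    intro w hw
    induction hw using Submodule.span_induction with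
    | mem w hw =>
      obtain ⟨a, ha, rfl⟩ := hw
      obtain ⟨z, hz⟩ := hi a ha
      show Coalgebra.comul (R := k') ((1 : k') ⊗ₜ[k] a) ∈ _
      rw [PrimDiag.comul_one_tmul]
      rw [show Coalgebra.comul (R := k) a = HopfRep.Comod.coact (k := k) (A := A) a from rfl, ← hz]
      clear hz
      induction z using TensorProduct.induction_on with
      | zero => simp
      | tmul p q =>
        rw [LinearMap.rTensor_tmul]
        refine ⟨(⟨(1 : k') ⊗ₜ[k] (p : A), Submodule.subset_span ⟨_, p.2, rfl⟩⟩ : G i) ⊗ₜ[k'] ((1 : k') ⊗ₜ[k] q), ?_⟩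
        simp [AlgebraTensorModule.distribBaseChange]
      | add p q hp hq =>
        rw [map_add, TensorProduct.tmul_add, map_add]
        exact Submodule.add_mem _ hp hq
    | zero => simp
    | add x y _ _ hx hy => rw [map_add]; exact Submodule.add_mem _ hx hy
    | smul c x _ hx => rw [map_smul]; exact Submodule.smul_mem _ c hx
  · intro i hi
    obtain ⟨y, hy, hyn⟩ : ∃ x, x ∈ F (i + 1) ∧ x ∉ F i :=
      SetLike.exists_of_lt (lt_of_le_of_ne (hmono (Nat.le_succ i)) fun h => by
        have h1 := hrank i hi.le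
        have h2 := hrank (i + 1) hi
        rw [← h] at h2
        omega)
    have hle : F (i + 1) ≤ F i ⊔ Submodule.span k {y} :=
      (Submodule.eq_of_le_of_finrank_le
        (sup_le (hmono (Nat.le_succ i)) ((Submodule.span_singleton_le_iff_mem _ _).mpr hy)) (by
        have hlt : F i < F i ⊔ Submodule.span k {y} := lt_of_le_of_ne le_sup_left fun h =>
          hyn (h ▸ Submodule.mem_sup_right (Submodule.mem_span_singleton_self y))
        have h3 := Submodule.finrank_lt_finrank_of_lt hlt
        rw [hrank (i + 1) hi]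
        rw [hrank i hi.le] at h3
        omega)).ge
    refine ⟨(1 : k') ⊗ₜ[k] (y : A), Submodule.span_le.mpr ?_⟩
    rintro _ ⟨_, ⟨u, hu, rfl⟩, rfl⟩
    obtain ⟨v, hv, z, hz, rfl⟩ := Submodule.mem_sup.mp (hle hu)
    obtain ⟨c, rfl⟩ := Submodule.mem_span_singleton.mp hz
    simp only [map_add, map_smul, Submodule.subtype_apply, TensorProduct.tmul_add, SetLike.mem_coe]
    refine Submodule.add_mem _ (Submodule.mem_sup_left (Submodule.subset_span ⟨_, ⟨v, hv, rfl⟩, rfl⟩))
      (Submodule.mem_sup_right ?_)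
    rw [TensorProduct.tmul_smul, ← algebraMap_smul k' c]
    exact Submodule.smul_mem _ _ (Submodule.mem_span_singleton_self _)
  · intro a ha
    exact ⟨⟨a, htU ha⟩, htop ▸ Submodule.mem_top, rfl⟩

end Groth.Agent.AGFHopf
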