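import Groth.Agent.AGFHopf.PTor
import Mathlib.RingTheory.Ideal.KrullsHeightTheorem

/-!
# Existence of Borel subgroups and maximal tori; conjugacy of maximal tori
-/

universe u v

open TensorProduct WithConv

namespace Groth.Agent.AGFHopf

variable {k : Type u} [Field k] [IsAlgClosed k] {A : Type v} [CommRing A] [HopfAlgebra k A] [Algebra.FiniteType k A]

local notation "Γk" => WithConv (A →ₐ[k] k)

/-- Maximal members above a closed irreducible subgroup exist. -/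
theorem exists_maximal_cc (P : Subgroup Γk → Prop) {S₀ : Subgroup Γk} (hS₀ : IsCC S₀) (hP : P S₀) :
    ∃ S, IsCC S ∧ P S ∧ S₀ ≤ S ∧ ∀ T, IsCC T → P T → S ≤ T → T = S := by
  haveI := ZPts.isNoetherianRing (R := ptR k A)
  have hprime : ∀ S : Subgroup Γk, IsCC S → (ZPts.vanI (ptR k A) (S : Set Γk)).IsPrime := fun S hS => by
    refine ⟨fun h => ?_, fun {f g} h => hS.2.2 f g fun x hx => by simpa using h x hx⟩
    obtain ⟨x, hx⟩ := hS.2.1
    exact one_ne_zero ((h ▸ Submodule.mem_top : (1 : ptR k A) ∈ ZPts.vanI (ptR k A) (S : Set Γk)) x hx)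
  let Q : Set ℕ∞ := {n | ∃ S, IsCC S ∧ P S ∧ S₀ ≤ S ∧ (ZPts.vanI (ptR k A) (S : Set Γk)).height = n}
  obtain ⟨n, ⟨S, hS, hPS, hle, hn⟩, hmin⟩ := (wellFounded_lt (α := ℕ∞)).has_min Q ⟨_, S₀, hS₀, hP, le_rfl, rfl⟩
  refine ⟨S, hS, hPS, hle, fun T hT hPT hST => ?_⟩
  by_contra hne
  have hss : (S : Set Γk) ⊂ (T : Set Γk) := ⟨hST, fun h => hne (le_antisymm h hST)⟩
  have hlt := hS.1.vanI_lt hT.1 hss
  haveI := hprime T hT
  haveI := hprime S hS
  exact hmin _ ⟨T, hT, hPT, hle.trans hST, rfl⟩ (hn ▸ Ideal.height_strict_mono_of_isPrime hlt)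

theorem isCC_bot : IsCC (⊥ : Subgroup Γk) := by
  refine ⟨fun x hx => pt_ext fun F => ?_, by rw [Subgroup.coe_bot]; exact ZPts.isIrr_singleton 1⟩
  have := hx (F - algebraMap k (ptR k A) ((F : Γk → k) 1)) fun y hy => by
    rw [Subgroup.coe_bot, Set.mem_singleton_iff] at hy
    subst hy
    simp
  simpa [sub_eq_zero] using this

/-- A connected solvable subgroup lies in a Borel subgroup. -/
theorem exists_bor_above {S : Subgroup Γk} (hS : IsCC S) (hsol : Group.IsSolvable S) :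
    ∃ B, IsBor ⊤ B ∧ S ≤ B := by
  obtain ⟨B, hB, hBs, hle, hmax⟩ := exists_maximal_cc (fun T : Subgroup Γk => Group.IsSolvable T) hS hsol
  exact ⟨B, ⟨le_top, hB, hBs, fun T _ hT hTs h => hmax T hT hTs h⟩, hle⟩

theorem exists_bor : ∃ B : Subgroup Γk, IsBor ⊤ B := by
  haveI : Subsingleton (⊥ : Subgroup Γk) := inferInstance
  obtain ⟨B, hB, -⟩ := exists_bor_above isCC_bot (inferInstance : Group.IsSolvable (⊥ : Subgroup Γk))
  exact ⟨B, hB⟩

theorem IsTor.isSolvable {S : Subgroup Γk} (hS : IsTor S) : Group.IsSolvable S := by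
  letI : CommGroup S := { (inferInstance : Group S) with mul_comm := fun a b => Subtype.ext (hS.2.1 a a.2 b b.2) }
  infer_instance

/-- A maximal torus. -/
def IsMaxTor (S : Subgroup (WithConv (A →ₐ[k] k))) : Prop := IsTor S ∧ ∀ T, IsTor T → S ≤ T → T = S

omit [IsAlgClosed k] [Algebra.FiniteType k A] in
theorem IsMaxTor.cj {S : Subgroup Γk} (hS : IsMaxTor S) (g : Γk) : IsMaxTor (cjSub g S) := by
  refine ⟨hS.1.cj g, fun T hT hle => ?_⟩
  have h1 : ∀ U : Subgroup Γk, cjSub g⁻¹ (cjSub g U) = U := fun U => by rw [cjSub_cjSub, inv_mul_cancel, cjSub_one]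
  rw [← hS.2 (cjSub g⁻¹ T) (hT.cj _) ((h1 S).ge.trans (cjSub_mono g⁻¹ hle)), cjSub_cjSub, mul_inv_cancel, cjSub_one]

/-- Maximal tori of a connected solvable subgroup that are maximal in the whole group are conjugate in it. -/
theorem maxTor_conj_solvable {H S S' : Subgroup Γk} (hH : IsCC H) (hsol : Group.IsSolvable H) (hS : IsMaxTor S)
    (hSH : S ≤ H) (hS' : IsMaxTor S') (hS'H : S' ≤ H) : ∃ h ∈ H, cjSub h S = S' := by
  obtain ⟨T, hTH, hT, hconj, -⟩ := exists_tori hH hsol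
  obtain ⟨u, hu, hle⟩ := hconj S hSH hS.1
  obtain ⟨u', hu', hle'⟩ := hconj S' hS'H hS'.1
  have e : cjSub u T = S := hS.2 _ (hT.cj u) hle
  have e' : cjSub u' T = S' := hS'.2 _ (hT.cj u') hle'
  exact ⟨u' * u⁻¹, mul_mem hu' (inv_mem hu), by rw [← e, cjSub_cjSub, inv_mul_cancel_right, e']⟩

/-- Maximal tori are conjugate, together with Borel subgroups containing them. -/
theorem borelPair_conj (hA : IsCC (⊤ : Subgroup Γk)) {B B' S S' : Subgroup Γk} (hB : IsBor ⊤ B) (hB' : IsBor ⊤ B')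
    (hS : IsMaxTor S) (hSB : S ≤ B) (hS' : IsMaxTor S') (hS'B : S' ≤ B') :
    ∃ g : Γk, cjSub g B = B' ∧ cjSub g S = S' := by
  obtain ⟨c, -, hc⟩ := exists_cjSub_eq hA hB hB'
  obtain ⟨h, hh, he⟩ := maxTor_conj_solvable hB'.2.1 hB'.2.2.1 (hS.cj c) ((cjSub_mono c hSB).trans hc.le) hS' hS'B
  refine ⟨h * c, ?_, ?_⟩
  · rw [← cjSub_cjSub, hc, cjSub_eq_of_mem hh]
  · rw [← cjSub_cjSub, he]

theorem maxTor_conj (hA : IsCC (⊤ : Subgroup Γk)) {S S' : Subgroup Γk} (hS : IsMaxTor S) (hS' : IsMaxTor S') :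
    ∃ g : Γk, cjSub g S = S' := by
  obtain ⟨B, hB, hle⟩ := exists_bor_above hS.1.1 hS.1.isSolvable
  obtain ⟨B', hB', hle'⟩ := exists_bor_above hS'.1.1 hS'.1.isSolvable
  obtain ⟨g, -, hg⟩ := borelPair_conj hA hB hB' hS hle hS' hle'
  exact ⟨g, hg⟩

end Groth.Agent.AGFHopf
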