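import Groth.Agent.AGFHopf.PCone

/-!
# Conjugacy of maximal connected solvable subgroups

The proof is by induction on the group and on a representation with solvable kernel, through a closed orbit of lines.
-/

universe u v w

open TensorProduct WithConv

namespace Groth.Agent.AGFHopf

variable {k : Type u} [Field k] {A : Type v} [CommRing A] [HopfAlgebra k A]

local notation "Γk" => WithConv (A →ₐ[k] k)

theorem IsClImage {S : Set Γk} (hS : ZPts.IsCl (ptR k A) S) (φ : Γk → Γk)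
    (hφ : ∀ F ∈ ptR k A, (fun g => F (φ g)) ∈ ptR k A) : ZPts.IsCl (ptR k A) (φ ⁻¹' S) :=
  fun _ hx => hS fun F hF => hx ⟨_, hφ F F.2⟩ fun y hy => hF (φ y) hy

/-- Closed irreducible subgroups. -/
def IsCC (S : Subgroup Γk) : Prop := ZPts.IsCl (ptR k A) (S : Set Γk) ∧ ZPts.IsIrr (ptR k A) (S : Set Γk)

/-- A Borel subgroup of `H`: maximal closed irreducible solvable. -/
def IsBor (H B : Subgroup Γk) : Prop :=
  B ≤ H ∧ IsCC B ∧ Group.IsSolvable B ∧
    ∀ B' : Subgroup Γk, B' ≤ H → IsCC B' → Group.IsSolvable B' → B ≤ B' → B' = B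

/-- The conjugate `g S g⁻¹`. -/
noncomputable def cjSub (g : Γk) (S : Subgroup Γk) : Subgroup Γk := S.map (MulAut.conj g).toMonoidHom

theorem mem_cjSub {g x : Γk} {S : Subgroup Γk} : x ∈ cjSub g S ↔ g⁻¹ * x * g ∈ S := by
  rw [cjSub, Subgroup.mem_map_equiv, MulAut.conj_symm_apply]

theorem cjSub_cjSub (g h : Γk) (S : Subgroup Γk) : cjSub g (cjSub h S) = cjSub (g * h) S := by
  ext x
  simp only [mem_cjSub, mul_inv_rev, mul_assoc]

theorem cjSub_one (S : Subgroup Γk) : cjSub 1 S = S := by ext x; simp [mem_cjSub]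

theorem cjSub_mono (g : Γk) {S T : Subgroup Γk} (h : S ≤ T) : cjSub g S ≤ cjSub g T := Subgroup.map_mono h

theorem cjSub_eq_of_mem {g : Γk} {S : Subgroup Γk} (hg : g ∈ S) : cjSub g S = S := by
  ext x
  rw [mem_cjSub]
  refine ⟨fun h => ?_, fun h => mul_mem (mul_mem (inv_mem hg) h) hg⟩
  rw [show x = g * (g⁻¹ * x * g) * g⁻¹ by group]
  exact mul_mem (mul_mem hg h) (inv_mem hg)

theorem isCC_cjSub (g : Γk) {S : Subgroup Γk} (hS : IsCC S) : IsCC (cjSub g S) := by
  refine ⟨?_, ?_⟩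
  · rw [show (cjSub g S : Set Γk) = (fun x => g⁻¹ * x * g) ⁻¹' S from Set.ext fun x => mem_cjSub]
    exact IsClImage hS.1 _ fun F hF => (mem_ptR_mul (mem_ptR_mul hF g).1 g⁻¹).2
  · rw [cjSub, Subgroup.coe_map]
    exact hS.2.image _ fun F hF => (mem_ptR_mul (mem_ptR_mul hF g⁻¹).1 g).2

theorem isSolvable_cjSub (g : Γk) {S : Subgroup Γk} (hS : Group.IsSolvable S) : Group.IsSolvable (cjSub g S) :=
  solvable_of_surjective (f := ((MulAut.conj g).toMonoidHom.subgroupMap S))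
    ((MulAut.conj g).toMonoidHom.subgroupMap_surjective S)

theorem IsBor.cj {g : Γk} {H B : Subgroup Γk} (hB : IsBor H B) : IsBor (cjSub g H) (cjSub g B) := by
  refine ⟨cjSub_mono g hB.1, isCC_cjSub g hB.2.1, isSolvable_cjSub g hB.2.2.1, fun B' hle hcc hsolv hBB' => ?_⟩
  have h1 : ∀ S : Subgroup Γk, cjSub g⁻¹ (cjSub g S) = S := fun S => by rw [cjSub_cjSub, inv_mul_cancel, cjSub_one]
  have h := hB.2.2.2 (cjSub g⁻¹ B') ((cjSub_mono g⁻¹ hle).trans (h1 H).le) (isCC_cjSub _ hcc) (isSolvable_cjSub _ hsolv)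
    ((h1 B).ge.trans (cjSub_mono g⁻¹ hBB'))
  rw [← h, cjSub_cjSub, mul_inv_cancel, cjSub_one]

variable [IsAlgClosed k] [Algebra.FiniteType k A]

/-- The identity component of a closed subgroup. -/
theorem exists_component (P : Subgroup Γk) (hP : ZPts.IsCl (ptR k A) (P : Set Γk)) :
    ∃ Z : Subgroup Γk, Z ≤ P ∧ IsCC Z ∧
      ∀ T : Set Γk, ZPts.IsIrr (ptR k A) T → T ⊆ P → (1 : Γk) ∈ T → T ⊆ Z := by
  obtain ⟨F, hFf, hF, hcof⟩ := ZPts.exists_components isVar_ptR hP
  obtain ⟨Z₁, hZ₁, hone⟩ := hcof {1} (ZPts.isIrr_singleton 1) (Set.singleton_subset_iff.mpr (one_mem P))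
  obtain ⟨Z, ⟨hZF, hZ1⟩, hZmax⟩ := Set.Finite.exists_maximal (hFf.subset (Set.sep_subset F fun Z => (1 : Γk) ∈ Z))
    ⟨Z₁, hZ₁, hone rfl⟩
  have hbig : ∀ T : Set Γk, ZPts.IsIrr (ptR k A) T → T ⊆ P → (1 : Γk) ∈ T → T ⊆ Z := by
    intro T hT hTP hT1
    obtain ⟨Z', hZ', hsub⟩ := hcof _ (isIrr_mul hT (hF Z hZF).2.1) fun _ ⟨t, ht, z, hz, e⟩ =>
      e ▸ mul_mem (hTP ht) ((hF Z hZF).2.2 hz)
    have hZZ' : Z ⊆ Z' := fun z hz => hsub ⟨1, hT1, z, hz, one_mul z⟩
    have : Z' ⊆ Z := hZmax ⟨hZ', hZZ' hZ1⟩ hZZ'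
    exact fun t ht => this (hsub ⟨t, ht, 1, hZ1, mul_one t⟩)
  have hsubP : Z ⊆ P := (hF Z hZF).2.2
  let Zg : Subgroup Γk :=
    { carrier := Z
      one_mem' := hZ1
      mul_mem' := fun {a b} ha hb => hbig _ (isIrr_mul (hF Z hZF).2.1 (hF Z hZF).2.1)
        (fun _ ⟨x, hx, y, hy, e⟩ => e ▸ mul_mem (hsubP hx) (hsubP hy)) ⟨1, hZ1, 1, hZ1, mul_one 1⟩ ⟨a, ha, b, hb, rfl⟩
      inv_mem' := fun {a} ha => hbig _ (isIrr_inv (hF Z hZF).2.1)
        (fun _ ⟨x, hx, e⟩ => e ▸ inv_mem (hsubP hx)) ⟨1, hZ1, inv_one⟩ ⟨a, ha, rfl⟩ }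
  exact ⟨Zg, hsubP, ⟨(hF Z hZF).1, (hF Z hZF).2.1⟩, hbig⟩

omit [IsAlgClosed k] [Algebra.FiniteType k A] in
/-- An extension of a solvable kernel by a fixed line is solvable. -/
theorem isSolvable_of_line {V : Type w} [AddCommGroup V] [Module k V] {H : Subgroup Γk} (ρ : H →* Module.End k V)
    (hker : Group.IsSolvable ρ.ker) {z : V} (hz0 : z ≠ 0) (hz : ∀ h, ρ h z ∈ Submodule.span k {z}) (N : Subgroup H)
    (hN : ∀ h ∈ N, ∀ x, ρ h x - x ∈ Submodule.span k {z}) : Group.IsSolvable N := by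
  obtain ⟨φ, hφ⟩ := Module.Projective.exists_dual_eq_one k hz0
  let χ₀ : H →* k :=
    { toFun := fun h => φ (ρ h z)
      map_one' := by simp [hφ]
      map_mul' := fun a b => by
        obtain ⟨c, hc⟩ := Submodule.mem_span_singleton.mp (hz b)
        rw [map_mul, Module.End.mul_apply, ← hc, map_smul, map_smul, map_smul, hφ, smul_eq_mul, smul_eq_mul, mul_one,
          mul_comm] }
  let χ : N →* kˣ := χ₀.toHomUnits.comp N.subtype
  let N₁ : Subgroup N := χ.ker
  have hz1 : ∀ n : N₁, ρ (n : N).1 z = z := fun n => by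
    obtain ⟨c, hc⟩ := Submodule.mem_span_singleton.mp (hz (n : N).1)
    have h1 : φ (ρ (n : N).1 z) = 1 := congrArg Units.val n.2
    rw [← hc, map_smul, hφ, smul_eq_mul, mul_one] at h1
    rw [← hc, h1, one_smul]
  let d : N₁ →* Multiplicative (V →ₗ[k] V) :=
    { toFun := fun n => Multiplicative.ofAdd (ρ (n : N).1 - 1)
      map_one' := by simp
      map_mul' := fun a b => by
        rw [← ofAdd_add]
        congr 1
        refine LinearMap.ext fun x => ?_
        simp only [Subgroup.coe_mul, map_mul, LinearMap.sub_apply, Module.End.mul_apply, Module.End.one_apply, LinearMap.add_apply]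
        obtain ⟨c, hc⟩ := Submodule.mem_span_singleton.mp (hN _ (b : N).2 x)
        rw [eq_sub_iff_add_eq] at hc
        rw [← hc, map_add, map_smul, hz1]
        abel }
  haveI : Group.IsSolvable d.ker := by
    refine solvable_of_solvable_injective (f := ((N.subtype.comp N₁.subtype).comp d.ker.subtype).codRestrict ρ.ker ?_) ?_
    · intro n
      have h1 : ρ ((n : N₁) : N).1 - 1 = 0 := congrArg Multiplicative.toAdd n.2
      exact sub_eq_zero.mp h1
    · exact fun a b e => Subtype.ext (Subtype.ext (Subtype.ext (congrArg (fun x : ρ.ker => (x : H)) e)))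
  haveI : Group.IsSolvable N₁ := solvable_of_ker_le_range d.ker.subtype d (by simp)
  exact solvable_of_ker_le_range N₁.subtype χ (by simp [N₁])

/-- Any two Borel subgroups of a group with a representation with solvable kernel are conjugate. -/
theorem conj_of_rep : ∀ (S : Set Γk), ZPts.IsCl (ptR k A) S → ∀ (H : Subgroup Γk), (H : Set Γk) = S → IsCC H →
    ∀ (V : Type w) [AddCommGroup V] [Module k V] [Module.Finite k V] (ρ : H →* Module.End k V), IsRegRep ρ →
      Group.IsSolvable ρ.ker → ∀ B B' : Subgroup Γk, IsBor H B → IsBor H B' → ∃ h ∈ H, cjSub h B = B' := by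
  intro S hS
  refine ZPts.cl_induction (R := ptR k A) (fun S => ∀ (H : Subgroup Γk), (H : Set Γk) = S → IsCC H →
    ∀ (V : Type w) [AddCommGroup V] [Module k V] [Module.Finite k V] (ρ : H →* Module.End k V), IsRegRep ρ →
      Group.IsSolvable ρ.ker → ∀ B B' : Subgroup Γk, IsBor H B → IsBor H B' → ∃ h ∈ H, cjSub h B = B')
    (fun S _ ih => ?_) hS
  intro H hHS hH V
  -- induction on the dimension of the representation
  suffices ∀ (n : ℕ) (V : Type w) [AddCommGroup V] [Module k V] [Module.Finite k V], Module.finrank k V = n →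
      ∀ (ρ : H →* Module.End k V), IsRegRep ρ →
      Group.IsSolvable ρ.ker → ∀ B B' : Subgroup Γk, IsBor H B → IsBor H B' → ∃ h ∈ H, cjSub h B = B' by
    intro _ _ _
    exact this _ V rfl
  intro n
  induction n using Nat.strong_induction_on with
  | _ n ihn =>
  intro V _ _ _ hn ρ hρ hker B B' hB hB'
  rcases subsingleton_or_nontrivial V with hV | hV
  · -- the group itself is solvable
    have htop : ρ.ker = ⊤ := eq_top_iff.mpr fun h _ => LinearMap.ext fun x => Subsingleton.elim _ _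
    have hsolv : Group.IsSolvable H :=
      solvable_of_surjective (f := ρ.ker.subtype) fun h => ⟨⟨h, htop ▸ trivial⟩, rfl⟩
    exact ⟨1, H.one_mem, by
      rw [cjSub_one, ← hB.2.2.2 H le_rfl hH hsolv hB.1, hB'.2.2.2 H le_rfl hH hsolv hB'.1]⟩
  obtain ⟨C, z, hCl, hC, hst, hzC, hz0, horb⟩ := exists_orbit_cone hH.1 hρ
  by_cases hfix : ∀ h, ρ h z ∈ Submodule.span k {z}
  · -- pass to the quotient by a fixed line
    set L := Submodule.span k {z}
    have hL : ∀ h, L ≤ L.comap (ρ h) := fun h =>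
      (Submodule.span_singleton_le_iff_mem _ _).mpr (hfix h)
    let ρ' : H →* Module.End k (V ⧸ L) :=
      { toFun := fun h => L.mapQ L (ρ h) (hL h)
        map_one' := Submodule.linearMap_qext _ (LinearMap.ext fun x => by simp)
        map_mul' := fun a b => Submodule.linearMap_qext _ (LinearMap.ext fun x => by simp) }
    have hρ' : IsRegRep ρ' := fun f v => by
      obtain ⟨x, rfl⟩ := L.mkQ_surjective v
      exact hρ (f.comp L.mkQ) x
    have hker' : Group.IsSolvable ρ'.ker := isSolvable_of_line ρ hker hz0 hfix ρ'.ker fun h hh x =>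
      (Submodule.Quotient.eq L).mp (LinearMap.congr_fun (show ρ' h = 1 from hh) (L.mkQ x))
    refine ihn (Module.finrank k (V ⧸ L)) ?_ (V ⧸ L) rfl ρ' hρ' hker' B B' hB hB'
    rw [← hn, ← L.finrank_quotient_add_finrank, finrank_span_singleton hz0]
    omega
  -- the stabilizer of the line is a proper subgroup
  obtain ⟨Z, hZ, hZmem⟩ := hρ.exists_stab z (Submodule.span k {z})
  have hinj : ∀ (h : H) (x : V), ρ h x = 0 → x = 0 := fun h x hx => by
    rw [← Module.End.one_apply (R := k) x, ← map_one ρ, ← inv_mul_cancel h, map_mul, Module.End.mul_apply, hx, map_zero]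
  have hmulZ : ∀ x y : H, (x : Γk) ∈ Z → (y : Γk) ∈ Z → ((x * y : H) : Γk) ∈ Z := fun x y hx hy => by
    rw [hZmem] at hx hy ⊢
    obtain ⟨c, hc⟩ := Submodule.mem_span_singleton.mp hy
    rw [map_mul, Module.End.mul_apply, ← hc, map_smul]
    exact Submodule.smul_mem _ c hx
  have hinvZ : ∀ x : H, (x : Γk) ∈ Z → ((x⁻¹ : H) : Γk) ∈ Z := fun x hx => by
    rw [hZmem] at hx ⊢
    obtain ⟨c, hc⟩ := Submodule.mem_span_singleton.mp hx
    have hc0 : c ≠ 0 := fun h => hz0 (hinj _ z (by rw [← hc, h, zero_smul]))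
    refine Submodule.mem_span_singleton.mpr ⟨c⁻¹, ?_⟩
    have e := congrArg (ρ x⁻¹) hc
    rw [map_smul, ← Module.End.mul_apply, ← map_mul, inv_mul_cancel, map_one, Module.End.one_apply] at e
    conv_lhs => rw [← e]
    rw [inv_smul_smul₀ hc0]
  let P : Subgroup Γk :=
    { carrier := (H : Set Γk) ∩ Z
      one_mem' := ⟨H.one_mem, (hZmem 1).mpr (by rw [map_one]; exact Submodule.mem_span_singleton_self z)⟩
      mul_mem' := fun {a b} ha hb => ⟨H.mul_mem ha.1 hb.1, by
        simpa only [Subgroup.coe_mul] using hmulZ ⟨a, ha.1⟩ ⟨b, hb.1⟩ ha.2 hb.2⟩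
      inv_mem' := fun {a} ha => ⟨H.inv_mem ha.1, by
        simpa only [Subgroup.coe_inv] using hinvZ ⟨a, ha.1⟩ ha.2⟩ }
  obtain ⟨P₀, hP₀P, hP₀, hbig⟩ := exists_component P (hH.1.inter hZ)
  have hP₀H : P₀ ≤ H := fun x hx => (hP₀P hx).1
  have hlt : (P₀ : Set Γk) ⊂ S := by
    rw [← hHS]
    refine ⟨hP₀H, fun hle => hfix fun h => (hZmem h).mp (hP₀P (hle h.2)).2⟩
  -- every Borel subgroup moves into the component
  have hmove : ∀ B : Subgroup Γk, IsBor H B → ∃ g ∈ H, IsBor P₀ (cjSub g B) := by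
    intro B hB
    obtain ⟨x, hxC, hx0, hxe⟩ := exists_eigen_mem_cone hB.2.1.2 hB.2.2.1 (hρ.comp hB.1) hCl hC
      (fun h => hst _) ⟨z, hzC, hz0⟩
    obtain ⟨h, t, rfl⟩ := horb x hxC hx0
    refine ⟨(h : Γk)⁻¹, H.inv_mem h.2, ?_⟩
    have hBH : IsBor H (cjSub (h : Γk)⁻¹ B) := by
      have := hB.cj (g := (h : Γk)⁻¹)
      rwa [cjSub_eq_of_mem (H.inv_mem h.2)] at this
    have hle : cjSub (h : Γk)⁻¹ B ≤ P := by
      intro y hy
      rw [mem_cjSub, inv_inv] at hy
      have hyH : y ∈ H := hBH.1 (mem_cjSub.mpr (by rwa [inv_inv]))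
      refine ⟨hyH, (hZmem ⟨y, hyH⟩).mpr ?_⟩
      obtain ⟨c, hc⟩ := Submodule.mem_span_singleton.mp (hxe ⟨_, hy⟩)
      have e : (h * ⟨y, hyH⟩ * h⁻¹ : H) = Subgroup.inclusion hB.1 ⟨_, hy⟩ := rfl
      rw [MonoidHom.comp_apply, ← e, map_smul, smul_comm] at hc
      have hc' := congrArg (ρ h⁻¹) ((Units.isUnit t).smul_left_cancel.mp hc)
      simp only [map_smul, ← Module.End.mul_apply, ← map_mul, inv_mul_cancel, map_one, Module.End.one_apply,
        inv_mul_cancel_left, mul_assoc] at hc'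
      rw [mul_one] at hc'
      exact Submodule.mem_span_singleton.mpr ⟨c, hc'⟩
    refine ⟨fun y hy => hbig _ hBH.2.1.2 hle (one_mem _) hy, hBH.2.1, hBH.2.2.1, fun B'' h1 h2 h3 h4 => ?_⟩
    exact hBH.2.2.2 B'' (h1.trans hP₀H) h2 h3 h4
  obtain ⟨g, hg, hgB⟩ := hmove B hB
  obtain ⟨g', hg', hgB'⟩ := hmove B' hB'
  have hker₀ : Group.IsSolvable (ρ.comp (Subgroup.inclusion hP₀H)).ker := by
    refine solvable_of_solvable_injective
      (f := (((Subgroup.inclusion hP₀H).comp (ρ.comp (Subgroup.inclusion hP₀H)).ker.subtype)).codRestrict ρ.ker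
        fun x => x.2) fun a b e => ?_
    exact Subtype.ext (Subgroup.inclusion_injective hP₀H (congrArg Subtype.val e))
  obtain ⟨p, hp, hpe⟩ := ih _ hP₀.1 hlt P₀ rfl hP₀ V (ρ.comp (Subgroup.inclusion hP₀H)) (hρ.comp hP₀H) hker₀ _ _ hgB hgB'
  refine ⟨g'⁻¹ * (p * g), H.mul_mem (H.inv_mem hg') (H.mul_mem (hP₀H hp) hg), ?_⟩
  rw [← cjSub_cjSub, ← cjSub_cjSub, hpe, cjSub_cjSub, inv_mul_cancel, cjSub_one]

/-- Any two Borel subgroups are conjugate. -/
theorem exists_cjSub_eq {H B B' : Subgroup Γk} (hH : IsCC H) (hB : IsBor H B) (hB' : IsBor H B') :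
    ∃ h ∈ H, cjSub h B = B' := by
  obtain ⟨U, hU, hUf, hgen⟩ := exists_faithful (k := k) (A := A)
  letI := ComodSub.Comod.restr (HopfRep.Comod.regular k A) U hU
  haveI := hUf
  let ρ : H →* Module.End k U := (ptAct U).comp H.subtype
  have hρ : IsRegRep ρ := fun f v => ⟨ComodLib.coefFun (C := A) f v, fun h => by
    show f (ptAct U (h : Γk) v) = _
    rw [ComodLib.coefFun_apply]
    show f (ComodLib.slice (h : Γk).ofConv.toLinearMap (HopfRep.Comod.coact (k := k) (A := A) v)) = _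
    induction HopfRep.Comod.coact (k := k) (A := A) v using TensorProduct.induction_on with
    | zero => simp
    | tmul p q => simp [mul_comm]
    | add p q hp hq => simp only [map_add, hp, hq]⟩
  have hker : ρ.ker = ⊥ := (MonoidHom.ker_eq_bot_iff _).mpr
    ((ptAct_injective_of_generators hU hgen).comp H.subtype_injective)
  haveI : Group.IsSolvable ρ.ker := by rw [hker]; infer_instance
  exact conj_of_rep _ hH.1 H rfl hH U ρ hρ inferInstance B B' hB hB'

end Groth.Agent.AGFHopf
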