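import Groth.Agent.AGFHopf.SchSolv
import Groth.Agent.AGFHopf.PBorel
import Groth.Agent.ComodLib.Rosenlicht
import Groth.Agent.S7974
import Groth.Agent.GrpSchLib.PerfectSmooth

/-!
# Borel subgroup schemes and closed subgroups of rational points
-/

universe u

open CategoryTheory AlgebraicGeometry MonoidalCategory CartesianMonoidalCategory MonObj GrpObj TensorProduct WithConv
open Groth.Agent.GrpSchLib.Kunneth
open scoped Groth.Agent.AGF27

namespace Groth.Agent.AGFHopf

open Groth.Agent.AGF27 (ptConv toPt univPt pullFn_comp pullFn_toPt toPt_pullFn)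

variable {k : Type u} [Field k] {X G H : Over (Spec (CommRingCat.of k))}

local notation "Γk" => WithConv (Fn G →ₐ[k] k)

instance isIso_toUnit_pt : IsIso (toUnit (VecGrp.pt k k)) := by
  haveI : IsIso ((Over.forget _).map (toUnit (VecGrp.pt k k))) := by
    show IsIso (Spec.map (CommRingCat.ofHom (algebraMap k k)))
    rw [show CommRingCat.ofHom (algebraMap k k) = 𝟙 (CommRingCat.of k) from rfl, Spec.map_id]
    infer_instance
  exact isIso_of_reflects_iso _ (Over.forget _)

theorem eq_zero_or_one_of_connected {R : Type*} [CommRing R] [ConnectedSpace (PrimeSpectrum R)] {e : R}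
    (he : IsIdempotentElem e) : e = 0 ∨ e = 1 := by
  have hc : IsClopen (PrimeSpectrum.basicOpen e : Set (PrimeSpectrum R)) :=
    PrimeSpectrum.isClopen_basicOpen_of_mul_add e (1 - e) (by rw [mul_sub, _root_.mul_one, he.eq, sub_self]) (by ring)
  rcases isClopen_iff.mp hc with h | h
  · left
    have hb : PrimeSpectrum.basicOpen e = ⊥ := SetLike.coe_injective (by rw [h]; rfl)
    obtain ⟨n, hn⟩ := (PrimeSpectrum.basicOpen_eq_bot_iff e).mp hb
    cases n with
    | zero => rw [pow_zero] at hn; exact eq_zero_of_zero_eq_one hn.symm e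
    | succ n => rwa [he.pow_succ_eq] at hn
  · right
    have hu : IsUnit e := by
      by_contra hne
      obtain ⟨P, hP, heP⟩ := exists_max_ideal_of_mem_nonunits hne
      have hmem : (⟨P, hP.isPrime⟩ : PrimeSpectrum R) ∈ (PrimeSpectrum.basicOpen e : Set (PrimeSpectrum R)) := by
        rw [h]; trivial
      exact hmem heP
    exact hu.mul_left_cancel (by rw [_root_.mul_one]; exact he.eq)

variable [GrpObj G] [IsAffine G.left]

/-- The rational point of the group scheme given by an algebra point. -/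
noncomputable def ratPt (g : Γk) : 𝟙_ (Over (Spec (CommRingCat.of k))) ⟶ G := inv (toUnit (VecGrp.pt k k)) ≫ toPt g.ofConv

/-- The algebra point of a rational point. -/
noncomputable def algPt (g : 𝟙_ (Over (Spec (CommRingCat.of k))) ⟶ G) : Γk := ptConv G (toUnit (VecGrp.pt k k) ≫ g)

theorem ptConv_toUnit_ratPt (g : Γk) : ptConv G (toUnit (VecGrp.pt k k) ≫ ratPt g) = g := by
  rw [ratPt, IsIso.hom_inv_id_assoc]
  exact (ptConv G).apply_symm_apply g

theorem ptConv_comp_conjBy (g : 𝟙_ (Over (Spec (CommRingCat.of k))) ⟶ G) (i : H ⟶ G) (h : VecGrp.pt k k ⟶ H) :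
    ptConv G (h ≫ AGF.conjBy g i) = algPt g * ptConv G (h ≫ i) * (algPt g)⁻¹ := by
  rw [AGF.conjBy, MonObj.comp_mul, MonObj.comp_mul, GrpObj.comp_inv, map_mul, map_mul, map_inv, ← Category.assoc,
    toUnit_unique (h ≫ toUnit H) (toUnit _)]
  rfl

variable [GrpObj H]

/-- The rational points of a subgroup. -/
noncomputable def pts (i : H ⟶ G) [IsMonHom i] : Subgroup Γk :=
  ((ptConv G).toMonoidHom.comp (MonoidHom.mk' (fun h : VecGrp.pt k k ⟶ H => h ≫ i) fun a b => MonObj.mul_comp a b i)).range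

theorem mem_pts {i : H ⟶ G} [IsMonHom i] {x : Γk} :
    x ∈ pts i ↔ ∃ h : VecGrp.pt k k ⟶ H, ptConv G (h ≫ i) = x := Iff.rfl

theorem eq_zero_of_mem_pts {i : H ⟶ G} [IsMonHom i] {x : Γk} (hx : x ∈ pts i) {f : Fn G} (hf : ev i f = 0) :
    x.ofConv f = 0 := by
  obtain ⟨h, rfl⟩ := hx
  show pullFn (h ≫ i) f = 0
  rw [pullFn_comp, AlgHom.comp_apply, hf, map_zero]

variable [IsAlgClosed k]

theorem mem_pts_of_forall {i : H ⟶ G} [IsMonHom i] [IsClosedImmersion i.left] {x : Γk}
    (hx : ∀ f, ev i f = 0 → x.ofConv f = 0) : x ∈ pts i := by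
  haveI : IsAffine H.left := isAffine_of_isAffineHom i.left
  let χ : Fn H →ₐ[k] k := AlgHom.liftOfSurjective (ev i) (AGF27.ev_surjective i) x.ofConv fun f hf => hx f hf
  refine ⟨toPt χ, WithConv.ofConv_injective ?_⟩
  show pullFn (toPt χ ≫ i) = x.ofConv
  rw [pullFn_comp, pullFn_toPt]
  exact AlgHom.liftOfSurjective_comp _ _ _ _

omit [GrpObj G] [IsAffine G.left] [GrpObj H] in
theorem locallyOfFiniteType_of_closed (i : H ⟶ G) [IsClosedImmersion i.left] [LocallyOfFiniteType G.hom] :
    LocallyOfFiniteType H.hom := by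
  rw [← Over.w i]; infer_instance

/-- A function dies on a reduced subgroup when it dies on its points. -/
theorem ev_eq_zero_iff (i : H ⟶ G) [IsMonHom i] [IsAffine H.left] [LocallyOfFiniteType H.hom] [IsReduced H.left]
    (f : Fn G) : ev i f = 0 ↔ ∀ x ∈ pts i, x.ofConv f = 0 := by
  refine ⟨fun h x hx => eq_zero_of_mem_pts hx h, fun h => AGF27.eq_zero_of_forall_pt fun g => ?_⟩
  have := h _ ⟨g, rfl⟩
  rw [← AlgHom.comp_apply, ← pullFn_comp]
  exact this

theorem isCl_pts (i : H ⟶ G) [IsMonHom i] [IsClosedImmersion i.left] :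
    ZPts.IsCl (ptR k (Fn G)) (pts i : Set Γk) := fun x hx =>
  mem_pts_of_forall fun f hf => hx ⟨_, ptEval_mem f⟩ fun _ hy => eq_zero_of_mem_pts hy hf

omit [GrpObj G] [IsAffine G.left] in
/-- The functions on a smooth connected affine group form a domain. -/
theorem isDomain_fn [IsAffine H.left] [Smooth H.hom] [ConnectedSpace H.left] : IsDomain (Fn H) := by
  haveI : _root_.IsReduced (Fn H) := AGF27.isReduced_fn
  haveI : ConnectedSpace (PrimeSpectrum (Fn H)) :=
    (H.left.isoSpec.hom.surjective).connectedSpace H.left.isoSpec.hom.continuous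
  exact ComodLib.isDomain_of_connected k fun e he => eq_zero_or_one_of_connected he

theorem isCC_pts (i : H ⟶ G) [IsMonHom i] [IsClosedImmersion i.left] [Smooth H.hom] [ConnectedSpace H.left] :
    IsCC (pts i) := by
  haveI : IsAffine H.left := isAffine_of_isAffineHom i.left
  haveI : IsReduced H.left := Groth.Agent.GrpSchLib.isReduced_of_smooth_field H.hom
  haveI := isDomain_fn (H := H)
  refine ⟨isCl_pts i, ⟨1, one_mem _⟩, ?_⟩
  rintro ⟨_, a, rfl⟩ ⟨_, b, rfl⟩ h
  have hab : ev i a * ev i b = 0 := by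
    rw [← map_mul, ev_eq_zero_iff]
    intro x hx
    rw [map_mul]
    exact h x hx
  rcases mul_eq_zero.mp hab with e | e
  · exact Or.inl fun x hx => eq_zero_of_mem_pts hx e
  · exact Or.inr fun x hx => eq_zero_of_mem_pts hx e

theorem isSolvable_pts (i : H ⟶ G) [IsMonHom i] (hs : Red.IsSolvableGrp H) : Group.IsSolvable (pts i) := by
  obtain ⟨n, hn⟩ := hs
  haveI : Group.IsSolvable (VecGrp.pt k k ⟶ H) := ⟨⟨n, hn _⟩⟩
  exact solvable_of_surjective (MonoidHom.rangeRestrict_surjective _)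

/-- A morphism from a reduced scheme factors through a closed subgroup containing its points. -/
theorem exists_factor_of_pts (i : H ⟶ G) [IsMonHom i] [IsClosedImmersion i.left] [IsAffine X.left]
    [LocallyOfFiniteType X.hom] [IsReduced X.left] (φ : X ⟶ G) (h : ∀ x : VecGrp.pt k k ⟶ X, ptConv G (x ≫ φ) ∈ pts i) :
    ∃ ψ : X ⟶ H, ψ ≫ i = φ := by
  haveI : IsAffine H.left := isAffine_of_isAffineHom i.left
  refine exists_factor i (AGF27.ev_surjective i) φ fun f hf => AGF27.eq_zero_of_forall_pt fun g => ?_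
  rw [← AlgHom.comp_apply, ← pullFn_comp]
  exact eq_zero_of_mem_pts (h g) hf

variable [LocallyOfFiniteType G.hom]

omit [GrpObj H] in
/-- A closed irreducible subgroup of points is that of a smooth connected closed subgroup scheme. -/
theorem exists_scheme_of_isCC {S : Subgroup Γk} (hS : IsCC S) :
    ∃ (H : Over (Spec (CommRingCat.of k))) (_ : GrpObj H) (j : H ⟶ G) (_ : IsMonHom j),
      IsClosedImmersion j.left ∧ Smooth H.hom ∧ ConnectedSpace H.left ∧ pts j = S ∧
      (Group.IsSolvable S → Red.IsSolvableGrp H) := by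
  let I : Ideal (Fn G) := ⨅ g ∈ S, RingHom.ker (WithConv.ofConv g : Fn G →ₐ[k] k)
  haveI : I.IsHopfIdeal k := Groth.Agent.S7974.result k (Fn G) S
  have hmem : ∀ a, a ∈ I ↔ ∀ g ∈ S, g.ofConv a = 0 := fun a => by
    simp only [I, Submodule.mem_iInf, RingHom.mem_ker]
  haveI : I.IsPrime := by
    refine ⟨fun h => one_ne_zero (α := k) ?_, fun {a b} hab => ?_⟩
    · rw [← map_one (1 : Γk).ofConv]
      exact (hmem 1).mp (h ▸ Submodule.mem_top) 1 (one_mem S)
    · rw [hmem, hmem]
      exact hS.2.2 ⟨_, ptEval_mem a⟩ ⟨_, ptEval_mem b⟩ fun g hg => by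
        simpa [map_mul] using (hmem _).mp hab g hg
  obtain ⟨H, hH, j, hj, hci, haff, hker, ⟨e⟩⟩ := exists_subgroupScheme I
  haveI := locallyOfFiniteType_of_closed j
  haveI : IsDomain (Fn G ⧸ I) := inferInstance
  haveI : IsReduced H.left := isReduced_of_isOpenImmersion e.hom
  haveI hsm : Smooth H.hom := Groth.Agent.GrpSchLib.smooth_of_perfectField_of_isReduced H
  have hconn : ConnectedSpace H.left := by
    haveI : IrreducibleSpace (Spec (CommRingCat.of (Fn G ⧸ I))) := inferInstance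
    exact (e.inv.surjective).connectedSpace e.inv.continuous
  have hpts : pts j = S := by
    ext x
    refine ⟨fun hx => hS.1 ?_, fun hx => mem_pts_of_forall fun f hf => (hmem f).mp ((hker f).mp hf) x hx⟩
    rintro ⟨_, a, rfl⟩ ha
    exact eq_zero_of_mem_pts hx ((hker a).mpr ((hmem a).mpr ha))
  refine ⟨H, hH, j, hj, hci, hsm, hconn, hpts, fun hsol => isSolvableGrp_of_points ?_⟩
  rw [← hpts] at hsol
  let φ := (ptConv G).toMonoidHom.comp
    (MonoidHom.mk' (fun h : VecGrp.pt k k ⟶ H => h ≫ j) fun a b => MonObj.mul_comp a b j)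
  haveI : Group.IsSolvable φ.range := hsol
  haveI : Mono j := (Over.forget _).mono_of_mono_map (inferInstanceAs (Mono j.left))
  exact solvable_of_solvable_injective (f := φ.rangeRestrict)
    fun a b hab => (cancel_mono j).mp ((ptConv G).injective (congrArg Subtype.val hab))

/-- The points of a Borel subgroup scheme form a maximal closed irreducible solvable subgroup. -/
theorem isBor_pts {i : H ⟶ G} [IsMonHom i] (hB : Red.IsBorelOver k i) : IsBor ⊤ (pts i) := by
  obtain ⟨-, hci, hsm, hc, hsol, hmax⟩ := hB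
  refine ⟨le_top, isCC_pts i, isSolvable_pts i hsol, fun S _ hS hS' hle => ?_⟩
  obtain ⟨H', hH', j, hj, hjc, hjs, hjconn, hpts, hjsol⟩ := exists_scheme_of_isCC hS
  haveI : IsAffine H.left := isAffine_of_isAffineHom i.left
  haveI : IsReduced H.left := Groth.Agent.GrpSchLib.isReduced_of_smooth_field H.hom
  obtain ⟨f, hf⟩ := exists_factor_of_pts j i fun x => hpts.ge (hle ⟨x, rfl⟩)
  haveI := hmax H' j f hjc hjs hjconn (hjsol hS') hf
  refine le_antisymm (fun x hx => ?_) hle
  rw [← hpts] at hx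
  obtain ⟨h, rfl⟩ := mem_pts.mp hx
  exact ⟨h ≫ inv f, by
    show ptConv G ((h ≫ inv f) ≫ i) = _
    rw [← hf, Category.assoc, IsIso.inv_hom_id_assoc]⟩

/-- Borel subgroups of a smooth connected affine group over an algebraically closed field are conjugate. -/
theorem borel_conj [Smooth G.hom] [ConnectedSpace G.left] {B B' : Over (Spec (CommRingCat.of k))} [GrpObj B]
    [GrpObj B'] (iB : B ⟶ G) (iB' : B' ⟶ G) (hB : Red.IsBorelOver k iB) (hB' : Red.IsBorelOver k iB') :
    ∃ (g : 𝟙_ (Over (Spec (CommRingCat.of k))) ⟶ G) (f : B ≅ B'), f.hom ≫ iB' = AGF.conjBy g iB := by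
  haveI := hB.1
  haveI := hB'.1
  haveI := hB.2.1
  haveI := hB'.2.1
  haveI := hB.2.2.1
  haveI := hB'.2.2.1
  haveI : IsAffine B.left := isAffine_of_isAffineHom iB.left
  haveI : IsAffine B'.left := isAffine_of_isAffineHom iB'.left
  haveI : IsReduced B.left := Groth.Agent.GrpSchLib.isReduced_of_smooth_field B.hom
  haveI : IsReduced B'.left := Groth.Agent.GrpSchLib.isReduced_of_smooth_field B'.hom
  haveI : Mono iB := (Over.forget _).mono_of_mono_map (inferInstanceAs (Mono iB.left))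
  haveI : Mono iB' := (Over.forget _).mono_of_mono_map (inferInstanceAs (Mono iB'.left))
  haveI : IsClosedImmersion (𝟙 G : G ⟶ G).left := inferInstanceAs (IsClosedImmersion (𝟙 G.left))
  have htop : pts (𝟙 G) = ⊤ := eq_top_iff.mpr fun x _ => ⟨(ptConv G).symm x, by
    show ptConv G ((ptConv G).symm x ≫ 𝟙 G) = x
    rw [Category.comp_id, MulEquiv.apply_symm_apply]⟩
  obtain ⟨c, -, hc⟩ := exists_cjSub_eq (htop ▸ isCC_pts (𝟙 G)) (isBor_pts hB) (isBor_pts hB')
  have ha : algPt (ratPt c) = c := ptConv_toUnit_ratPt c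
  have ha' : algPt (ratPt c⁻¹) = c⁻¹ := ptConv_toUnit_ratPt c⁻¹
  obtain ⟨f, hf⟩ := exists_factor_of_pts iB' (AGF.conjBy (ratPt c) iB) fun x => by
    rw [ptConv_comp_conjBy, ha, ← hc, mem_cjSub]
    exact ⟨x, by show ptConv G (x ≫ iB) = _; group⟩
  obtain ⟨f', hf'⟩ := exists_factor_of_pts iB (AGF.conjBy (ratPt c⁻¹) iB') fun x => by
    rw [ptConv_comp_conjBy, ha', _root_.inv_inv]
    exact mem_cjSub.mp (hc.ge ⟨x, rfl⟩)
  have hinv : (ratPt c⁻¹ : _ ⟶ G) = (ratPt c)⁻¹ := by
    apply (cancel_epi (toUnit (VecGrp.pt k k))).mp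
    apply (ptConv G).injective
    rw [ptConv_toUnit_ratPt, GrpObj.comp_inv, map_inv, ptConv_toUnit_ratPt]
  rw [hinv] at hf'
  refine ⟨ratPt c, ⟨f, f', ?_, ?_⟩, hf⟩
  · rw [← cancel_mono iB, Category.assoc, hf', Category.id_comp, AGF.conjBy]
    simp only [MonObj.comp_mul, GrpObj.comp_inv, hf, toUnit_unique _ (toUnit B), comp_toUnit_assoc, AGF.conjBy]
    group
  · rw [← cancel_mono iB', Category.assoc, hf, Category.id_comp, AGF.conjBy]
    simp only [MonObj.comp_mul, GrpObj.comp_inv, hf', comp_toUnit_assoc, AGF.conjBy]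
    group

end Groth.Agent.AGFHopf
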