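import Groth.Agent.ComodLib.Unitriangular
import Groth.Agent.ComodLib.MatrixComod
import Mathlib.GroupTheory.Nilpotent
import Mathlib.RingTheory.Polynomial.Pochhammer
import Mathlib.Algebra.CharP.Lemmas
import Mathlib.RingTheory.HopfAlgebra.Convolution
import Groth.Agent.GrpSchLib.HopfQuotEtale

/-!
# Points of unipotent groups as unitriangular matrices

A finitely generated unipotent coordinate bialgebra is generated by the entries of one comultiplicative
unitriangular matrix, so its points embed in a group of unitriangular matrices.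
-/

universe u v w

open TensorProduct WithConv
open scoped commutatorElement

namespace Groth.Agent.AGFHopf

open Groth.Agent.ComodLib

section Abstract

variable {S : Type*} [Ring S]

/-- A group mapping injectively into `1 + F 1` for a multiplicative filtration reaching zero is nilpotent. -/
theorem isNilpotent_of_filtration {Γ : Type*} [Group Γ] (f : Γ →* S) (hf : Function.Injective f)
    (F : ℕ → AddSubgroup S) (hanti : Antitone F)
    (hmul : ∀ a b, ∀ x ∈ F a, ∀ y ∈ F b, x * y ∈ F (a + b))
    {m : ℕ} (hm : ∀ x ∈ F m, x = 0) (h1 : ∀ g, f g - 1 ∈ F 1) : Group.IsNilpotent Γ := by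
  have key : ∀ r : ℕ, ∀ x ∈ Subgroup.lowerCentralSeries (⊤ : Subgroup Γ) r, f x - 1 ∈ F (r + 1) := by
    intro r
    induction r with
    | zero => intro x _; exact h1 x
    | succ r ih =>
      intro x hx
      rw [Subgroup.lowerCentralSeries_succ, Subgroup.commutator_def] at hx
      induction hx using Subgroup.closure_induction with
      | one => simp
      | mem x hx =>
        obtain ⟨g, hg, h, -, rfl⟩ := hx
        have e : f ⁅g, h⁆ - 1 =
            ((f g - 1) * (f h - 1) - (f h - 1) * (f g - 1)) * (1 + (f (g⁻¹ * h⁻¹) - 1)) := by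
          have hinv : (f h * f g) * f (g⁻¹ * h⁻¹) = 1 := by
            rw [← map_mul, ← map_mul, show h * g * (g⁻¹ * h⁻¹) = 1 by group, map_one]
          rw [add_sub_cancel, show (f g - 1) * (f h - 1) - (f h - 1) * (f g - 1) = f g * f h - f h * f g by noncomm_ring,
            sub_mul, hinv, commutatorElement_def, show g * h * g⁻¹ * h⁻¹ = g * h * (g⁻¹ * h⁻¹) by group,
            map_mul, map_mul]
        have hc : (f g - 1) * (f h - 1) - (f h - 1) * (f g - 1) ∈ F (r + 1 + 1) :=
          sub_mem (hmul _ _ _ (ih g hg) _ (h1 h))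
            (by simpa [add_comm, add_left_comm] using hmul _ _ _ (h1 h) _ (ih g hg))
        rw [e, mul_add, mul_one]
        exact add_mem hc (hanti (Nat.le_succ _) (hmul _ _ _ hc _ (h1 _)))
      | mul x y _ _ hx hy =>
        have e : f (x * y) - 1 = (f x - 1) + (f y - 1) + (f x - 1) * (f y - 1) := by rw [map_mul]; noncomm_ring
        rw [e]
        exact add_mem (add_mem hx hy) (hanti (Nat.le_add_right _ _) (hmul _ _ _ hx _ hy))
      | inv x _ hx =>
        have e : f x⁻¹ - 1 = -((f x - 1) + (f x - 1) * (f x⁻¹ - 1)) := by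
          have : f x * f x⁻¹ = 1 := by rw [← map_mul, mul_inv_cancel, map_one]
          rw [show (f x - 1) + (f x - 1) * (f x⁻¹ - 1) = f x * f x⁻¹ - f x⁻¹ by noncomm_ring, this]
          abel
        rw [e]
        exact neg_mem (add_mem hx (hanti (Nat.le_add_right _ _) (hmul _ _ _ hx _ (h1 _))))
  rw [Subgroup.nilpotent_iff_lowerCentralSeries]
  refine ⟨m, eq_bot_iff.mpr fun x hx => Subgroup.mem_bot.mpr (hf ?_)⟩
  rw [map_one, ← sub_eq_zero]
  exact hm _ (hanti (Nat.le_succ m) (key m x hx))

end Abstract

section Upper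

variable {R : Type w} [CommRing R] {n : ℕ}

/-- Matrices vanishing below the `r`-th superdiagonal. -/
def upperSub (R : Type w) [CommRing R] (n r : ℕ) : AddSubgroup (Matrix (Fin n) (Fin n) R) where
  carrier := {X | ∀ i j : Fin n, (j : ℕ) < (i : ℕ) + r → X i j = 0}
  add_mem' hx hy i j h := by simp [hx i j h, hy i j h]
  zero_mem' _ _ _ := rfl
  neg_mem' hx i j h := by simp [hx i j h]

theorem upperSub_anti : Antitone (upperSub R n) := fun _ _ hab _ hx i j h => hx i j (by omega)

theorem upperSub_mul {a b : ℕ} {x y : Matrix (Fin n) (Fin n) R} (hx : x ∈ upperSub R n a)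
    (hy : y ∈ upperSub R n b) : x * y ∈ upperSub R n (a + b) := fun i j h => by
  rw [Matrix.mul_apply]
  refine Finset.sum_eq_zero fun l _ => ?_
  by_cases hl : (l : ℕ) < (i : ℕ) + a
  · rw [hx i l hl, zero_mul]
  · rw [hy l j (by omega), mul_zero]

theorem upperSub_pow {x : Matrix (Fin n) (Fin n) R} (hx : x ∈ upperSub R n 1) :
    ∀ r, x ^ r ∈ upperSub R n r
  | 0 => fun i j h => by
    rw [pow_zero, Matrix.one_apply_ne]
    rintro rfl
    omega
  | r + 1 => by rw [pow_succ]; exact upperSub_mul (upperSub_pow hx r) hx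

theorem upperSub_top {x : Matrix (Fin n) (Fin n) R} (hx : x ∈ upperSub R n n) : x = 0 :=
  Matrix.ext fun i j => hx i j (by omega)

end Upper

section Pts

variable {k : Type u} [Field k] {A : Type v} [CommRing A] [Bialgebra k A]

/-- The value matrix of a point. -/
def ptMat {R : Type w} [CommRing R] [Algebra k R] {n : ℕ} (M : Fin n → Fin n → A) (g : A →ₐ[k] R) :
    Matrix (Fin n) (Fin n) R := Matrix.of fun i j => g (M i j)

theorem ptMat_convMul {R : Type w} [CommRing R] [Algebra k R] {n : ℕ} {M : Fin n → Fin n → A}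
    (hM : IsUniMatrix k M) (g h : WithConv (A →ₐ[k] R)) :
    ptMat M (g * h).ofConv = ptMat M g.ofConv * ptMat M h.ofConv := by
  refine Matrix.ext fun i j => ?_
  show Algebra.TensorProduct.lmul' k (Algebra.TensorProduct.map g.ofConv h.ofConv
      (Coalgebra.comul (R := k) (M i j))) = _
  rw [hM.2, map_sum, map_sum, Matrix.mul_apply]
  simp [ptMat]

theorem counit_uniMatrix {n : ℕ} {M : Fin n → Fin n → A} (hM : IsUniMatrix k M) (i j : Fin n) :
    Coalgebra.counit (R := k) (M i j) = if i = j then 1 else 0 := by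
  suffices hE : ptMat M (Bialgebra.counitAlgHom k A) = 1 by
    have := congrFun (congrFun hE i) j
    rwa [Matrix.one_apply] at this
  set E := ptMat M (Bialgebra.counitAlgHom k A) with hE
  have hidem : E * E = E := by
    have := ptMat_convMul hM (1 : WithConv (A →ₐ[k] k)) 1
    rw [one_mul] at this
    have h1 : ptMat M ((1 : WithConv (A →ₐ[k] k)).ofConv) = E := Matrix.ext fun i j => by
      simp [hE, ptMat]
    rw [h1] at this
    exact this.symm
  have hup : E - 1 ∈ upperSub k n 1 := fun i j h => by
    have hij : j ≤ i := Fin.le_def.mpr (by omega)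
    simp only [Matrix.sub_apply, hE, ptMat, Matrix.of_apply, hM.1 i j hij, Matrix.one_apply]
    split <;> simp
  have hD : (1 - E) ^ n = 0 := by
    have h := upperSub_top (upperSub_pow hup n)
    rw [← neg_sub E 1, neg_pow, h, mul_zero]
  rcases Nat.eq_zero_or_pos n with rfl | hn
  · exact Subsingleton.elim _ _
  · have : ∀ m, (1 - E) ^ (m + 1) = 1 - E := fun m => by
      induction m with
      | zero => simp
      | succ m ih => rw [pow_succ, ih, sub_mul, one_mul, mul_sub, mul_one, hidem, sub_self, sub_zero]
    obtain ⟨m, rfl⟩ := Nat.exists_eq_succ_of_ne_zero hn.ne'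
    rw [this m, sub_eq_zero] at hD
    exact hD.symm

theorem isComodMatrix_of_isUniMatrix {n : ℕ} {M : Fin n → Fin n → A} (hM : IsUniMatrix k M) :
    IsComodMatrix k M := ⟨hM.2, counit_uniMatrix hM⟩

theorem ptMat_sub_one {R : Type w} [CommRing R] [Algebra k R] {n : ℕ} {M : Fin n → Fin n → A}
    (hM : IsUniMatrix k M) (g : A →ₐ[k] R) : ptMat M g - 1 ∈ upperSub R n 1 := fun i j h => by
  have hij : j ≤ i := Fin.le_def.mpr (by omega)
  simp only [Matrix.sub_apply, ptMat, Matrix.of_apply, hM.1 i j hij, Matrix.one_apply]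
  split <;> simp

/-- The matrix representation of the points. -/
noncomputable def ptMatHom (R : Type w) [CommRing R] [Algebra k R] {n : ℕ} {M : Fin n → Fin n → A}
    (hM : IsUniMatrix k M) : WithConv (A →ₐ[k] R) →* Matrix (Fin n) (Fin n) R where
  toFun g := ptMat M g.ofConv
  map_one' := Matrix.ext fun i j => by
    rw [Matrix.one_apply]
    show algebraMap k R (Coalgebra.counit (R := k) (M i j)) = _
    rw [counit_uniMatrix hM]
    split <;> simp
  map_mul' := ptMat_convMul hM

theorem ptMat_injective {R : Type w} [CommRing R] [Algebra k R] {n : ℕ} {M : Fin n → Fin n → A}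
    (hgen : Algebra.adjoin k {a | ∃ i j, M i j = a} = ⊤) {g h : A →ₐ[k] R}
    (e : ptMat M g = ptMat M h) : g = h :=
  AlgHom.ext_of_adjoin_eq_top hgen fun a ⟨i, j, hij⟩ => hij ▸ congrFun (congrFun e i) j

/-- The coordinate bialgebra of an algebraic unipotent monoid is generated by one unitriangular matrix. -/
theorem exists_generating_uniMatrix [Algebra.FiniteType k A] (hU : HopfRep.IsUnipotent k A) :
    ∃ (n : ℕ) (M : Fin n → Fin n → A), IsUniMatrix k M ∧ Algebra.adjoin k {a | ∃ i j, M i j = a} = ⊤ := by
  obtain ⟨s, hs⟩ := (Algebra.FiniteType.out : (⊤ : Subalgebra k A).FG)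
  obtain ⟨U, hUf, hsU, hUs⟩ := exists_finite_subcomod_le (k := k) (C := A) (V := A) s.finite_toSet
  letI : HopfRep.Comod k A U := ComodSub.Comod.restr (HopfRep.Comod.regular k A) U hUs
  obtain ⟨b, hb⟩ := exists_uniMatrix_basis hU U
  refine ⟨_, coeffMatrix b, hb, top_unique ?_⟩
  rw [← hs]
  refine Algebra.adjoin_le fun a ha => ?_
  have hcoef : Hoch.IsComodHom A U.subtype := ComodSub.isComodHom_subtype _ U hUs
  have h1 : ∀ u : U, U.subtype u ∈ coeffSpace k A U := fun u => range_le_coeffSpace hcoef ⟨u, rfl⟩
  have h2 : coeffSpace k A U ≤ Subalgebra.toSubmodule (Algebra.adjoin k {a | ∃ i j, coeffMatrix (A := A) b i j = a}) := by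
    refine iSup_le fun f => ?_
    rintro _ ⟨u, rfl⟩
    have : coefFun (C := A) f u = ∑ i, f (b i) • ∑ j, b.repr u j • coeffMatrix b i j := by
      rw [coefFun_apply]
      simp only [← counit_smul_coeffMatrix]
      induction HopfRep.Comod.coact (k := k) (A := A) u using TensorProduct.induction_on with
      | zero => simp
      | add p q hp hq => simp only [map_add, smul_add, Finset.sum_add_distrib, hp, hq]
      | tmul x c =>
        simp only [LinearMap.rTensor_tmul, TensorProduct.lid_tmul, Module.Basis.coord_apply, smul_smul,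
          ← Finset.sum_smul]
        congr 1
        conv_lhs => rw [← b.sum_repr x]
        simp only [map_sum, map_smul, smul_eq_mul]
        exact Finset.sum_congr rfl fun _ _ => mul_comm _ _
    rw [this]
    exact Submodule.sum_mem _ fun i _ => Submodule.smul_mem _ _ (Submodule.sum_mem _ fun j _ =>
      Submodule.smul_mem _ _ (Algebra.subset_adjoin ⟨i, j, rfl⟩))
  exact h2 (h1 ⟨a, hsU ha⟩)

theorem isNilpotent_points {H : Type v} [CommRing H] [HopfAlgebra k H]
    [Algebra.FiniteType k H] (hU : HopfRep.IsUnipotent k H) :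
    Group.IsNilpotent (WithConv (H →ₐ[k] k)) := by
  obtain ⟨n, M, hM, hgen⟩ := exists_generating_uniMatrix hU
  exact isNilpotent_of_filtration (ptMatHom k hM) (fun g h e => ofConv_injective (ptMat_injective hgen e))
    (upperSub k n) upperSub_anti (fun a b x hx y hy => upperSub_mul hx hy) (fun x hx => upperSub_top hx)
    fun g => ptMat_sub_one hM g.ofConv

/-- The group of points of a Hopf algebra in any algebra. -/
@[reducible] noncomputable def ptsGroup (H : Type v) [CommRing H] [HopfAlgebra k H] (R : Type w) [CommRing R]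
    [Algebra k R] : Group (WithConv (H →ₐ[k] R)) :=
  { (inferInstance : Monoid (WithConv (H →ₐ[k] R))) with
    inv := fun f => toConv (f.ofConv.comp (HopfAlgebra.antipodeAlgHom k H))
    inv_mul_cancel := fun f => GrpSchLib.HopfQuot.inv_convMul_self f.ofConv }

end Pts

section Root

open Polynomial

variable {K : Type w} [Field K] [CharZero K] {n : ℕ}

/-- The polynomial `choose (X, r)`. -/
noncomputable def chooseX (K : Type w) [Field K] (r : ℕ) : K[X] := C ((r.factorial : K)⁻¹) * descPochhammer K r

theorem eval_chooseX (r m : ℕ) : (chooseX K r).eval (m : K) = (m.choose r : K) := by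
  rw [chooseX, eval_mul, eval_C, descPochhammer_eval_eq_descFactorial, Nat.descFactorial_eq_factorial_mul_choose,
    Nat.cast_mul, inv_mul_cancel_left₀ (Nat.cast_ne_zero.mpr r.factorial_ne_zero)]

/-- The interpolated powers of a unipotent matrix. -/
noncomputable def powPoly (X₀ : Matrix (Fin n) (Fin n) K) : Matrix (Fin n) (Fin n) K[X] :=
  ∑ r ∈ Finset.range n, chooseX K r • ((X₀ - 1) ^ r).map C

theorem powPoly_eval_nat {X₀ : Matrix (Fin n) (Fin n) K} (h : X₀ - 1 ∈ upperSub K n 1) (m : ℕ) :
    (powPoly X₀).map (evalRingHom (m : K)) = X₀ ^ m := by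
  set N := X₀ - 1 with hN
  have hX : X₀ = 1 + N := by simp [hN]
  have e : X₀ ^ m = ∑ r ∈ Finset.range n, (m.choose r : K) • N ^ r := by
    rw [hX, add_comm, (Commute.one_right N).add_pow]
    simp only [one_pow, mul_one, ← Nat.cast_comm, ← nsmul_eq_mul]
    simp only [← Nat.cast_smul_eq_nsmul K]
    rcases Nat.lt_or_ge m n with hm | hm
    · refine Finset.sum_subset (Finset.range_subset_range.mpr hm) fun r _ hr => ?_
      rw [Nat.choose_eq_zero_of_lt (by simp at hr; omega)]
      simp
    · refine (Finset.sum_subset (Finset.range_subset_range.mpr (by omega)) fun r _ hr => ?_).symm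
      have : N ^ r = 0 := upperSub_top (upperSub_anti (by simp at hr; omega) (upperSub_pow h r))
      rw [this, smul_zero]
  rw [e]
  ext i j
  simp only [powPoly, Matrix.map_apply, Matrix.sum_apply, coe_evalRingHom, eval_finset_sum, Matrix.smul_apply,
    smul_eq_mul, eval_mul, eval_C, eval_chooseX, ← hN]

end Root

end Groth.Agent.AGFHopf
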