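import Groth.Agent.AGFHopf.PtAct
import Groth.Agent.S7988
import Mathlib.LinearAlgebra.JordanChevalley
import Mathlib.RingTheory.HopfAlgebra.Convolution

/-!
# The Jordan decomposition of a point of an affine group
-/

universe u v w

open TensorProduct WithConv

namespace Groth.Agent.AGFHopf

open Groth.Agent.ComodLib

section Lin

variable {k : Type u} [Field k] {V : Type v} [AddCommGroup V] [Module k V]

/-- `α = s u` is a multiplicative Jordan decomposition. -/
def IsJordan (α s u : Module.End k V) : Prop :=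
  s.IsSemisimple ∧ IsNilpotent (u - 1) ∧ Commute s u ∧ s * u = α

theorem IsJordan.unique [PerfectField k] [FiniteDimensional k V] {α s u s' u' : Module.End k V} (hα : IsUnit α)
    (h : IsJordan α s u) (h' : IsJordan α s' u') : s = s' ∧ u = u' := by
  have hn : ∀ {s u : Module.End k V}, IsJordan α s u →
      IsNilpotent (s * (u - 1)) ∧ Commute (s * (u - 1)) s ∧ s * (u - 1) + s = α := fun {s u} ⟨_, hu, hc, he⟩ =>
    ⟨(hc.sub_right (Commute.one_right _)).isNilpotent_mul_left hu,
      (Commute.refl s).mul_left (hc.sub_right (Commute.one_right _)).symm, by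
        rw [mul_sub, mul_one, sub_add_cancel, he]⟩
  have hs : s = s' := ((Module.End.isNilpotent_isSemisimple_unique (hn h).1 h.1 (hn h').1 h'.1 (hn h).2.1
    (hn h').2.1 ((hn h).2.2.trans (hn h').2.2.symm))).2
  subst hs
  refine ⟨rfl, ?_⟩
  have hsu : IsUnit s := (h.2.2.1.isUnit_mul_iff.mp (h.2.2.2.symm ▸ hα)).1
  exact hsu.mul_left_cancel (h.2.2.2.trans h'.2.2.2.symm)

theorem exists_isJordan [PerfectField k] [FiniteDimensional k V] {α : Module.End k V} (hα : IsUnit α) :
    ∃ s u, IsJordan α s u := by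
  obtain ⟨n, hn, s, hs, hnil, hss, hsum⟩ := Module.End.exists_isNilpotent_isSemisimple (f := α)
  have hcomm : Commute n s :=
    Algebra.commute_of_mem_adjoin_singleton_of_commute hs
      ((Algebra.commute_of_mem_adjoin_singleton_of_commute hn (Commute.refl α)).symm)
  have hsu : IsUnit s := by
    have hcα : Commute (-n) α := by rw [hsum]; exact ((Commute.refl n).add_right hcomm).neg_left
    have := hnil.neg.isUnit_add_left_of_commute hα hcα
    rwa [show α + -n = s by rw [hsum]; abel] at this
  obtain ⟨t, rfl⟩ := hsu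
  refine ⟨t, 1 + (↑t⁻¹ : Module.End k V) * n, hss, ?_, ?_, ?_⟩
  · rw [add_sub_cancel_left]
    exact (hcomm.symm.units_inv_left).isNilpotent_mul_left hnil
  · exact (Commute.one_right _).add_right ((Commute.refl (t : Module.End k V)).units_inv_right.mul_right hcomm.symm)
  · rw [mul_add, mul_one, ← mul_assoc, Units.mul_inv, one_mul, hsum, add_comm]

/-- The semisimple part of an automorphism. -/
noncomputable def ssPart (α : Module.End k V) : Module.End k V :=
  open Classical in if h : ∃ s u, IsJordan α s u then h.choose else 0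

theorem IsJordan.ssPart_eq [PerfectField k] [FiniteDimensional k V] {α s u : Module.End k V} (hα : IsUnit α)
    (h : IsJordan α s u) : ssPart α = s := by
  have hex : ∃ s u, IsJordan α s u := ⟨s, u, h⟩
  rw [ssPart, dif_pos hex]
  exact (hex.choose_spec.choose_spec.unique hα h).1

theorem exists_isJordan_ssPart [PerfectField k] [FiniteDimensional k V] {α : Module.End k V} (hα : IsUnit α) :
    ∃ u, IsJordan α (ssPart α) u := by
  obtain ⟨s, u, h⟩ := exists_isJordan hα
  exact ⟨u, h.ssPart_eq hα ▸ h⟩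

/-- Jordan decompositions are natural. -/
theorem comp_ssPart [PerfectField k] [FiniteDimensional k V] {W : Type w} [AddCommGroup W] [Module k W]
    [FiniteDimensional k W] {α : Module.End k V} (hα : IsUnit α) {β : Module.End k W} (hβ : IsUnit β)
    (φ : V →ₗ[k] W) (hφ : φ ∘ₗ α = β ∘ₗ φ) : φ ∘ₗ ssPart α = ssPart β ∘ₗ φ := by
  obtain ⟨u, h⟩ := exists_isJordan_ssPart hα
  obtain ⟨u', h'⟩ := exists_isJordan_ssPart hβ
  exact (Groth.Agent.S7988.result k V W α (ssPart α) u β (ssPart β) u' hα hβ h.1 h.2.1 h.2.2.1 h.2.2.2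
    h'.1 h'.2.1 h'.2.2.1 h'.2.2.2 φ hφ).1

theorem isNilpotent_mul_sub_one {E : Type*} [Ring E] {x y : E} (hx : IsNilpotent (x - 1)) (hy : IsNilpotent (y - 1))
    (h : Commute x y) : IsNilpotent (x * y - 1) := by
  rw [show x * y - 1 = (x - 1) * y + (y - 1) by rw [sub_mul, one_mul]; abel]
  have h1 : Commute (x - 1) y := h.sub_left (Commute.one_left y)
  have h2 : Commute ((x - 1) * y) (y - 1) :=
    ((h1.mul_left (Commute.refl y)).sub_right (Commute.one_right _))
  exact h2.isNilpotent_add (h1.isNilpotent_mul_right hx) hy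

theorem exists_fin_sub {C : Type v} [AddCommGroup C] [Module k C] [Coalgebra k C] (U : Submodule k C)
    [Module.Finite k U] : ∃ W : Submodule k C, Module.Finite k W ∧ U ≤ W ∧ HopfRep.IsSubcomod (k := k) (A := C) W := by
  obtain ⟨s, hs⟩ := Module.Finite.iff_fg.mp (inferInstance : Module.Finite k U)
  obtain ⟨W, hWf, hW, hWs⟩ := exists_finite_subcomod_le (k := k) (C := C) (V := C) s.finite_toSet
  exact ⟨W, hWf, hs ▸ Submodule.span_le.mpr hW, hWs⟩

end Lin

variable {k : Type u} [Field k] [PerfectField k] {A : Type v} [CommRing A] [HopfAlgebra k A]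

local notation "Γk" => WithConv (A →ₐ[k] k)

theorem isUnit_ptAct (V : Type w) [AddCommGroup V] [Module k V] [HopfRep.Comod k A V] (g : Γk) :
    IsUnit (ptAct V g) := (Group.isUnit g).map (ptAct V)

omit [PerfectField k] in
theorem apply_coefFun {V : Type w} [AddCommGroup V] [Module k V] [HopfRep.Comod k A V] (g : Γk) (f : V →ₗ[k] k)
    (v : V) : g.ofConv (coefFun (C := A) f v) = f (ptAct V g v) := by
  show _ = f (slice g.ofConv.toLinearMap (HopfRep.Comod.coact (k := k) (A := A) v))
  rw [coefFun_apply]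
  induction HopfRep.Comod.coact (k := k) (A := A) v using TensorProduct.induction_on with
  | zero => simp
  | tmul p q => simp [mul_comm]
  | add p q hp hq => simp only [map_add, hp, hq]

omit [PerfectField k] in
theorem isSemisimple_map {W : Type v} [AddCommGroup W] [Module k W] [FiniteDimensional k W] [PerfectField k]
    {s : Module.End k W} (hs : s.IsSemisimple) :
    Module.End.IsSemisimple (R := k) (M := W ⊗[k] W) (TensorProduct.map s s) := by
  let L : Module.End k W →ₐ[k] Module.End k (W ⊗[k] W) :=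
    AlgHom.ofLinearMap (LinearMap.rTensorHom W) (TensorProduct.map_id) fun x y => LinearMap.rTensor_mul W x y
  let R : Module.End k W →ₐ[k] Module.End k (W ⊗[k] W) :=
    AlgHom.ofLinearMap (LinearMap.lTensorHom W) (TensorProduct.map_id) fun x y => LinearMap.lTensor_mul W x y
  have hL : (L s).IsSemisimple := Module.End.isSemisimple_of_squarefree_aeval_eq_zero hs.minpoly_squarefree
    (by rw [Polynomial.aeval_algHom_apply, minpoly.aeval, map_zero])
  have hR : (R s).IsSemisimple := Module.End.isSemisimple_of_squarefree_aeval_eq_zero hs.minpoly_squarefree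
    (by rw [Polynomial.aeval_algHom_apply, minpoly.aeval, map_zero])
  rw [show TensorProduct.map s s = L s * R s from TensorProduct.ext' fun x y => rfl]
  exact Module.End.IsSemisimple.mul_of_commute (show Commute (L s) (R s) from TensorProduct.ext' fun x y => rfl) hL hR

omit [PerfectField k] in
theorem isNilpotent_map_sub_one {W : Type v} [AddCommGroup W] [Module k W] {u : Module.End k W}
    (hu : IsNilpotent (u - 1)) :
    IsNilpotent (R := Module.End k (W ⊗[k] W)) ((TensorProduct.map u u : Module.End k (W ⊗[k] W)) - (1 : Module.End k (W ⊗[k] W))) := by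
  let L : Module.End k W →ₐ[k] Module.End k (W ⊗[k] W) :=
    AlgHom.ofLinearMap (LinearMap.rTensorHom W) (TensorProduct.map_id) fun x y => LinearMap.rTensor_mul W x y
  let R : Module.End k W →ₐ[k] Module.End k (W ⊗[k] W) :=
    AlgHom.ofLinearMap (LinearMap.lTensorHom W) (TensorProduct.map_id) fun x y => LinearMap.lTensor_mul W x y
  have hL : IsNilpotent (L u - 1) := by rw [← map_one L, ← map_sub]; exact hu.map L
  have hR : IsNilpotent (R u - 1) := by rw [← map_one R, ← map_sub]; exact hu.map R
  have h := isNilpotent_mul_sub_one hL hR (show Commute (L u) (R u) from TensorProduct.ext' fun x y => rfl)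
  rw [show L u * R u = (TensorProduct.map u u : Module.End k (W ⊗[k] W)) from TensorProduct.ext' fun x y => rfl] at h
  exact h

variable [Algebra.FiniteType k A]

/-- The semisimple part of a point, on all finite comodules at once. -/
theorem exists_pt_ssPart (g : Γk) : ∃ gs : Γk, ∀ (V : Type v) [AddCommGroup V] [Module k V] [HopfRep.Comod k A V]
    [Module.Finite k V], ptAct V gs = ssPart (ptAct V g) := by
  classical
  have hs : ∀ a : A, ∃ U : Submodule k A, Module.Finite k U ∧ a ∈ U ∧ HopfRep.IsSubcomod (k := k) (A := A) U :=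
    fun a => exists_finite_subcomod_mem (k := k) (C := A) (V := A) a
  let cU : ∀ (U : Submodule k A), HopfRep.IsSubcomod (k := k) (A := A) U → HopfRep.Comod k A U :=
    fun U hU => ComodSub.Comod.restr (HopfRep.Comod.regular k A) U hU
  let sig : ∀ (U : Submodule k A), HopfRep.IsSubcomod (k := k) (A := A) U → Module.End k U := fun U hU =>
    ssPart (@ptAct k _ A _ _ U _ _ (cU U hU) g)
  have hincl : ∀ {U W : Submodule k A} (hU : HopfRep.IsSubcomod (k := k) (A := A) U)
      (hW : HopfRep.IsSubcomod (k := k) (A := A) W) [Module.Finite k U] [Module.Finite k W] (hle : U ≤ W)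
      (x : U), ((sig W hW (Submodule.inclusion hle x) : W) : A) = (sig U hU x : A) := by
    intro U W hU hW _ _ hle x
    letI := cU U hU
    letI := cU W hW
    have hc : Submodule.inclusion hle ∘ₗ ptAct U g = ptAct W g ∘ₗ Submodule.inclusion hle := by
      refine LinearMap.ext fun y => Subtype.ext ?_
      have h1 : U.subtype (ptAct U g y) = ptAct A g (U.subtype y) :=
        ptAct_comm (ComodSub.isComodHom_subtype _ U hU) g y
      have h2 : W.subtype (ptAct W g (Submodule.inclusion hle y)) = ptAct A g (W.subtype (Submodule.inclusion hle y)) :=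
        ptAct_comm (ComodSub.isComodHom_subtype _ W hW) g _
      exact h1.trans h2.symm
    exact congrArg Subtype.val (LinearMap.congr_fun (comp_ssPart (isUnit_ptAct U g) (isUnit_ptAct W g) _ hc) x).symm
  choose U hUf haU hU using hs
  let σ : A → A := fun a => (sig (U a) (hU a) ⟨a, haU a⟩ : A)
  have key : ∀ (W : Submodule k A) (hW : HopfRep.IsSubcomod (k := k) (A := A) W) [Module.Finite k W] (a : A)
      (ha : a ∈ W), σ a = (sig W hW ⟨a, ha⟩ : A) := by
    intro W hW _ a ha
    haveI := hUf a
    obtain ⟨Z, hZf, hZ, hZs⟩ := exists_fin_sub (k := k) (C := A) (U a ⊔ W)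
    haveI := hZf
    show ((sig (U a) (hU a) ⟨a, haU a⟩ : U a) : A) = _
    rw [← hincl hW hZs (le_sup_right.trans hZ) ⟨a, ha⟩, ← hincl (hU a) hZs (le_sup_left.trans hZ) ⟨a, haU a⟩]
    rfl
  have hadd : ∀ a b, σ (a + b) = σ a + σ b := fun a b => by
    obtain ⟨Z, hZf, hZ, hZs⟩ := exists_finite_subcomod_le (k := k) (C := A) (V := A) (Set.toFinite ({a, b} : Set A))
    haveI := hZf
    have ha : a ∈ Z := hZ (by simp)
    have hb : b ∈ Z := hZ (by simp)
    rw [key Z hZs _ (Z.add_mem ha hb), key Z hZs _ ha, key Z hZs _ hb, ← Submodule.coe_add, ← map_add]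
    rfl
  have hsmul : ∀ (r : k) a, σ (r • a) = r • σ a := fun r a => by
    haveI := hUf a
    rw [key (U a) (hU a) _ ((U a).smul_mem r (haU a)), key (U a) (hU a) _ (haU a), ← Submodule.coe_smul, ← map_smul]
    rfl
  have hone : σ 1 = 1 := by
    obtain ⟨Z, hZf, hZ, hZs⟩ := exists_finite_subcomod_le (k := k) (C := A) (V := A) (Set.toFinite ({1} : Set A))
    haveI := hZf
    letI := cU Z hZs
    have h1 : (1 : A) ∈ Z := hZ (by simp)
    rw [key Z hZs 1 h1]
    let φ : k →ₗ[k] Z := LinearMap.toSpanSingleton k Z ⟨1, h1⟩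
    have hfix : ptAct Z g ⟨1, h1⟩ = (⟨1, h1⟩ : Z) := by
      refine Subtype.ext ((ptAct_comm (ComodSub.isComodHom_subtype _ Z hZs) g (⟨1, h1⟩ : Z)).trans ?_)
      show slice g.ofConv.toLinearMap (Coalgebra.comul (R := k) (1 : A)) = 1
      simp [Bialgebra.comul_one, Algebra.TensorProduct.one_def]
    have hJ : IsJordan (1 : Module.End k k) 1 1 :=
      ⟨Module.End.isSemisimple_id, by simp, Commute.one_right _, one_mul 1⟩
    have e := LinearMap.congr_fun (comp_ssPart isUnit_one (isUnit_ptAct Z g) φ (by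
      refine LinearMap.ext_ring ?_; simp [φ, hfix])) 1
    rw [hJ.ssPart_eq isUnit_one] at e
    simp only [LinearMap.comp_apply, Module.End.one_apply, φ, LinearMap.toSpanSingleton_apply, one_smul] at e
    exact congrArg Subtype.val e.symm
  have hmul : ∀ a b, σ (a * b) = σ a * σ b := fun a b => by
    obtain ⟨Z, hZf, hZ, hZs⟩ := exists_finite_subcomod_le (k := k) (C := A) (V := A) (Set.toFinite ({a, b} : Set A))
    haveI := hZf
    letI := cU Z hZs
    let μ : Z ⊗[k] Z →ₗ[k] A := LinearMap.mul' k A ∘ₗ TensorProduct.map Z.subtype Z.subtype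
    obtain ⟨W, hWf, hW, hWs⟩ := exists_fin_sub (k := k) (C := A) (LinearMap.range μ)
    haveI := hWf
    letI := cU W hWs
    let φ : Z ⊗[k] Z →ₗ[k] W := μ.codRestrict W fun x => hW (LinearMap.mem_range_self μ x)
    have ha : a ∈ Z := hZ (by simp)
    have hb : b ∈ Z := hZ (by simp)
    obtain ⟨u, hu⟩ := exists_isJordan_ssPart (isUnit_ptAct Z g)
    have hJ : IsJordan (k := k) (V := Z ⊗[k] Z) (TensorProduct.map (ptAct Z g) (ptAct Z g) : Module.End k (Z ⊗[k] Z))
        (TensorProduct.map (ssPart (ptAct Z g)) (ssPart (ptAct Z g)) : Module.End k (Z ⊗[k] Z))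
        (TensorProduct.map u u : Module.End k (Z ⊗[k] Z)) := by
      refine ⟨isSemisimple_map hu.1, ?_, ?_, ?_⟩
      · exact isNilpotent_map_sub_one hu.2.1
      · show _ * _ = _ * _
        rw [← TensorProduct.map_mul, ← TensorProduct.map_mul, hu.2.2.1.eq]
      · rw [← TensorProduct.map_mul, hu.2.2.2]
    have hunit : IsUnit (TensorProduct.map (ptAct Z g) (ptAct Z g) : Module.End k (Z ⊗[k] Z)) := by
      obtain ⟨c, hc⟩ := isUnit_ptAct Z g
      exact ⟨⟨TensorProduct.map (ptAct Z g) (ptAct Z g), TensorProduct.map (↑c⁻¹ : Module.End k Z) (↑c⁻¹ : Module.End k Z),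
        by rw [← TensorProduct.map_mul, ← hc, Units.mul_inv, TensorProduct.map_one],
        by rw [← TensorProduct.map_mul, ← hc, Units.inv_mul, TensorProduct.map_one]⟩, rfl⟩
    have hρmul : ∀ x y : A, ptAct A g (x * y) = ptAct A g x * ptAct A g y := fun x y => by
      show slice g.ofConv.toLinearMap (Coalgebra.comul (R := k) (x * y)) =
        slice g.ofConv.toLinearMap (Coalgebra.comul (R := k) x) * slice g.ofConv.toLinearMap (Coalgebra.comul (R := k) y)
      rw [Bialgebra.comul_mul]
      induction Coalgebra.comul (R := k) x using TensorProduct.induction_on with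
      | zero => simp
      | tmul p q =>
        induction Coalgebra.comul (R := k) y using TensorProduct.induction_on with
        | zero => simp
        | tmul p' q' => simp [smul_smul, mul_comm (g.ofConv q) (g.ofConv q')]
        | add p' q' hp hq => simp only [mul_add, map_add, hp, hq]
      | add p q hp hq => simp only [add_mul, map_add, hp, hq]
    have hc : φ ∘ₗ TensorProduct.map (ptAct Z g) (ptAct Z g) = ptAct W g ∘ₗ φ := by
      refine TensorProduct.ext' fun x y => Subtype.ext ?_
      have hx : (ptAct Z g x : A) = ptAct A g x := ptAct_comm (ComodSub.isComodHom_subtype _ Z hZs) g x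
      have hy : (ptAct Z g y : A) = ptAct A g y := ptAct_comm (ComodSub.isComodHom_subtype _ Z hZs) g y
      have hw : W.subtype (ptAct W g (φ (x ⊗ₜ[k] y))) = ptAct A g (W.subtype (φ (x ⊗ₜ[k] y))) :=
        ptAct_comm (ComodSub.isComodHom_subtype _ W hWs) g _
      refine Eq.trans ?_ hw.symm
      simp [φ, μ, hx, hy, hρmul]
    have e := congrArg Subtype.val (LinearMap.congr_fun (comp_ssPart hunit (isUnit_ptAct W g) φ hc)
      ((⟨a, ha⟩ : Z) ⊗ₜ[k] (⟨b, hb⟩ : Z)))
    rw [hJ.ssPart_eq hunit] at e
    simp only [LinearMap.comp_apply, TensorProduct.map_tmul] at e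
    have hab : a * b ∈ W := hW ⟨(⟨a, ha⟩ : Z) ⊗ₜ[k] (⟨b, hb⟩ : Z), by simp [μ]⟩
    rw [key W hWs _ hab, key Z hZs _ ha, key Z hZs _ hb]
    refine Eq.trans ?_ (e.symm.trans ?_)
    · congr 2
    · simp [φ, μ, sig]
  let σl : A →ₗ[k] A := { toFun := σ, map_add' := hadd, map_smul' := hsmul }
  let σa : A →ₐ[k] A := AlgHom.ofLinearMap σl hone hmul
  refine ⟨toConv ((Bialgebra.counitAlgHom k A).comp σa), fun V _ _ _ _ => LinearMap.ext fun v => ?_⟩
  refine Module.forall_dual_apply_eq_zero_iff k _ |>.mp (fun f => ?_) |> sub_eq_zero.mp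
  rw [map_sub, sub_eq_zero, ← apply_coefFun]
  show Coalgebra.counit (R := k) (σ (coefFun (C := A) f v)) = _
  obtain ⟨Z, hZf, hZ, hZs⟩ := exists_fin_sub (k := k) (C := A)
    (LinearMap.range (coefFun (C := A) (V := V) f))
  haveI := hZf
  letI := cU Z hZs
  let φ : V →ₗ[k] Z := (coefFun (C := A) f).codRestrict Z fun x => hZ (LinearMap.mem_range_self _ x)
  have hc : φ ∘ₗ ptAct V g = ptAct Z g ∘ₗ φ := LinearMap.ext fun x => Subtype.ext <| by
    have hw : Z.subtype (ptAct Z g (φ x)) = ptAct A g (Z.subtype (φ x)) :=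
      ptAct_comm (ComodSub.isComodHom_subtype _ Z hZs) g _
    exact (ptAct_comm (isComodHom_coefFun f) g x).trans hw.symm
  have e := congrArg Subtype.val (LinearMap.congr_fun (comp_ssPart (isUnit_ptAct V g) (isUnit_ptAct Z g) φ hc) v)
  rw [key Z hZs _ (hZ (LinearMap.mem_range_self _ v))]
  refine Eq.trans (congrArg (Coalgebra.counit (R := k)) e.symm) ?_
  exact counit_coefFun f _

/-- Existence and uniqueness of the Jordan decomposition. -/
theorem exists_unique_jordan (g : Γk) : ∃ gs gu : Γk,
    (gs * gu = g ∧ gu * gs = g ∧ ∀ (V : Type v) [AddCommGroup V] [Module k V] [HopfRep.Comod k A V],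
      Module.Finite k V → (ptAct V gs).IsSemisimple ∧ IsNilpotent (ptAct V gu - 1)) ∧
    ∀ gs' gu' : Γk, (gs' * gu' = g ∧ gu' * gs' = g ∧ ∀ (V : Type v) [AddCommGroup V] [Module k V]
      [HopfRep.Comod k A V], Module.Finite k V → (ptAct V gs').IsSemisimple ∧ IsNilpotent (ptAct V gu' - 1)) →
      gs' = gs ∧ gu' = gu := by
  obtain ⟨gs, hgs⟩ := exists_pt_ssPart g
  obtain ⟨U, hU, hUf, hgen⟩ := exists_faithful (k := k) (A := A)
  have hinj := ptAct_injective_of_generators hU hgen
  have hV : ∀ (V : Type v) [AddCommGroup V] [Module k V] [HopfRep.Comod k A V] [Module.Finite k V],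
      (ptAct V gs).IsSemisimple ∧ IsNilpotent (ptAct V (gs⁻¹ * g) - 1) ∧
        Commute (ptAct V gs) (ptAct V (gs⁻¹ * g)) := by
    intro V _ _ _ _
    obtain ⟨u, hu⟩ := exists_isJordan_ssPart (isUnit_ptAct V g)
    have he : ptAct V (gs⁻¹ * g) = u := by
      refine (isUnit_ptAct V gs).mul_left_cancel ?_
      rw [← map_mul, mul_inv_cancel_left, hgs V, hu.2.2.2]
    rw [he, hgs V]
    exact ⟨hu.1, hu.2.1, hu.2.2.1⟩
  letI := ComodSub.Comod.restr (HopfRep.Comod.regular k A) U hU
  haveI := hUf
  have hcomm : Commute gs (gs⁻¹ * g) :=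
    hinj ((map_mul _ _ _).trans ((hV U).2.2.eq.trans (map_mul _ _ _).symm))
  refine ⟨gs, gs⁻¹ * g, ⟨mul_inv_cancel_left _ _, hcomm.eq.symm.trans (mul_inv_cancel_left _ _),
    fun V _ _ _ hf => ⟨(hV V).1, (hV V).2.1⟩⟩, ?_⟩
  rintro gs' gu' ⟨h1, h2, h3⟩
  have hs : gs' = gs := hinj (by
    refine (IsJordan.ssPart_eq (isUnit_ptAct U g) ⟨(h3 U hUf).1, (h3 U hUf).2, ?_, by rw [← map_mul, h1]⟩).symm.trans
      (hgs U).symm
    show _ * _ = _ * _
    rw [← map_mul, ← map_mul, h1, h2])
  refine ⟨hs, ?_⟩
  rw [← hs, ← h1, inv_mul_cancel_left]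

end Groth.Agent.AGFHopf
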