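import Groth.Agent.AGFHopf.PGrp
import Mathlib.LinearAlgebra.FreeModule.PID
import Mathlib.RingTheory.RootsOfUnity.AlgebraicallyClosed

/-!
# Regular characters of irreducible groups of points
-/

universe u v w

open TensorProduct WithConv

namespace Groth.Agent.AGFHopf

variable {k : Type u} [Field k] {A : Type v} [CommRing A] [HopfAlgebra k A]

local notation "Γk" => WithConv (A →ₐ[k] k)

/-- A regular character of a group of points. -/
def IsRegChar {K : Subgroup (WithConv (A →ₐ[k] k))} (χ : K →* kˣ) : Prop :=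
  ∃ a : A, ∀ x : K, (χ x : k) = (x : Γk).ofConv a

theorem isRegChar_of_mem_closure {K : Subgroup Γk} {ι : Type*} {ψ : ι → K →* kˣ} (hψ : ∀ i, IsRegChar (ψ i))
    {χ : K →* kˣ} (h : χ ∈ Subgroup.closure (Set.range ψ)) : IsRegChar χ := by
  induction h using Subgroup.closure_induction with
  | mem χ hχ => obtain ⟨i, rfl⟩ := hχ; exact hψ i
  | one => exact ⟨1, fun x => by simp⟩
  | mul a b _ _ ha hb =>
    obtain ⟨c, hc⟩ := ha
    obtain ⟨d, hd⟩ := hb
    exact ⟨c * d, fun x => by rw [map_mul, ← hc, ← hd]; simp⟩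
  | inv a _ ha =>
    obtain ⟨c, hc⟩ := ha
    refine ⟨HopfAlgebraStruct.antipode (R := k) c, fun x => ?_⟩
    rw [MonoidHom.inv_apply, ← map_inv, hc]
    rfl

/-- A regular character with finitely many values on an irreducible group is trivial. -/
theorem eq_one_of_finite_values {K : Subgroup Γk} (hK : ZPts.IsIrr (ptR k A) (K : Set Γk)) {χ : K →* kˣ}
    (hχ : IsRegChar χ) (hfin : (Set.range fun x => (χ x : k)).Finite) : χ = 1 := by
  obtain ⟨a, ha⟩ := hχ
  refine MonoidHom.ext fun x => Units.ext ?_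
  have h1 : (χ (1 : K) : k) = 1 := by simp
  rw [MonoidHom.one_apply, Units.val_one, ha, ← h1, ha]
  refine hK.eq_of_finite ⟨_, ptEval_mem a⟩ (hfin.subset ?_) x.2 K.one_mem
  rintro _ ⟨y, hy, rfl⟩
  exact ⟨⟨y, hy⟩, ha ⟨y, hy⟩⟩

variable [IsAlgClosed k] [Algebra.FiniteType k A]

/-- Every point of the character group comes from a point of the irreducible group. -/
theorem exists_pt_char {K : Subgroup Γk} (hK : ZPts.IsCl (ptR k A) (K : Set Γk)) (hKi : ZPts.IsIrr (ptR k A) (K : Set Γk)) {ι : Type*}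
    [Finite ι] (ψ : ι → K →* kˣ) (hψ : ∀ i, IsRegChar (ψ i))
    (φ : Subgroup.closure (Set.range ψ) →* kˣ) : ∃ x : K, ∀ m : Subgroup.closure (Set.range ψ), (m : K →* kˣ) x = φ m := by
  classical
  let M := Subgroup.closure (Set.range ψ)
  let ev : M → ((M →* kˣ) → k) := fun m x => (x m : k)
  let gen : ι ⊕ ι → M := Sum.elim (fun i => ⟨ψ i, Subgroup.subset_closure ⟨i, rfl⟩⟩)
    fun i => ⟨(ψ i)⁻¹, inv_mem (Subgroup.subset_closure ⟨i, rfl⟩)⟩
  let R : Subalgebra k ((M →* kˣ) → k) := Algebra.adjoin k (Set.range (ev ∘ gen))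
  haveI : Algebra.FiniteType k R := R.fg_iff_finiteType.mp
    ⟨(Set.finite_range (ev ∘ gen)).toFinset, by rw [Set.Finite.coe_toFinset]⟩
  have hev : ∀ m, ev m ∈ R := fun ⟨m, hm⟩ => by
    suffices ∀ h : m ∈ M, ev ⟨m, h⟩ ∈ R ∧ ev ⟨m, h⟩⁻¹ ∈ R from (this hm).1
    induction hm using Subgroup.closure_induction with
    | mem m hm =>
      obtain ⟨i, rfl⟩ := hm
      exact fun _ => ⟨Algebra.subset_adjoin ⟨Sum.inl i, rfl⟩, Algebra.subset_adjoin ⟨Sum.inr i, rfl⟩⟩
    | one =>
      intro h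
      rw [show (⟨1, h⟩ : M) = 1 from rfl, inv_one, show ev 1 = 1 from funext fun x => by simp [ev]]
      exact ⟨one_mem R, one_mem R⟩
    | mul a b ha hb iha ihb =>
      intro h
      rw [show (⟨a * b, h⟩ : M) = ⟨a, ha⟩ * ⟨b, hb⟩ from rfl, mul_inv,
        show ∀ x y : M, ev (x * y) = ev x * ev y from fun x y => funext fun z => by simp [ev]]
      rw [show ∀ x y : M, ev (x * y) = ev x * ev y from fun x y => funext fun z => by simp [ev]]
      exact ⟨mul_mem (iha ha).1 (ihb hb).1, mul_mem (iha ha).2 (ihb hb).2⟩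
    | inv a ha iha =>
      intro h
      rw [show (⟨a⁻¹, h⟩ : M) = ⟨a, ha⟩⁻¹ from rfl, inv_inv]
      exact ⟨(iha ha).2, (iha ha).1⟩
  have hRM : ∀ F ∈ R, F ∈ Submodule.span k (Set.range ev) := fun F hF => by
    induction hF using Algebra.adjoin_induction with
    | mem F hF => obtain ⟨i, rfl⟩ := hF; exact Submodule.subset_span ⟨gen i, rfl⟩
    | algebraMap c =>
      rw [show algebraMap k ((M →* kˣ) → k) c = c • ev 1 from funext fun x => by simp [ev]]
      exact Submodule.smul_mem _ _ (Submodule.subset_span ⟨1, rfl⟩)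
    | add F G _ _ hF hG => exact add_mem hF hG
    | mul F G _ _ hF hG =>
      have := Submodule.mul_mem_mul hF hG
      rw [Submodule.span_mul_span] at this
      refine Submodule.span_mono ?_ this
      rintro _ ⟨_, ⟨a, rfl⟩, _, ⟨b, rfl⟩, rfl⟩
      exact ⟨a * b, funext fun x => by simp [ev]⟩
  -- the group as a variety
  let Φ : A →ₐ[k] (K → k) := Pi.algHom k (fun _ : K => k) fun x => (x : Γk).ofConv
  haveI : Algebra.FiniteType k Φ.range := Algebra.FiniteType.of_surjective Φ.rangeRestrict Φ.rangeRestrict_surjective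
  have hvar : ZPts.IsVar Φ.range := fun θ => by
    let g : Γk := toConv (θ.comp Φ.rangeRestrict)
    have hg : g ∈ K := hK fun ⟨_, a, rfl⟩ hF => by
      show θ (Φ.rangeRestrict a) = 0
      rw [show Φ.rangeRestrict a = 0 from Subtype.ext (funext fun x => hF _ x.2), map_zero]
    exact ⟨⟨g, hg⟩, fun ⟨_, a, rfl⟩ => rfl⟩
  let π : K → (M →* kˣ) := fun x => ((MonoidHom.eval x).comp M.subtype)
  have hπ : ∀ F ∈ R, F ∘ π ∈ Φ.range := fun F hF => by
    induction hF using Algebra.adjoin_induction with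
    | mem F hF =>
      obtain ⟨i, rfl⟩ := hF
      obtain ⟨a, ha⟩ := isRegChar_of_mem_closure hψ (gen i).2
      exact ⟨a, funext fun x => (ha x).symm⟩
    | algebraMap c => exact Subalgebra.algebraMap_mem Φ.range c
    | add F G _ _ hF hG => exact add_mem (S := Subalgebra k (K → k)) hF hG
    | mul F G _ _ hF hG => exact mul_mem (S := Subalgebra k (K → k)) hF hG
  -- the image is dense
  have hdense : ∀ F : R, (∀ x, (F : (M →* kˣ) → k) (π x) = 0) → F = 0 := fun ⟨F, hF⟩ h => by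
    obtain ⟨c, hc⟩ := (Finsupp.mem_span_range_iff_exists_finsupp).mp (hRM F hF)
    have hli : LinearIndependent k fun m : M => fun x : K => ((m : K →* kˣ) x : k) :=
      (linearIndependent_monoidHom K k).comp (fun m : M => (Units.coeHom k).comp (m : K →* kˣ)) fun a b e =>
        Subtype.ext (MonoidHom.ext fun x => Units.ext (DFunLike.congr_fun e x))
    have : c = 0 := linearIndependent_iff.mp hli c (funext fun x => by
      have hx := h x
      simp only [← hc, Finsupp.sum, Finset.sum_apply, Pi.smul_apply] at hx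
      simpa [Finsupp.linearCombination_apply, Finsupp.sum, Finset.sum_apply, Pi.smul_apply, ev, π] using hx)
    apply Subtype.ext
    show F = 0
    rw [← hc, this]
    simp
  obtain ⟨f, ⟨y₀, hy₀⟩, hf⟩ := ZPts.exists_open_subset_image hvar π hπ
  have hlift : ∀ x : M →* kˣ, (f : (M →* kˣ) → k) x ≠ 0 → ∃ y, π y = x := fun x hx => by
    obtain ⟨y, hy⟩ := hf x (fun F hF => by rw [hdense F fun z => hF _ ⟨z, rfl⟩]; rfl) hx
    exact ⟨y, MonoidHom.ext fun m => Units.ext (hy ⟨_, hev m⟩)⟩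
  have htr : ∀ F ∈ R, (fun x => F (φ * x)) ∈ R := fun F hF => by
    induction hF using Algebra.adjoin_induction with
    | mem F hF =>
      obtain ⟨i, rfl⟩ := hF
      rw [show (fun x => (ev ∘ gen) i (φ * x)) = (φ (gen i) : k) • ev (gen i) from funext fun x => by simp [ev, Units.val_mul]]
      exact R.smul_mem (hev _) _
    | algebraMap c => exact R.algebraMap_mem c
    | add F G _ _ hF hG => exact add_mem hF hG
    | mul F G _ _ hF hG => exact mul_mem hF hG
  obtain ⟨y, hy, hy'⟩ : ∃ y, (f : (M →* kˣ) → k) (π y) ≠ 0 ∧ (f : (M →* kˣ) → k) (φ * π y) ≠ 0 := by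
    by_contra hall
    push Not at hall
    haveI hirr : ZPts.IsIrr Φ.range (Set.univ : Set K) := by
      refine ⟨⟨1, trivial⟩, ?_⟩
      rintro ⟨_, a, rfl⟩ ⟨_, b, rfl⟩ hab
      exact (hKi.2 ⟨_, ptEval_mem a⟩ ⟨_, ptEval_mem b⟩ fun x hx => hab ⟨x, hx⟩ trivial).imp
        (fun h x _ => h _ x.2) fun h x _ => h _ x.2
    rcases hirr.2 ⟨_, hπ _ f.2⟩ ⟨_, hπ _ (htr _ f.2)⟩ (fun y _ => by
      show (f : (M →* kˣ) → k) (π y) * (f : (M →* kˣ) → k) (φ * π y) = 0
      by_cases h0 : (f : (M →* kˣ) → k) (π y) = 0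
      · rw [h0, zero_mul]
      · rw [hall y h0, mul_zero]) with h | h
    · exact hy₀ (h y₀ trivial)
    · have h0 := hdense ⟨_, htr _ f.2⟩ fun x => h x trivial
      have h1 := congrFun (congrArg Subtype.val h0) (φ⁻¹ * π y₀)
      change (f : ((M →* kˣ) → k)) (φ * (φ⁻¹ * π y₀)) = 0 at h1
      exact hy₀ ((congrArg (f : ((M →* kˣ) → k)) (mul_inv_cancel_left φ (π y₀))).symm.trans h1)
  obtain ⟨z, hz⟩ := hlift _ hy'
  refine ⟨z * y⁻¹, fun m => ?_⟩
  have h1 : (m : K →* kˣ) z = φ m * (m : K →* kˣ) y := DFunLike.congr_fun (show π z = φ * π y from hz) m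
  rw [map_mul, map_inv, h1, mul_inv_cancel_right]

theorem isMulTorsionFree_of {M : Type*} [CommGroup M] (h : ∀ (m : M) (N : ℕ), N ≠ 0 → m ^ N = 1 → m = 1) :
    IsMulTorsionFree M := ⟨fun N hN x y e => by
  have := h (x * y⁻¹) N hN (by simp only at e; rw [mul_pow, inv_pow, e, mul_inv_cancel])
  exact mul_inv_eq_one.mp this⟩

/-- Nontrivial regular characters are nontrivial at a torsion point of invertible order. -/
theorem exists_torsion_sep {K : Subgroup Γk} (hK : ZPts.IsCl (ptR k A) (K : Set Γk)) (hKi : ZPts.IsIrr (ptR k A) (K : Set Γk)) {ι : Type*}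
    [Finite ι] (ψ : ι → K →* kˣ) (hψ : ∀ i, IsRegChar (ψ i)) {χ : K →* kˣ} (hχ : χ ∈ Subgroup.closure (Set.range ψ))
    (hne : χ ≠ 1) : ∃ (x : K) (m : ℕ), (m : k) ≠ 0 ∧ (∀ i, ψ i x ^ m = 1) ∧ χ x ≠ 1 := by
  classical
  let M := Subgroup.closure (Set.range ψ)
  haveI : Group.FG M := by
    rw [Group.fg_iff_subgroup_fg]
    exact ⟨(Set.finite_range ψ).toFinset, by rw [Set.Finite.coe_toFinset]⟩
  haveI : IsMulTorsionFree M := isMulTorsionFree_of fun m N hN h => by
    refine Subtype.ext (eq_one_of_finite_values hKi (isRegChar_of_mem_closure hψ m.2) ?_)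
    refine (Polynomial.nthRoots N (1 : k)).toFinset.finite_toSet.subset ?_
    rintro _ ⟨x, rfl⟩
    rw [Finset.mem_coe, Multiset.mem_toFinset, Polynomial.mem_nthRoots (Nat.pos_of_ne_zero hN)]
    have h1 : ((m : K →* kˣ) ^ N) x = 1 := DFunLike.congr_fun ((SubmonoidClass.coe_pow m N).symm.trans (congrArg Subtype.val h)) x
    rw [MonoidHom.pow_apply] at h1
    rw [← Units.val_pow_eq_pow_val, h1, Units.val_one]
  haveI : AddMonoid.FG (Additive M) := inferInstance
  haveI : Module.Finite ℤ (Additive M) := Module.Finite.iff_addGroup_fg.mpr inferInstance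
  haveI : Module.Free ℤ (Additive M) := inferInstance
  let b := Module.Free.chooseBasis ℤ (Additive M)
  obtain ⟨i, hi⟩ : ∃ i, b.repr (Additive.ofMul (⟨χ, hχ⟩ : M)) i ≠ 0 := by
    by_contra hall
    push Not at hall
    apply hne
    have : Additive.ofMul (⟨χ, hχ⟩ : M) = 0 := b.repr.injective (by rw [map_zero]; exact Finsupp.ext hall)
    exact congrArg (fun z : Additive M => (z.toMul : K →* kˣ)) this
  set c := b.repr (Additive.ofMul (⟨χ, hχ⟩ : M)) i
  obtain ⟨ℓ, hℓ, hℓp⟩ := Nat.exists_infinite_primes (max c.natAbs (ringChar k) + 1)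
  have hℓk : (ℓ : k) ≠ 0 := fun h => by
    rcases CharP.char_is_prime_or_zero k (ringChar k) with hp | hp
    · have := (Nat.prime_dvd_prime_iff_eq hp hℓp).mp ((CharP.cast_eq_zero_iff k (ringChar k) ℓ).mp h)
      omega
    · haveI := (CharP.ringChar_zero_iff_CharZero k).mp hp
      exact hℓp.ne_zero (Nat.cast_eq_zero.mp h)
  haveI : NeZero (ℓ : k) := ⟨hℓk⟩
  obtain ⟨ζ, hζ⟩ := HasEnoughRootsOfUnity.exists_primitiveRoot k ℓ
  have hζ0 : ζ ≠ 0 := hζ.ne_zero hℓp.ne_zero
  let φ : M →* kˣ :=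
    { toFun := fun m => Units.mk0 ζ hζ0 ^ b.repr (Additive.ofMul m) i
      map_one' := by simp
      map_mul' := fun x y => by simp [zpow_add] }
  obtain ⟨x, hx⟩ := exists_pt_char hK hKi ψ hψ φ
  have hζu : IsPrimitiveRoot (Units.mk0 ζ hζ0) ℓ := IsPrimitiveRoot.coe_units_iff.mp hζ
  refine ⟨x, ℓ, hℓk, fun j => ?_, ?_⟩
  · rw [show ψ j x = φ ⟨ψ j, Subgroup.subset_closure ⟨j, rfl⟩⟩ from hx ⟨ψ j, Subgroup.subset_closure ⟨j, rfl⟩⟩]
    simp only [φ, MonoidHom.coe_mk, OneHom.coe_mk]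
    rw [← zpow_natCast, ← zpow_mul, mul_comm, zpow_mul, zpow_natCast, hζu.pow_eq_one, one_zpow]
  · rw [show χ x = φ ⟨χ, hχ⟩ from hx ⟨χ, hχ⟩]
    show Units.mk0 ζ hζ0 ^ c ≠ 1
    rw [Ne, hζu.zpow_eq_one_iff_dvd]
    intro hd
    have := Nat.le_of_dvd (Int.natAbs_pos.mpr hi) (Int.natAbs_dvd_natAbs.mpr hd)
    simp only [Int.natAbs_natCast] at this
    omega

end Groth.Agent.AGFHopf
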