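import Groth.Agent.AGFHopf.PGrp
import Mathlib.Algebra.Algebra.Operations
import Mathlib.RingTheory.IntegralClosure.IsIntegralClosure.Basic
import Mathlib.Data.Finset.Card
import Mathlib.LinearAlgebra.DFinsupp
import Mathlib.Algebra.Polynomial.Roots

/-!
# Closed cones in a representation

Fixed lines of connected solvable groups in stable closed cones, and minimal stable cones are single orbits of lines.
-/

universe u v w

open TensorProduct WithConv

namespace Groth.Agent.AGFHopf

variable {k : Type u} [Field k] {V : Type w} [AddCommGroup V] [Module k V]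

variable (k V) in
/-- The linear functions. -/
noncomputable def linFns : Submodule k (V → k) :=
  Submodule.span k (Set.range fun f : Module.Dual k V => (f : V → k))

variable (k V) in
/-- The polynomial functions. -/
noncomputable def polyR : Subalgebra k (V → k) :=
  Algebra.adjoin k (Set.range fun f : Module.Dual k V => (f : V → k))

theorem dual_eq_sum {ι : Type*} [Fintype ι] (b : Module.Basis ι k V) (f : Module.Dual k V) :
    (f : V → k) = ∑ i, f (b i) • (b.coord i : V → k) := by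
  funext x
  rw [Finset.sum_apply]
  conv_lhs => rw [← b.sum_repr x, map_sum]
  exact Finset.sum_congr rfl fun i _ => by
    rw [map_smul, smul_eq_mul, mul_comm]; rfl

theorem dual_mem_polyR (f : Module.Dual k V) : (f : V → k) ∈ polyR k V := Algebra.subset_adjoin ⟨f, rfl⟩

theorem polyR_ext {x y : V} (e : ∀ F : polyR k V, (F : V → k) x = (F : V → k) y) : x = y := by
  refine sub_eq_zero.mp ((Module.forall_dual_apply_eq_zero_iff k _).mp fun f => ?_)
  rw [map_sub, sub_eq_zero]
  exact e ⟨_, dual_mem_polyR f⟩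

theorem isVar_polyR [Module.Finite k V] : ZPts.IsVar (polyR k V) := by
  intro φ
  let D : Module.Dual k (Module.Dual k V) :=
    { toFun := fun f => φ ⟨_, dual_mem_polyR f⟩
      map_add' := fun f g => by rw [← map_add]; rfl
      map_smul' := fun c f => by rw [← map_smul]; rfl }
  obtain ⟨x, hx⟩ := (Module.evalEquiv k V).surjective D
  refine ⟨x, fun ⟨F, hF⟩ => ?_⟩
  suffices φ = (Pi.evalAlgHom k (fun _ : V => k) x).comp (polyR k V).val from AlgHom.congr_fun this _
  refine AlgHom.ext_of_adjoin_eq_top (s := Subtype.val ⁻¹' Set.range fun f : Module.Dual k V => (f : V → k))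
    Algebra.adjoin_adjoin_coe_preimage ?_
  rintro ⟨_, hG⟩ ⟨f, rfl⟩
  exact (LinearMap.congr_fun hx f).symm

instance finiteType_polyR [Module.Finite k V] : Algebra.FiniteType k (polyR k V) := by
  refine (Subalgebra.fg_iff_finiteType _).mp ?_
  classical
  let b := Module.finBasis k V
  refine ⟨Finset.univ.image fun i => (b.coord i : V → k), le_antisymm (Algebra.adjoin_mono ?_) (Algebra.adjoin_le ?_)⟩
  · intro F hF
    obtain ⟨i, -, rfl⟩ := Finset.mem_image.mp hF
    exact ⟨_, rfl⟩
  · rintro _ ⟨f, rfl⟩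
    have e : (f : V → k) = ∑ i, f (b i) • (b.coord i : V → k) := dual_eq_sum b f
    show (f : V → k) ∈ _
    rw [e]
    exact Subalgebra.sum_mem _ fun i _ => Subalgebra.smul_mem _ (Algebra.subset_adjoin (by simp)) _

theorem mem_polyR_comp {F : V → k} (hF : F ∈ polyR k V) (L : Module.End k V) : (fun x => F (L x)) ∈ polyR k V := by
  induction hF using Algebra.adjoin_induction with
  | mem F hF => obtain ⟨f, rfl⟩ := hF; exact dual_mem_polyR (f.comp L)
  | algebraMap c => exact Subalgebra.algebraMap_mem _ c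
  | add F G _ _ hF hG => exact add_mem hF hG
  | mul F G _ _ hF hG => exact mul_mem hF hG

theorem prod_mem_pow_card {R : Type*} [CommRing R] [Algebra k R] {M : Submodule k R} {ι : Type*} {s : Finset ι}
    {g : ι → R} (h : ∀ j ∈ s, g j ∈ M) : ∏ j ∈ s, g j ∈ M ^ s.card := by
  classical
  induction s using Finset.induction_on with
  | empty =>
    simp only [Finset.prod_empty, Finset.card_empty, pow_zero]
    exact Submodule.mem_one.mpr ⟨1, map_one _⟩
  | insert j s hj ih =>
    rw [Finset.prod_insert hj, Finset.card_insert_of_notMem hj, pow_succ']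
    exact Submodule.mul_mem_mul (h j (Finset.mem_insert_self _ _)) (ih fun i hi => h i (Finset.mem_insert_of_mem hi))

theorem homog {F : V → k} {n : ℕ} (hF : F ∈ linFns k V ^ n) (t : k) (x : V) : F (t • x) = t ^ n * F x := by
  induction n generalizing F with
  | zero =>
    rw [pow_zero, Submodule.mem_one] at hF
    obtain ⟨c, rfl⟩ := hF
    simp [Pi.algebraMap_apply]
  | succ n ih =>
    rw [pow_succ] at hF
    refine Submodule.mul_induction_on hF (fun G hG L hL => ?_) fun a b ha hb => by simp [ha, hb, mul_add]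
    have hl : L (t • x) = t * L x := by
      induction hL using Submodule.span_induction with
      | mem L hL => obtain ⟨f, rfl⟩ := hL; simp
      | zero => simp
      | add a b _ _ ha hb => simp [ha, hb, mul_add]
      | smul c a _ ha => simp [ha]; ring
    simp only [Pi.mul_apply, ih hG, hl, pow_succ]
    ring

theorem mem_iSup_pow {F : V → k} (hF : F ∈ polyR k V) : F ∈ ⨆ n, linFns k V ^ n := by
  induction hF using Algebra.adjoin_induction with
  | mem F hF =>
    exact Submodule.mem_iSup_of_mem 1 (by rw [pow_one]; exact Submodule.subset_span hF)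
  | algebraMap c => exact Submodule.mem_iSup_of_mem 0 (by rw [pow_zero]; exact Submodule.mem_one.mpr ⟨c, rfl⟩)
  | add F G _ _ hF hG => exact add_mem hF hG
  | mul F G _ _ hF hG =>
    have hle : (⨆ n, linFns k V ^ n) * (⨆ n, linFns k V ^ n) ≤ ⨆ n, linFns k V ^ n := by
      rw [Submodule.iSup_mul]
      refine iSup_le fun n => ?_
      rw [Submodule.mul_iSup]
      exact iSup_le fun m => (pow_add (linFns k V) n m).ge.trans (le_iSup (fun i => linFns k V ^ i) (n + m))
    exact hle (Submodule.mul_mem_mul hF hG)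

/-- The homogeneous decomposition of a polynomial function. -/
theorem exists_homog {F : V → k} (hF : F ∈ polyR k V) :
    ∃ c : ℕ →₀ (V → k), (∀ n, c n ∈ linFns k V ^ n) ∧ ∀ t x, F (t • x) = c.sum fun n G => t ^ n * G x := by
  obtain ⟨c, hc, rfl⟩ := (Submodule.mem_iSup_iff_exists_finsupp _ _).mp (mem_iSup_pow hF)
  refine ⟨c, hc, fun t x => ?_⟩
  simp only [Finsupp.sum, Finset.sum_apply]
  exact Finset.sum_congr rfl fun n _ => homog (hc n) t x

variable (k) in
/-- A subset stable under scalars. -/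
def IsCone (C : Set V) : Prop := ∀ t : k, ∀ x ∈ C, t • x ∈ C

theorem zero_mem_cl [Infinite k] {C : Set V} (hC : ∀ t : k, t ≠ 0 → ∀ x ∈ C, t • x ∈ C) (hne : C.Nonempty) :
    (0 : V) ∈ ZPts.cl (polyR k V) C := by
  classical
  intro F hF
  obtain ⟨x, hx⟩ := hne
  obtain ⟨c, -, hFc⟩ := exists_homog F.2
  let p : Polynomial k := c.sum fun n G => Polynomial.monomial n (G x)
  have hp : ∀ t, p.eval t = (F : V → k) (t • x) := fun t => by
    rw [hFc]
    simp [p, Finsupp.sum, Polynomial.eval_finsetSum, mul_comm]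
  have : p = 0 := Polynomial.eq_zero_of_infinite_isRoot _ ((Set.finite_singleton (0 : k)).infinite_compl.mono
    fun t ht => (hp t).trans (hF _ (hC t ht x hx)))
  have := hp 0
  simp [‹p = 0›] at this
  exact this.symm

section Finite

variable [IsAlgClosed k] [Module.Finite k V]

/-- A closed cone meeting a hyperplane only at the origin consists of finitely many lines. -/
theorem finite_of_inter_eq_zero {C : Set V} (hCl : ZPts.IsCl (polyR k V) C) (hC : IsCone k C) (l : Module.Dual k V)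
    (h0 : ∀ x ∈ C, l x = 0 → x = 0) : {x ∈ C | l x = 1}.Finite := by
  classical
  let b := Module.finBasis k V
  set n := Module.finrank k V
  let Y : Set V := {x ∈ C | l x = 1}
  let lR : polyR k V := ⟨_, dual_mem_polyR l⟩
  let J : Ideal (polyR k V) := ZPts.vanI (polyR k V) C ⊔ Ideal.span {lR}
  have hrad : ∀ i, (⟨_, dual_mem_polyR (b.coord i)⟩ : polyR k V) ∈ J.radical := by
    intro i
    rw [← ZPts.vanI_zeroI isVar_polyR]
    intro x hx
    have hxC : x ∈ C := hCl fun f hf => hx f (Ideal.mem_sup_left hf)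
    have : x = 0 := h0 x hxC (hx lR (Ideal.mem_sup_right (Ideal.mem_span_singleton_self _)))
    simp [this]
  have hN : ∀ i, ∃ N, (⟨_, dual_mem_polyR (b.coord i)⟩ : polyR k V) ^ N ∈ J := hrad
  choose Ns hNs using hN
  let N := Finset.univ.sup Ns + 1
  -- the `N`-th powers of the coordinates have lower degree on `Y`
  let res : (V → k) →ₐ[k] (Y → k) := Pi.algHom k _ fun y => Pi.evalAlgHom k (fun _ : V => k) (y : V)
  let M : Submodule k (Y → k) := (linFns k V).map res.toLinearMap
  have hpow : ∀ i, res (b.coord i) ^ N ∈ M ^ (N - 1) := by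
    intro i
    have hmem : (⟨_, dual_mem_polyR (b.coord i)⟩ : polyR k V) ^ N ∈ J :=
      by
      have hle : Ns i ≤ N := ((Finset.le_sup (f := Ns) (Finset.mem_univ i)).trans (Nat.le_succ _))
      rw [← Nat.sub_add_cancel hle, pow_add]
      exact J.mul_mem_left _ (hNs i)
    obtain ⟨a, ha, c, hc, e⟩ := Submodule.mem_sup.mp hmem
    obtain ⟨q, rfl⟩ := Ideal.mem_span_singleton'.mp hc
    obtain ⟨cq, hcq, hq⟩ := exists_homog q.2
    refine (Submodule.map_pow _ res _).le ⟨cq (N - 1), hcq _, funext fun ⟨y, hyC, hy1⟩ => ?_⟩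
    let p : Polynomial k := Polynomial.monomial N ((b.coord i y) ^ N) -
      Polynomial.X * cq.sum fun n G => Polynomial.monomial n (G y)
    have hp : p = 0 := by
      refine Polynomial.funext fun t => ?_
      have e1 := congrFun (congrArg Subtype.val e) (t • y)
      have ha0 : (a : V → k) (t • y) = 0 := ha _ (hC t y hyC)
      simp [lR, ha0, hy1, hq, Finsupp.sum, mul_pow] at e1
      simp [p, Polynomial.eval_finsetSum, Finsupp.sum, mul_comm, Finset.sum_mul] at e1 ⊢
      linear_combination -e1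
    have e2 : (Polynomial.monomial N ((b.coord i y) ^ N)).coeff N =
        (Polynomial.X * cq.sum fun n G => Polynomial.monomial n (G y)).coeff N := by
      rw [sub_eq_zero.mp hp]
    obtain ⟨N', hN'⟩ : ∃ N', N = N' + 1 := ⟨_, rfl⟩
    rw [Polynomial.coeff_monomial_same, hN', Polynomial.coeff_X_mul, Finsupp.sum, Polynomial.finsetSum_coeff] at e2
    simp only [Polynomial.coeff_monomial, Finset.sum_ite_eq'] at e2
    have : N - 1 = N' := by omega
    show cq (N - 1) y = (b.coord i y) ^ N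
    rw [this, hN', e2]
    split_ifs with hmem'
    · rfl
    · simp [Finsupp.notMem_support_iff.mp hmem']
  -- so the functions on `Y` form a finite algebra
  let D := n * (N - 1) + 1
  let S : Submodule k (Y → k) := ⨆ j : Fin D, M ^ (j : ℕ)
  have hM : M = Submodule.span k (Set.range fun i => res (b.coord i)) := by
    refine le_antisymm ?_ (Submodule.span_le.mpr ?_)
    · rw [Submodule.map_le_iff_le_comap, linFns, Submodule.span_le]
      rintro _ ⟨f, rfl⟩
      have e : (f : V → k) = ∑ i, f (b i) • (b.coord i : V → k) := dual_eq_sum b f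
      show (f : V → k) ∈ _
      rw [SetLike.mem_coe, Submodule.mem_comap, e, map_sum]
      exact Submodule.sum_mem _ fun i _ => by
        rw [map_smul]; exact Submodule.smul_mem _ _ (Submodule.subset_span ⟨i, rfl⟩)
    · rintro _ ⟨i, rfl⟩
      exact ⟨_, Submodule.subset_span ⟨b.coord i, rfl⟩, rfl⟩
  have hD : M ^ D ≤ M ^ (D - 1) := by
    conv_lhs => rw [hM, Submodule.span_pow]
    refine Submodule.span_le.mpr fun z hz => ?_
    obtain ⟨f, rfl⟩ := Set.mem_pow.mp hz
    choose ι hι using fun j => (f j).2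
    obtain ⟨i, -, hi⟩ := Finset.exists_lt_card_fiber_of_mul_lt_card_of_maps_to
      (s := (Finset.univ : Finset (Fin D))) (t := (Finset.univ : Finset (Fin n))) (f := ι)
      (fun _ _ => Finset.mem_univ _) (n := N - 1) (by simp [D])
    obtain ⟨T, hT, hTc⟩ := Finset.exists_subset_card_eq (n := N) (show N ≤ _ from by omega) (s := Finset.univ.filter fun j => ι j = i)
    show _ ∈ M ^ (D - 1)
    rw [List.prod_ofFn, ← Finset.prod_mul_prod_compl T]
    have hTp : ∏ j ∈ T, ((f j : Y → k)) = res (b.coord i) ^ N := by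
      rw [← hTc, ← Finset.prod_const]
      refine Finset.prod_congr rfl fun j hj => ?_
      rw [← hι j, (Finset.mem_filter.mp (hT hj)).2]
    have hNle : N ≤ D := hTc ▸ (Finset.card_le_univ T).trans (by simp)
    have hTcompl : ∏ j ∈ Tᶜ, ((f j : Y → k)) ∈ M ^ (D - N) := by
      have : (Tᶜ).card = D - N := by rw [Finset.card_compl, hTc, Fintype.card_fin]
      rw [← this]
      exact prod_mem_pow_card fun j _ => hM ▸ Submodule.subset_span (f j).2
    rw [hTp, show D - 1 = (N - 1) + (D - N) by omega, pow_add]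
    exact Submodule.mul_mem_mul (hpow i) hTcompl
  have hall : ∀ j, M ^ j ≤ S := by
    intro j
    induction j using Nat.strong_induction_on with
    | _ j ih =>
      by_cases hj : j < D
      · exact le_iSup (fun j : Fin D => M ^ (j : ℕ)) ⟨j, hj⟩
      · calc M ^ j = M ^ D * M ^ (j - D) := by rw [← pow_add]; congr 1; omega
          _ ≤ M ^ (D - 1) * M ^ (j - D) := mul_le_mul' hD le_rfl
          _ = M ^ (D - 1 + (j - D)) := (pow_add _ _ _).symm
          _ ≤ S := ih _ (by omega)
  let T : Subalgebra k (Y → k) := (polyR k V).map res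
  have hTS : T.toSubmodule ≤ S := by
    rintro _ ⟨F, hF, rfl⟩
    show res.toLinearMap F ∈ S
    have := Submodule.mem_map_of_mem (f := res.toLinearMap) (mem_iSup_pow hF)
    rw [Submodule.map_iSup] at this
    exact (iSup_le fun j => (Submodule.map_pow _ res j).le.trans (hall j)) this
  haveI : Module.Finite k M := Module.Finite.iff_fg.mpr (hM ▸ Submodule.fg_span (Set.finite_range _))
  haveI : Module.Finite k S := Module.Finite.iff_fg.mpr
    (Submodule.fg_iSup _ fun j => (Module.Finite.iff_fg.mp (inferInstance : Module.Finite k M)).pow _)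
  haveI : Module.Finite k T := Submodule.finiteDimensional_of_le hTS
  have hvals : ∀ i, ((fun y => b.coord i y) '' Y).Finite := by
    intro i
    let z : T := ⟨res (b.coord i), (b.coord i : V → k), dual_mem_polyR _, rfl⟩
    refine (minpoly k z).roots.toFinset.finite_toSet.subset ?_
    rintro _ ⟨y, hy, rfl⟩
    have h0 : (minpoly k z).IsRoot (b.coord i y) := by
      have h := congrArg ((Pi.evalAlgHom k (fun _ : Y => k) ⟨y, hy⟩).comp T.val) (minpoly.aeval k z)
      rw [map_zero, ← Polynomial.aeval_algHom_apply, Polynomial.aeval_def, Polynomial.eval₂_eq_eval_map] at h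
      simpa [z, res, Polynomial.IsRoot] using h
    simp only [Finset.mem_coe, Multiset.mem_toFinset, Polynomial.mem_roots']
    exact ⟨minpoly.ne_zero (Algebra.IsIntegral.isIntegral z), h0⟩
  refine ((Set.Finite.pi fun i => hvals i).preimage (f := fun y i => b.coord i y)
    (fun x _ y _ e => b.ext_elem fun i => congrFun e i)).subset fun y hy => ?_
  simp only [Set.mem_preimage, Set.mem_pi, Set.mem_univ, true_implies]
  exact fun i => ⟨y, hy, rfl⟩

end Finite

section Group

variable {A : Type v} [CommRing A] [HopfAlgebra k A]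

local notation "Γk" => WithConv (A →ₐ[k] k)

theorem exists_eq_zero_of_notMem [Module.Finite k V] {p : Submodule k V} {x : V} (hx : x ∉ p) :
    ∃ f : Module.Dual k V, (∀ y ∈ p, f y = 0) ∧ f x ≠ 0 := by
  obtain ⟨f, hf, hfp⟩ := Submodule.exists_dual_map_eq_bot_of_notMem hx inferInstance
  exact ⟨f, fun y hy => (Submodule.mem_bot k).mp (hfp ▸ Submodule.mem_map_of_mem hy), hf⟩

/-- The dual representation. -/
noncomputable def dualRep {S : Subgroup Γk} (ρ : S →* Module.End k V) : S →* Module.End k (Module.Dual k V) where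
  toFun h := (ρ h⁻¹).dualMap
  map_one' := by rw [inv_one, map_one]; exact LinearMap.dualMap_id
  map_mul' g h := by rw [mul_inv_rev, map_mul]; rfl

theorem isRegRep_dualRep [Module.Finite k V] {S : Subgroup Γk} {ρ : S →* Module.End k V} (hρ : IsRegRep ρ) :
    IsRegRep (dualRep ρ) := by
  intro Φ f
  obtain ⟨v, rfl⟩ := (Module.evalEquiv k V).surjective Φ
  obtain ⟨a, ha⟩ := hρ f v
  exact ⟨HopfAlgebraStruct.antipode (R := k) a, fun h => ha h⁻¹⟩

theorem IsRegRep.exists_stab {S : Subgroup Γk} {ρ : S →* Module.End k V} (hρ : IsRegRep ρ) [Module.Finite k V]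
    (y : V) (p : Submodule k V) :
    ∃ Z : Set Γk, ZPts.IsCl (ptR k A) Z ∧ ∀ h : S, (h : Γk) ∈ Z ↔ ρ h y ∈ p := by
  choose a ha using fun f : {f : Module.Dual k V // ∀ z ∈ p, f z = 0} => hρ f.1 y
  refine ⟨{g | ∀ f, ((⟨_, ptEval_mem (a f)⟩ : ptR k A) : Γk → k) g = 0}, ZPts.isCl_setOf_forall _, fun h => ?_⟩
  refine ⟨fun hh => by_contra fun hn => ?_, fun hh f => (ha f h).symm.trans (f.2 _ hh)⟩
  obtain ⟨f, hfp, hf⟩ := exists_eq_zero_of_notMem hn
  exact hf ((ha ⟨f, hfp⟩ h).trans (hh ⟨f, hfp⟩))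

variable [IsAlgClosed k] [Module.Finite k V]

/-- An irreducible solvable group has a fixed line in every stable closed cone. -/
theorem exists_eigen_mem_cone {S : Subgroup Γk} (hS : ZPts.IsIrr (ptR k A) (S : Set Γk))
    (hsolv : Group.IsSolvable S) {ρ : S →* Module.End k V} (hρ : IsRegRep ρ) {C : Set V}
    (hCl : ZPts.IsCl (polyR k V) C) (hC : IsCone k C) (hst : ∀ h, ∀ x ∈ C, ρ h x ∈ C) (hne : ∃ x ∈ C, x ≠ 0) :
    ∃ z ∈ C, z ≠ 0 ∧ ∀ h, ρ h z ∈ Submodule.span k {z} := by
  classical
  suffices ∀ W : Submodule k V, (∀ h, ∀ x ∈ W, ρ h x ∈ W) → (∃ x ∈ C, x ∈ W ∧ x ≠ 0) →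
      ∃ z ∈ C, z ≠ 0 ∧ ∀ h, ρ h z ∈ Submodule.span k {z} by
    obtain ⟨x, hx, hx0⟩ := hne
    exact this ⊤ (fun _ _ _ => Submodule.mem_top) ⟨x, hx, Submodule.mem_top, hx0⟩
  intro W
  induction W using WellFoundedLT.induction with
  | _ W ih =>
    rintro hW ⟨x, hxC, hxW, hx0⟩
    -- an invariant hyperplane of `W`
    let r : S →* Module.End k W :=
      { toFun := fun g => (ρ g).restrict (hW g)
        map_one' := LinearMap.ext fun x => Subtype.ext (by simp)
        map_mul' := fun a b => LinearMap.ext fun x => Subtype.ext (by simp) }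
    have hr : IsRegRep r := fun f v => by
      obtain ⟨f', rfl⟩ := LinearMap.exists_extend f |>.imp fun _ h => h.symm
      exact hρ f' v
    haveI : Nontrivial (Module.Dual k W) := by
      obtain ⟨f, hf⟩ := Module.Projective.exists_dual_ne_zero k (x := (⟨x, hxW⟩ : W)) fun h => hx0 (congrArg Subtype.val h)
      exact ⟨⟨f, 0, fun h => hf (by rw [h]; rfl)⟩⟩
    obtain ⟨f, -, hf0, hfe⟩ := exists_eigen hS hsolv (isRegRep_dualRep hr) top_ne_bot fun _ _ _ => Submodule.mem_top
    let W' : Submodule k V := (LinearMap.ker f).map W.subtype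
    have hW' : ∀ h, ∀ y ∈ W', ρ h y ∈ W' := by
      rintro h _ ⟨y, hy, rfl⟩
      refine ⟨r h y, ?_, rfl⟩
      obtain ⟨c, hc⟩ := Submodule.mem_span_singleton.mp (hfe h⁻¹)
      have h1 : f (r h⁻¹⁻¹ y) = c * f y := (LinearMap.congr_fun hc y).symm
      show f (r h y) = 0
      rw [inv_inv] at h1
      rw [h1, show f y = 0 from hy, mul_zero]
    have hlt : W' < W := lt_of_le_of_ne (Submodule.map_subtype_le W _) fun e => hf0 <| LinearMap.ext fun y => by
      obtain ⟨y', hy', e'⟩ := e.ge y.2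
      obtain rfl : y' = y := Subtype.ext e'
      exact hy'
    by_cases hmeet : ∃ z ∈ C, z ∈ W' ∧ z ≠ 0
    · exact ih W' hlt hW' hmeet
    -- otherwise there are finitely many lines, all fixed
    push Not at hmeet
    obtain ⟨l, rfl⟩ := LinearMap.exists_extend f |>.imp fun _ h => h.symm
    have hCW : ZPts.IsCl (polyR k V) (C ∩ W) := hCl.inter fun z hz => by_contra fun hn => by
      obtain ⟨g, hgW, hg⟩ := exists_eq_zero_of_notMem (hn : z ∉ W)
      exact hg (hz ⟨_, dual_mem_polyR g⟩ fun y hy => hgW y hy)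
    have h0 : ∀ z ∈ C ∩ (W : Set V), l z = 0 → z = 0 := fun z hz hlz =>
      hmeet z hz.1 ⟨⟨z, hz.2⟩, hlz, rfl⟩
    have hfin := finite_of_inter_eq_zero hCW (fun t z hz => ⟨hC t z hz.1, W.smul_mem t hz.2⟩) l h0
    have hnorm : ∀ z ∈ C ∩ (W : Set V), z ≠ 0 → (l z)⁻¹ • z ∈ {y ∈ C ∩ (W : Set V) | l y = 1} := fun z hz hz0 =>
      ⟨⟨hC _ z hz.1, W.smul_mem _ hz.2⟩, by simp [show l z ≠ 0 from fun h => hz0 (h0 z hz h)]⟩
    have hlx : l x ≠ 0 := fun h => hx0 (h0 x ⟨hxC, hxW⟩ h)
    set y := (l x)⁻¹ • x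
    have hy := hnorm x ⟨hxC, hxW⟩ hx0
    have hy0 : y ≠ 0 := fun h => by
      have h1 : l y = 1 := hy.2
      rw [h, map_zero] at h1
      exact zero_ne_one h1
    choose Z hZcl hZ using fun z : V => hρ.exists_stab y (Submodule.span k {z})
    obtain ⟨z, hz, hsub⟩ := hS.exists_subset hfin.toFinset (Z := Z) (fun z _ => hZcl z) fun g hg => by
      have hgy : ρ ⟨g, hg⟩ y ∈ C ∩ (W : Set V) := ⟨hst _ y hy.1.1, hW _ y hy.1.2⟩
      have hgy0 : ρ ⟨g, hg⟩ y ≠ 0 := fun h => hy0 <| by
        rw [← Module.End.one_apply (R := k) y, ← map_one ρ, ← inv_mul_cancel (⟨g, hg⟩ : S), map_mul,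
          Module.End.mul_apply, h, map_zero]
      refine ⟨_, hfin.mem_toFinset.mpr (hnorm _ hgy hgy0), (hZ _ ⟨g, hg⟩).mpr ?_⟩
      refine Submodule.mem_span_singleton.mpr ⟨l (ρ ⟨g, hg⟩ y), ?_⟩
      rw [smul_inv_smul₀ fun h => hgy0 (h0 _ hgy h)]
    have hyz : y ∈ Submodule.span k {z} := by
      have := (hZ z 1).mp (hsub (one_mem S))
      rwa [map_one] at this
    refine ⟨y, hy.1.1, hy0, fun h => ?_⟩
    rw [show Submodule.span k {y} = Submodule.span k {z} by
      obtain ⟨c, hc⟩ := Submodule.mem_span_singleton.mp hyz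
      rw [← hc]
      exact Submodule.span_singleton_smul_eq (IsUnit.mk0 c fun h => hy0 (by rw [← hc, h, zero_smul])) z]
    exact (hZ z h).mp (hsub h.2)

/-- A nonzero representation has a stable closed cone that is the orbit of a single line. -/
theorem exists_orbit_cone [Algebra.FiniteType k A] [Nontrivial V] {H : Subgroup Γk}
    (hH : ZPts.IsCl (ptR k A) (H : Set Γk)) {ρ : H →* Module.End k V} (hρ : IsRegRep ρ) :
    ∃ (C : Set V) (z : V), ZPts.IsCl (polyR k V) C ∧ IsCone k C ∧ (∀ h, ∀ x ∈ C, ρ h x ∈ C) ∧ z ∈ C ∧ z ≠ 0 ∧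
      ∀ x ∈ C, x ≠ 0 → ∃ (h : H) (t : kˣ), x = (t : k) • ρ h z := by
  classical
  obtain ⟨C, ⟨hCl, hC, hst, z, hz, hz0⟩, hmin⟩ := ZPts.exists_minimal (R := polyR k V)
    (fun C => ZPts.IsCl (polyR k V) C ∧ IsCone k C ∧ (∀ h, ∀ x ∈ C, ρ h x ∈ C) ∧ ∃ x ∈ C, x ≠ 0)
    (fun _ h => h.1) (S₀ := Set.univ)
    ⟨ZPts.isCl_univ, fun _ _ _ => trivial, fun _ _ _ => trivial, (exists_ne (0 : V)).imp fun _ h => ⟨trivial, h⟩⟩
  refine ⟨C, z, hCl, hC, hst, hz, hz0, ?_⟩
  -- the variety `H × 𝔾ₘ`
  let Φ : MvPolynomial (Fin 2) A →ₐ[k] (H × kˣ → k) := Pi.algHom k (fun _ : H × kˣ => k) fun p =>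
    MvPolynomial.aevalTower (p.1 : Γk).ofConv ![(p.2 : k), ((p.2⁻¹ : kˣ) : k)]
  haveI : Algebra.FiniteType k (MvPolynomial (Fin 2) A) := Algebra.FiniteType.trans (S := A) inferInstance inferInstance
  haveI : Algebra.FiniteType k Φ.range := Algebra.FiniteType.of_surjective Φ.rangeRestrict Φ.rangeRestrict_surjective
  have hvar : ZPts.IsVar Φ.range := by
    intro φ
    let g : Γk := toConv ((φ.comp Φ.rangeRestrict).comp (IsScalarTower.toAlgHom k A (MvPolynomial (Fin 2) A)))
    have hg : g ∈ H := by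
      refine hH fun F hF => ?_
      obtain ⟨a, ha⟩ := mem_ptR.mp F.2
      rw [← ha g]
      show φ (Φ.rangeRestrict (MvPolynomial.C a)) = 0
      rw [show Φ.rangeRestrict (MvPolynomial.C a) = 0 from Subtype.ext (funext fun p => by
        simpa [Φ] using (ha (p.1 : Γk)).trans (hF _ p.1.2)), map_zero]
    have ht : φ (Φ.rangeRestrict (MvPolynomial.X 0)) * φ (Φ.rangeRestrict (MvPolynomial.X 1)) = 1 := by
      rw [← map_mul, ← map_mul, show Φ.rangeRestrict (MvPolynomial.X 0 * MvPolynomial.X 1) = 1 from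
        Subtype.ext (funext fun p => by simp [Φ]), map_one]
    let t : kˣ := ⟨_, _, ht, (mul_comm _ _).trans ht⟩
    refine ⟨(⟨g, hg⟩, t), fun ⟨_, P, rfl⟩ => ?_⟩
    show (φ.comp Φ.rangeRestrict) P = MvPolynomial.aevalTower g.ofConv ![(t : k), ((t⁻¹ : kˣ) : k)] P
    induction P using MvPolynomial.induction_on with
    | C a => simp [g]
    | add P Q hP hQ => rw [map_add, map_add, hP, hQ]
    | mul_X P i hP =>
      rw [map_mul, map_mul, hP]
      congr 1
      fin_cases i <;> simp [t]
  let φ : H × kˣ → V := fun p => (p.2 : k) • ρ p.1 z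
  have hφ : ∀ F ∈ polyR k V, F ∘ φ ∈ Φ.range := by
    intro F hF
    induction hF using Algebra.adjoin_induction with
    | mem F hF =>
      obtain ⟨f, rfl⟩ := hF
      obtain ⟨a, ha⟩ := hρ f z
      exact ⟨MvPolynomial.X 0 * MvPolynomial.C a, funext fun p => by simp [Φ, φ, ha]⟩
    | algebraMap c => exact Subalgebra.algebraMap_mem Φ.range c
    | add F G _ _ hF hG => exact add_mem (S := Subalgebra k (H × kˣ → k)) hF hG
    | mul F G _ _ hF hG => exact mul_mem (S := Subalgebra k (H × kˣ → k)) hF hG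
  obtain ⟨f, ⟨p₀, hp₀⟩, hf⟩ := ZPts.exists_open_subset_image hvar φ hφ
  set O := Set.range φ
  have hmove : ∀ (h : H) (t : kˣ), ∀ x ∈ O, (t : k) • ρ h x ∈ O := by
    rintro h t _ ⟨p, rfl⟩
    refine ⟨(h * p.1, t * p.2), ?_⟩
    simp [φ, smul_smul]
  have hclmove : ∀ (h : H) (t : kˣ), ∀ x ∈ ZPts.cl (polyR k V) O, (t : k) • ρ h x ∈ ZPts.cl (polyR k V) O := by
    intro h t x hx F hF
    exact hx ⟨_, mem_polyR_comp F.2 ((t : k) • ρ h)⟩ fun y hy => hF _ (hmove h t y hy)
  let D : Set V := {x ∈ ZPts.cl (polyR k V) O | ∀ p : H × kˣ, (f : V → k) ((p.2 : k) • ρ p.1 x) = 0}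
  have hDcl : ZPts.IsCl (polyR k V) D := (ZPts.isCl_cl O).inter
    (ZPts.isCl_setOf_forall fun p : H × kˣ => (⟨_, mem_polyR_comp f.2 ((p.2 : k) • ρ p.1)⟩ : polyR k V))
  have hDmove : ∀ (h : H) (t : kˣ), ∀ x ∈ D, (t : k) • ρ h x ∈ D := by
    intro h t x hx
    refine ⟨hclmove h t x hx.1, fun p => ?_⟩
    have := hx.2 (p.1 * h, p.2 * t)
    simpa [smul_smul, mul_comm] using this
  have hcompl : ∀ x ∈ ZPts.cl (polyR k V) O, x ∈ D ∨ x ∈ O := by
    intro x hx
    by_cases hd : ∀ p : H × kˣ, (f : V → k) ((p.2 : k) • ρ p.1 x) = 0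
    · exact Or.inl ⟨hx, hd⟩
    push Not at hd
    obtain ⟨p, hp⟩ := hd
    obtain ⟨q, hq⟩ := hf _ (hclmove p.1 p.2 x hx) hp
    right
    have e : (p.2 : k) • ρ p.1 x = φ q := polyR_ext fun F => (hq F).symm
    refine ⟨(p.1⁻¹ * q.1, p.2⁻¹ * q.2), ?_⟩
    have := congrArg (fun w => ((p.2⁻¹ : kˣ) : k) • ρ p.1⁻¹ w) e
    simp only [φ, map_smul, ← Module.End.mul_apply, ← map_mul, inv_mul_cancel, map_one, Module.End.one_apply,
      smul_smul, Units.inv_mul, one_smul] at this
    simpa [φ, smul_smul] using this.symm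
  have hOnD : ∀ x ∈ O, x ∉ D := by
    rintro _ ⟨p, rfl⟩ hD
    apply hp₀
    have := hD.2 (p₀.1 * p.1⁻¹, p₀.2 * p.2⁻¹)
    simp only [φ, map_smul, ← Module.End.mul_apply, ← map_mul, inv_mul_cancel_right, smul_smul,
      Units.val_mul, mul_assoc, Units.inv_mul, mul_one] at this
    rw [inv_mul_cancel, mul_one] at this
    exact this
  have hO : O.Nonempty := ⟨_, (1, 1), rfl⟩
  have hzO : z ∈ O := ⟨(1, 1), by simp [φ]⟩
  have hO0 : (0 : V) ∉ O := by
    rintro ⟨p, hp⟩
    simp only [φ, smul_eq_zero, Units.ne_zero, false_or] at hp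
    apply hz0
    rw [← Module.End.one_apply (R := k) z, ← map_one ρ, ← inv_mul_cancel p.1, map_mul, Module.End.mul_apply, hp, map_zero]
  have h0cl : (0 : V) ∈ ZPts.cl (polyR k V) O := zero_mem_cl (fun t ht x hx => by
    simpa using hmove 1 (Units.mk0 t ht) x hx) hO
  have h0D : (0 : V) ∈ D := (hcompl 0 h0cl).resolve_right hO0
  have hOC : O ⊆ C := by
    rintro _ ⟨p, rfl⟩
    exact hC _ _ (hst _ z hz)
  intro x hx hx0
  have hDC : D ⊆ C := fun y hy => hCl.cl_subset hOC hy.1
  have hDzero : ∀ y ∈ D, y = 0 := by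
    by_contra hne
    push Not at hne
    have e := hmin D ⟨hDcl, fun t y hy => by
      rcases eq_or_ne t 0 with rfl | ht
      · rwa [zero_smul]
      · simpa using hDmove 1 (Units.mk0 t ht) y hy, fun h y hy => by simpa using hDmove h 1 y hy, hne⟩ hDC
    exact hOnD z hzO (e ▸ hz)
  have hclC : C = ZPts.cl (polyR k V) O := by
    refine (hmin _ ⟨ZPts.isCl_cl O, fun t y hy => ?_, fun h y hy => by simpa using hclmove h 1 y hy,
      z, ZPts.subset_cl O hzO, hz0⟩ (hCl.cl_subset hOC)).symm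
    rcases eq_or_ne t 0 with rfl | ht
    · rwa [zero_smul]
    · simpa using hclmove 1 (Units.mk0 t ht) y hy
  rcases hcompl x (hclC ▸ hx) with h | ⟨p, rfl⟩
  · exact absurd (hDzero x h) hx0
  · exact ⟨p.1, p.2, rfl⟩

end Group

end Groth.Agent.AGFHopf
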