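import Groth.Agent.ComodLib.Trig
import Groth.Agent.AGFHopf.UniPoints

/-!
# The action of the points on a comodule; trigonalizable groups have solvable groups of points
-/

universe u v w

open TensorProduct WithConv

namespace Groth.Agent.AGFHopf

open Groth.Agent.ComodLib

section

variable {k : Type u} [Field k] {A : Type v} [CommRing A] [Bialgebra k A]
variable (V : Type w) [AddCommGroup V] [Module k V] [HopfRep.Comod k A V]

/-- The action of the points on a comodule. -/
noncomputable def ptAct : WithConv (A →ₐ[k] k) →* Module.End k V where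
  toFun g := actF (C := A) g.ofConv.toLinearMap
  map_one' := LinearMap.ext fun v => by
    rw [Module.End.one_apply]
    exact (congrArg (fun f : A →ₗ[k] k => actF f v) (by ext a; simp)).trans (actF_counit (k := k) (C := A) v)
  map_mul' g h := LinearMap.ext fun v => by
    show actF (C := A) (g * h).ofConv.toLinearMap v = _
    rw [show (g * h).ofConv.toLinearMap =
      (toConv g.ofConv.toLinearMap * toConv h.ofConv.toLinearMap).ofConv from
      congrArg ofConv (AlgHom.toLinearMap_convMul g h)]
    exact actF_convMul _ _ v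

theorem ptAct_eq (g : WithConv (A →ₐ[k] k)) : ptAct V g = HopfRep.Comod.act k A V g.ofConv := rfl

variable {V}

theorem ptAct_mem {U : Submodule k V} (hU : HopfRep.IsSubcomod (k := k) (A := A) U) (g : WithConv (A →ₐ[k] k))
    {v : V} (hv : v ∈ U) : ptAct V g v ∈ U := subcomod_actF_mem hU _ hv

theorem ptAct_comm {W : Type*} [AddCommGroup W] [Module k W] [HopfRep.Comod k A W] {f : V →ₗ[k] W}
    (hf : Hoch.IsComodHom A f) (g : WithConv (A →ₐ[k] k)) (v : V) : f (ptAct V g v) = ptAct W g (f v) :=
  comodHom_actF hf _ v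

theorem counit_ptAct (g : WithConv (A →ₐ[k] k)) (a : A) :
    Coalgebra.counit (R := k) (ptAct A g a) = g.ofConv a := by
  show Coalgebra.counit (R := k) (slice g.ofConv.toLinearMap (Coalgebra.comul (R := k) a)) = _
  conv_rhs => rw [show a = TensorProduct.lid k A ((Coalgebra.counit (R := k)).rTensor A (Coalgebra.comul (R := k) a)) by
    rw [Coalgebra.rTensor_counit_comul]; simp]
  induction Coalgebra.comul (R := k) a using TensorProduct.induction_on with
  | zero => simp
  | tmul p q => simp [mul_comm]
  | add p q hp hq => simp only [map_add, hp, hq]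

/-- A finite subcomodule containing generators is faithful on points. -/
theorem ptAct_injective_of_generators {U : Submodule k A} (hU : HopfRep.IsSubcomod (k := k) (A := A) U)
    (hgen : Algebra.adjoin k (U : Set A) = ⊤) :
    Function.Injective (@ptAct k _ A _ _ U _ _ (ComodSub.Comod.restr (HopfRep.Comod.regular k A) U hU)) := by
  letI : HopfRep.Comod k A U := ComodSub.Comod.restr (HopfRep.Comod.regular k A) U hU
  intro g h e
  refine ofConv_injective (AlgHom.ext_of_adjoin_eq_top hgen fun a ha => ?_)
  have hs : Hoch.IsComodHom A U.subtype := ComodSub.isComodHom_subtype _ U hU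
  have e1 := congrArg (fun T : Module.End k U => Coalgebra.counit (R := k) (U.subtype (T ⟨a, ha⟩))) e
  simp only [ptAct_comm hs, Submodule.subtype_apply, counit_ptAct] at e1
  exact e1

theorem exists_faithful [Algebra.FiniteType k A] :
    ∃ (U : Submodule k A) (hU : HopfRep.IsSubcomod (k := k) (A := A) U), Module.Finite k U ∧
      Algebra.adjoin k (U : Set A) = ⊤ := by
  obtain ⟨s, hs⟩ := (Algebra.FiniteType.out : (⊤ : Subalgebra k A).FG)
  obtain ⟨U, hUf, hsU, hUs⟩ := exists_finite_subcomod_le (k := k) (C := A) (V := A) s.finite_toSet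
  exact ⟨U, hUs, hUf, top_unique (hs ▸ Algebra.adjoin_mono hsU)⟩

end

section Trig

variable {k : Type u} [Field k] {A : Type v} [CommRing A] [HopfAlgebra k A]
variable {V : Type v} [AddCommGroup V] [Module k V] [HopfRep.Comod k A V]

/-- Endomorphisms lowering a filtration by `r` steps. -/
def lowerSub (F : ℕ → Submodule k V) (r : ℕ) : AddSubgroup (Module.End k V) where
  carrier := {X | ∀ i, ∀ v ∈ F (i + r), X v ∈ F i}
  add_mem' hx hy i v hv := add_mem (hx i v hv) (hy i v hv)
  zero_mem' _ _ _ := Submodule.zero_mem _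
  neg_mem' hx i v hv := neg_mem (hx i v hv)

/-- A group with trigonalizable coordinate ring has a solvable group of points. -/
theorem isSolvable_points [Algebra.FiniteType k A] (hT : HopfRep.IsTrigonalizable k A) :
    Group.IsSolvable (WithConv (A →ₐ[k] k)) := by
  classical
  obtain ⟨U, hU, hUf, hgen⟩ := exists_faithful (k := k) (A := A)
  letI cU : HopfRep.Comod k A U := ComodSub.Comod.restr (HopfRep.Comod.regular k A) U hU
  haveI := hUf
  obtain ⟨F, hmono, hsub, htop, hrank⟩ := exists_flag hT U
  set n := Module.finrank k U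
  have hex : ∀ i : Fin n, ∃ x, x ∈ F (i + 1) ∧ x ∉ F i ∧ F (i + 1) ≤ F i ⊔ Submodule.span k {x} := by
    intro i
    obtain ⟨x, hx, hxn⟩ : ∃ x, x ∈ F (i + 1) ∧ x ∉ F i :=
      SetLike.exists_of_lt (lt_of_le_of_ne (hmono (Nat.le_succ i)) fun h => by
        have h1 := hrank i i.2.le
        have h2 := hrank (i + 1) i.2
        rw [← h] at h2
        omega)
    refine ⟨x, hx, hxn, (Submodule.eq_of_le_of_finrank_le
      (sup_le (hmono (Nat.le_succ i)) ((Submodule.span_singleton_le_iff_mem _ _).mpr hx)) ?_).ge⟩
    have hlt : F i < F i ⊔ Submodule.span k {x} := lt_of_le_of_ne le_sup_left fun h =>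
      hxn (h ▸ Submodule.mem_sup_right (Submodule.mem_span_singleton_self x))
    have h3 := Submodule.finrank_lt_finrank_of_lt hlt
    rw [hrank (i + 1) i.2]
    rw [hrank i i.2.le] at h3
    omega
  choose x hx hxn hxle using hex
  have hscal : ∀ (g : WithConv (A →ₐ[k] k)) (i : Fin n), ∃ c : k, ptAct U g (x i) - c • x i ∈ F i := fun g i => by
    obtain ⟨y, hy, z, hz, hyz⟩ := Submodule.mem_sup.mp (hxle i (ptAct_mem (hsub _) g (hx i)))
    obtain ⟨c, rfl⟩ := Submodule.mem_span_singleton.mp hz
    exact ⟨c, by rwa [← hyz, add_sub_cancel_right]⟩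
  choose c hc using hscal
  have huniq : ∀ (g : WithConv (A →ₐ[k] k)) (i : Fin n) (d : k), ptAct U g (x i) - d • x i ∈ F i → c g i = d := by
    intro g i d hd
    by_contra hne
    have h := sub_mem hd (hc g i)
    rw [sub_sub_sub_cancel_left, show c g i • x i - d • x i = (c g i - d) • x i from (sub_smul _ _ _).symm] at h
    exact hxn i ((Submodule.smul_mem_iff _ (sub_ne_zero.mpr hne)).mp h)
  let χ : WithConv (A →ₐ[k] k) →* (Fin n → k) :=
    { toFun := c
      map_one' := funext fun i => huniq 1 i 1 (by simp)
      map_mul' := fun g h => funext fun i => huniq _ i _ (by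
        rw [map_mul, Module.End.mul_apply, Pi.mul_apply]
        have h1 := ptAct_mem (hsub _) g (hc h i)
        rw [map_sub, map_smul] at h1
        have h2 := Submodule.smul_mem (F i) (c h i) (hc g i)
        rw [smul_sub, smul_smul, mul_comm (c h i)] at h2
        have := add_mem h1 h2
        rwa [sub_add_sub_cancel] at this) }
  haveI : Group.IsNilpotent χ.toHomUnits.ker := by
    refine isNilpotent_of_filtration ((ptAct U).comp χ.toHomUnits.ker.subtype)
      ((ptAct_injective_of_generators hU hgen).comp Subtype.val_injective) (lowerSub F) ?_ ?_ (m := n) ?_ ?_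
    · intro a b hab X hX i v hv
      exact hX i v (hmono (by omega) hv)
    · intro a b X hX Y hY i v hv
      exact hX i _ (hY (i + a) v (by rwa [add_assoc]))
    · intro X hX
      refine LinearMap.ext fun v => ?_
      have := hX 0 v (by rw [zero_add, htop]; trivial)
      rw [show F 0 = ⊥ from Submodule.finrank_eq_zero.mp (hrank 0 (Nat.zero_le _)), Submodule.mem_bot] at this
      exact this
    · rintro ⟨g, hg⟩ i v hv
      have hcg : ∀ j, c g j = 1 := fun j => congrFun (congrArg Units.val hg) j
      show ptAct U g v - v ∈ F i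
      by_cases hi : i < n
      · obtain ⟨y, hy, z, hz, rfl⟩ := Submodule.mem_sup.mp (hxle ⟨i, hi⟩ hv)
        obtain ⟨d, rfl⟩ := Submodule.mem_span_singleton.mp hz
        have h1 := hc g ⟨i, hi⟩
        rw [hcg, one_smul] at h1
        rw [map_add, map_smul, add_sub_add_comm,
          show ∀ p q : U, d • p - d • q = d • (p - q) from fun p q => (smul_sub d p q).symm]
        exact add_mem (sub_mem (ptAct_mem (hsub _) g hy) hy) (Submodule.smul_mem _ d h1)
      · exact eq_top_iff.mp htop |>.trans (hmono (not_lt.mp hi)) trivial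
  exact Group.isSolvable_of_ker_le_range χ.toHomUnits.ker.subtype χ.toHomUnits
    (by rw [Subgroup.range_subtype])

end Trig

section Criterion

variable {k : Type u} [Field k] {B : Type v} [CommRing B] [Bialgebra k B]

/-- If the regular comodule is exhausted by subcomodules with flags, the monoid is trigonalizable. -/
theorem isTrigonalizable_of_flags
    (h : ∀ s : Finset B, ∃ (F : ℕ → Submodule k B) (n : ℕ), F 0 = ⊥ ∧
      (∀ i, HopfRep.IsSubcomod (k := k) (A := B) (F i)) ∧
      (∀ i < n, ∃ x, F (i + 1) ≤ F i ⊔ Submodule.span k {x}) ∧ (s : Set B) ⊆ F n) :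
    HopfRep.IsTrigonalizable k B := by
  classical
  intro V _ _ c _ hsimple
  haveI : Nontrivial V := hsimple.1
  obtain ⟨v₀, hv₀⟩ := exists_ne (0 : V)
  obtain ⟨f, hf⟩ := Module.Projective.exists_dual_ne_zero k hv₀
  have hj : Hoch.IsComodHom B (coefFun (C := B) f) := isComodHom_coefFun f
  have hinj : Function.Injective (coefFun (C := B) f) := by
    rcases hsimple.2 _ (isSubcomod_ker hj) with h0 | h0
    · exact LinearMap.ker_eq_bot.mp h0
    · refine absurd ?_ hf
      rw [← counit_coefFun (C := B) f v₀, LinearMap.ker_eq_top.mp h0, LinearMap.zero_apply, map_zero]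
  let b := Module.finBasis k V
  obtain ⟨F, n, hF0, hsub, hstep, hs⟩ := h (Finset.univ.image fun i => coefFun (C := B) f (b i))
  let G : ℕ → Submodule k V := fun i => (F i).comap (coefFun (C := B) f)
  have hG0 : G 0 = ⊥ := by
    show (F 0).comap _ = ⊥
    rw [hF0]
    exact LinearMap.ker_eq_bot.mpr hinj
  have hGn : G n = ⊤ := by
    rw [eq_top_iff, ← b.span_eq, Submodule.span_le]
    rintro _ ⟨i, rfl⟩
    exact hs (by simp)
  have hex : ∃ i, G i = ⊤ := ⟨n, hGn⟩
  obtain ⟨i, hi⟩ : ∃ i, Nat.find hex = i + 1 := Nat.exists_eq_succ_of_ne_zero fun h0 => by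
    have := Nat.find_spec hex
    rw [h0, hG0] at this
    exact bot_ne_top this
  have hi0 : G i = ⊥ := (hsimple.2 _ (isSubcomod_comap hj (hsub i))).resolve_right (Nat.find_min hex (by omega))
  obtain ⟨x, hx⟩ := hstep i (by have := Nat.find_min' hex hGn; omega)
  have htop : G (i + 1) = ⊤ := hi ▸ Nat.find_spec hex
  let q : V →ₗ[k] B ⧸ F i := (F i).mkQ ∘ₗ coefFun (C := B) f
  have hq : Function.Injective q := by
    rw [← LinearMap.ker_eq_bot, LinearMap.ker_comp, Submodule.ker_mkQ]
    exact hi0
  have hqr : LinearMap.range q ≤ Submodule.span k {(F i).mkQ x} := by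
    rintro _ ⟨v, rfl⟩
    obtain ⟨y, hy, z, hz, hyz⟩ := Submodule.mem_sup.mp (hx (htop.ge (Submodule.mem_top (x := v))))
    obtain ⟨d, rfl⟩ := Submodule.mem_span_singleton.mp hz
    refine Submodule.mem_span_singleton.mpr ⟨d, ?_⟩
    simp only [q, LinearMap.comp_apply]
    rw [← hyz, map_add, map_smul, show (F i).mkQ y = 0 from (Submodule.Quotient.mk_eq_zero _).mpr hy, zero_add]
  refine le_antisymm ?_ Module.finrank_pos
  calc Module.finrank k V = Module.finrank k (LinearMap.range q) :=
        (LinearMap.finrank_range_of_inj hq).symm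
    _ ≤ Module.finrank k (Submodule.span k {(F i).mkQ x}) := Submodule.finrank_mono hqr
    _ ≤ 1 := (finrank_span_le_card _).trans (by simp)

end Criterion

end Groth.Agent.AGFHopf
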