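import Groth.Agent.AGFHopf.ZPts
import Groth.Agent.AGFHopf.PtAct
import Mathlib.RingTheory.HopfAlgebra.Convolution
import Mathlib.LinearAlgebra.Eigenspace.Triangularizable
import Mathlib.LinearAlgebra.Determinant
import Mathlib.GroupTheory.Solvable
import Mathlib.LinearAlgebra.Dual.Lemmas

/-!
# The group of points as a variety; the Lie–Kolchin theorem for irreducible solvable subgroups
-/

universe u v w

open TensorProduct WithConv
open scoped commutatorElement

namespace Groth.Agent.AGFHopf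

variable {k : Type u} [Field k] {A : Type v} [CommRing A] [HopfAlgebra k A]

local notation "Γk" => WithConv (A →ₐ[k] k)

variable (k A) in
/-- Evaluation of functions on the points. -/
noncomputable def ptEval : A →ₐ[k] (Γk → k) := Pi.algHom k (fun _ : Γk => k) fun g => g.ofConv

variable (k A) in
/-- The regular functions on the group of points. -/
noncomputable def ptR : Subalgebra k (Γk → k) := (ptEval k A).range

theorem mem_ptR {F : Γk → k} : F ∈ ptR k A ↔ ∃ a : A, ∀ g : Γk, g.ofConv a = F g :=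
  ⟨fun ⟨a, ha⟩ => ⟨a, fun g => congrFun ha g⟩, fun ⟨a, ha⟩ => ⟨a, funext ha⟩⟩

theorem ptEval_mem (a : A) : (fun g : Γk => g.ofConv a) ∈ ptR k A := ⟨a, rfl⟩

theorem pt_ext {g h : Γk} (e : ∀ F : ptR k A, (F : Γk → k) g = (F : Γk → k) h) : g = h :=
  ofConv_injective (AlgHom.ext fun a => e ⟨_, ptEval_mem a⟩)

theorem isVar_ptR : ZPts.IsVar (ptR k A) := fun φ =>
  ⟨toConv (φ.comp (ptEval k A).rangeRestrict), fun ⟨_, a, rfl⟩ => rfl⟩

instance finiteType_ptR [Algebra.FiniteType k A] : Algebra.FiniteType k (ptR k A) :=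
  Algebra.FiniteType.of_surjective (ptEval k A).rangeRestrict (ptEval k A).rangeRestrict_surjective

theorem mem_ptR_mul {F : Γk → k} (hF : F ∈ ptR k A) (c : Γk) :
    (fun g => F (g * c)) ∈ ptR k A ∧ (fun g => F (c * g)) ∈ ptR k A := by
  obtain ⟨a, ha⟩ := mem_ptR.mp hF
  suffices ∀ z : A ⊗[k] A, (∃ b : A, ∀ g : Γk, g.ofConv b =
      Algebra.TensorProduct.lmul' k (Algebra.TensorProduct.map g.ofConv c.ofConv z)) ∧
      ∃ b : A, ∀ g : Γk, g.ofConv b =
      Algebra.TensorProduct.lmul' k (Algebra.TensorProduct.map c.ofConv g.ofConv z) by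
    obtain ⟨⟨b, hb⟩, ⟨b', hb'⟩⟩ := this (Coalgebra.comul (R := k) a)
    exact ⟨mem_ptR.mpr ⟨b, fun g => (hb g).trans (ha (g * c))⟩, mem_ptR.mpr ⟨b', fun g => (hb' g).trans (ha (c * g))⟩⟩
  intro z
  induction z using TensorProduct.induction_on with
  | zero => exact ⟨⟨0, by simp⟩, ⟨0, by simp⟩⟩
  | tmul p q => exact ⟨⟨c.ofConv q • p, fun g => by simp [mul_comm]⟩, ⟨c.ofConv p • q, fun g => by simp⟩⟩
  | add p q hp hq =>
    obtain ⟨⟨b, hb⟩, ⟨b', hb'⟩⟩ := hp
    obtain ⟨⟨d, hd⟩, ⟨d', hd'⟩⟩ := hq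
    exact ⟨⟨b + d, fun g => by simp [hb, hd]⟩, ⟨b' + d', fun g => by simp [hb', hd']⟩⟩

theorem mem_ptR_inv {F : Γk → k} (hF : F ∈ ptR k A) : (fun g => F g⁻¹) ∈ ptR k A := by
  obtain ⟨a, ha⟩ := mem_ptR.mp hF
  exact mem_ptR.mpr ⟨HopfAlgebraStruct.antipode (R := k) a, fun g => ha g⁻¹⟩

/-- The regularity of `g ↦ F (g * d * g⁻¹)`. -/
theorem mem_ptR_conj {F : Γk → k} (hF : F ∈ ptR k A) (d : Γk) : (fun g => F (g⁻¹ * d * g)) ∈ ptR k A := by
  obtain ⟨a, ha⟩ := mem_ptR.mp hF
  suffices ∀ z : A ⊗[k] A, ∃ b ∈ ptR k A, ∀ g : Γk, b g =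
      Algebra.TensorProduct.lmul' k (Algebra.TensorProduct.map (g⁻¹ * d).ofConv g.ofConv z) by
    obtain ⟨b, hb, hbe⟩ := this (Coalgebra.comul (R := k) a)
    rw [show (fun g => F (g⁻¹ * d * g)) = b from funext fun g => ((hbe g).trans (ha (g⁻¹ * d * g))).symm]
    exact hb
  intro z
  induction z using TensorProduct.induction_on with
  | zero => exact ⟨0, zero_mem _, by simp⟩
  | tmul p q =>
    exact ⟨(fun g => (g⁻¹ * d).ofConv p) * (fun g : Γk => g.ofConv q),
      mul_mem (mem_ptR_inv (mem_ptR_mul (ptEval_mem p) d).1) (ptEval_mem q), fun g => by simp⟩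
  | add p q hp hq =>
    obtain ⟨b, hb, hbe⟩ := hp
    obtain ⟨b', hb', hbe'⟩ := hq
    exact ⟨b + b', add_mem hb hb', fun g => by simp [hbe, hbe']⟩

theorem isIrr_mul {S T : Set Γk} (hS : ZPts.IsIrr (ptR k A) S) (hT : ZPts.IsIrr (ptR k A) T) :
    ZPts.IsIrr (ptR k A) (Set.image2 (· * ·) S T) :=
  hS.image2 hT _ (fun f hf y _ => ⟨_, (mem_ptR_mul hf y).1, fun _ _ => rfl⟩)
    fun f hf x _ => ⟨_, (mem_ptR_mul hf x).2, fun _ _ => rfl⟩

theorem isIrr_inv {S : Set Γk} (hS : ZPts.IsIrr (ptR k A) S) : ZPts.IsIrr (ptR k A) ((·⁻¹) '' S) :=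
  hS.image _ fun _ hf => mem_ptR_inv hf

/-- The subgroup generated by an irreducible set through the identity is irreducible. -/
theorem isIrr_closure {C : Set Γk} (hC : ZPts.IsIrr (ptR k A) C) (h1 : (1 : Γk) ∈ C) :
    ZPts.IsIrr (ptR k A) (Subgroup.closure C : Set Γk) := by
  let D : Set Γk := Set.image2 (· * ·) C ((·⁻¹) '' C)
  have hD : ZPts.IsIrr (ptR k A) D := isIrr_mul hC (isIrr_inv hC)
  have hD1 : (1 : Γk) ∈ D := ⟨1, h1, 1, ⟨1, h1, inv_one⟩, mul_one 1⟩
  let P : ℕ → Set Γk := fun n => Nat.rec {1} (fun _ Q => Set.image2 (· * ·) Q D) n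
  have hP : ∀ n, ZPts.IsIrr (ptR k A) (P n) := fun n => by
    induction n with
    | zero => exact ZPts.isIrr_singleton 1
    | succ n ih => exact isIrr_mul ih hD
  have hmono : Monotone P := monotone_nat_of_le_succ fun n x hx => ⟨x, hx, 1, hD1, mul_one x⟩
  suffices e : (Subgroup.closure C : Set Γk) = ⋃ n, P n by rw [e]; exact ZPts.isIrr_iUnion hmono hP
  refine Set.Subset.antisymm (fun x hx => ?_) (Set.iUnion_subset fun n => ?_)
  · have hmul : ∀ n m, ∀ a ∈ P n, ∀ b ∈ P m, a * b ∈ P (n + m) := fun n m => by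
      induction m with
      | zero => intro a ha b hb; rwa [Set.mem_singleton_iff.mp hb, mul_one]
      | succ m ih =>
        rintro a ha _ ⟨b, hb, d, hd, rfl⟩
        exact ⟨a * b, ih a ha b hb, d, hd, mul_assoc a b d⟩
    induction hx using Subgroup.closure_induction'' with
    | one => exact Set.mem_iUnion.mpr ⟨0, rfl⟩
    | mem y hy => exact Set.mem_iUnion.mpr ⟨1, 1, rfl, y, ⟨y, hy, 1, ⟨1, h1, inv_one⟩, mul_one y⟩, one_mul y⟩
    | inv_mem y hy => exact Set.mem_iUnion.mpr ⟨1, 1, rfl, y⁻¹, ⟨1, h1, y⁻¹, ⟨y, hy, rfl⟩, one_mul _⟩, one_mul _⟩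
    | mul y z _ _ hy hz =>
      obtain ⟨n, hn⟩ := Set.mem_iUnion.mp hy
      obtain ⟨m, hm⟩ := Set.mem_iUnion.mp hz
      exact Set.mem_iUnion.mpr ⟨n + m, hmul n m y hn z hm⟩
  · induction n with
    | zero => exact Set.singleton_subset_iff.mpr (one_mem _)
    | succ n ih =>
      rintro _ ⟨a, ha, _, ⟨b, hb, _, ⟨c, hc, rfl⟩, rfl⟩, rfl⟩
      exact mul_mem (ih ha) (mul_mem (Subgroup.subset_closure hb) (inv_mem (Subgroup.subset_closure hc)))

/-- The derived subgroup of an irreducible subgroup is irreducible. -/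
theorem isIrr_commutator {S : Subgroup Γk} (hS : ZPts.IsIrr (ptR k A) (S : Set Γk)) :
    ZPts.IsIrr (ptR k A) ((⁅S, S⁆ : Subgroup Γk) : Set Γk) := by
  let C : Set Γk := Set.image2 (fun x y => x * y * x⁻¹ * y⁻¹) (S : Set Γk) S
  have hC : ZPts.IsIrr (ptR k A) C := by
    refine hS.image2 hS _ (fun f hf y _ => ?_) fun f hf x _ => ?_
    · refine ⟨fun x => f (x * y * x⁻¹ * y⁻¹), ?_, fun _ _ => rfl⟩
      simpa using mem_ptR_inv (mem_ptR_conj (mem_ptR_mul hf y⁻¹).1 y)
    · refine ⟨fun z => f (x * z * x⁻¹ * z⁻¹), ?_, fun _ _ => rfl⟩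
      simpa [mul_assoc] using mem_ptR_inv (mem_ptR_conj (mem_ptR_mul hf x).2 x⁻¹)
  have h1 : (1 : Γk) ∈ C := ⟨1, S.one_mem, 1, S.one_mem, by simp⟩
  have e : ⁅S, S⁆ = Subgroup.closure C := by
    rw [Subgroup.commutator_def]
    exact congrArg Subgroup.closure (Set.ext fun g => by simp [C, commutatorElement_def])
  rw [e]
  exact isIrr_closure hC h1

section Rep

variable {V : Type w} [AddCommGroup V] [Module k V]

/-- A representation of a subgroup with regular matrix coefficients. -/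
def IsRegRep {S : Subgroup Γk} (ρ : S →* Module.End k V) : Prop :=
  ∀ (f : Module.Dual k V) (v : V), ∃ a : A, ∀ h : S, f (ρ h v) = (h : Γk).ofConv a

theorem IsRegRep.mem_ptR {S : Subgroup Γk} {ρ : S →* Module.End k V} (hρ : IsRegRep ρ) (f : Module.Dual k V) (v : V) :
    ∃ F ∈ ptR k A, ∀ h : S, F h = f (ρ h v) := by
  obtain ⟨a, ha⟩ := hρ f v
  exact ⟨_, ptEval_mem a, fun h => (ha h).symm⟩

theorem IsRegRep.comp {S T : Subgroup Γk} (hT : T ≤ S) {ρ : S →* Module.End k V} (hρ : IsRegRep ρ) :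
    IsRegRep (ρ.comp (Subgroup.inclusion hT)) := fun f v =>
  (hρ f v).imp fun _ ha h => ha (Subgroup.inclusion hT h)

/-- Commuting operators have a common eigenvector in a nonzero stable subspace. -/
theorem exists_eigen_of_commute [IsAlgClosed k] [Module.Finite k V] {ι : Type*} (T : ι → Module.End k V) :
    ∀ W : Submodule k V, W ≠ ⊥ → (∀ i, ∀ v ∈ W, T i v ∈ W) → (∀ i j, ∀ v ∈ W, T i (T j v) = T j (T i v)) →
      ∃ v ∈ W, v ≠ 0 ∧ ∀ i, T i v ∈ Submodule.span k {v} := by
  intro W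
  induction W using WellFoundedLT.induction with
  | _ W ih =>
    intro hW hst hc
    by_cases hall : ∀ i, ∃ c : k, ∀ v ∈ W, T i v = c • v
    · obtain ⟨v, hv, hv0⟩ := Submodule.exists_mem_ne_zero_of_ne_bot hW
      exact ⟨v, hv, hv0, fun i => by
        obtain ⟨c, hc⟩ := hall i
        exact Submodule.mem_span_singleton.mpr ⟨c, (hc v hv).symm⟩⟩
    push Not at hall
    obtain ⟨i, hi⟩ := hall
    haveI : Nontrivial W := Submodule.nontrivial_iff_ne_bot.mpr hW
    obtain ⟨c, hc'⟩ := Module.End.exists_eigenvalue ((T i).restrict (hst i))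
    obtain ⟨w, hw⟩ := hc'.exists_hasEigenvector
    let W' := W ⊓ LinearMap.ker (T i - c • LinearMap.id)
    have hlt : W' < W := lt_of_le_of_ne inf_le_left fun e => by
      obtain ⟨v, hv, hne⟩ := hi c
      exact hne (by simpa [sub_eq_zero] using (e.ge hv).2)
    have hne : W' ≠ ⊥ := (Submodule.ne_bot_iff _).mpr ⟨w, ⟨w.2, by
      simpa [sub_eq_zero] using congrArg Subtype.val hw.apply_eq_smul⟩, fun h => hw.2 (Subtype.ext h)⟩
    obtain ⟨v, hv, hv0, hve⟩ := ih W' hlt hne (fun j v hv => ⟨hst j v hv.1, by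
      have hvi : T i v = c • v := by simpa [sub_eq_zero] using hv.2
      simp [hc i j v hv.1, hvi]⟩) fun j l v hv => hc j l v hv.1
    exact ⟨v, hv.1, hv0, hve⟩

/-- The Lie–Kolchin theorem. -/
theorem exists_eigen [IsAlgClosed k] [Module.Finite k V] {S : Subgroup Γk}
    (hS : ZPts.IsIrr (ptR k A) (S : Set Γk)) (hsolv : Group.IsSolvable S) {ρ : S →* Module.End k V}
    (hρ : IsRegRep ρ) {W : Submodule k V} (hW : W ≠ ⊥) (hst : ∀ h, ∀ v ∈ W, ρ h v ∈ W) :
    ∃ v ∈ W, v ≠ 0 ∧ ∀ h, ρ h v ∈ Submodule.span k {v} := by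
  obtain ⟨n, hn⟩ := hsolv
  induction n generalizing S W with
  | zero =>
    have hone : ∀ h : S, h = 1 := fun h => by
      have : h ∈ derivedSeries S 0 := trivial
      rwa [hn, Subgroup.mem_bot] at this
    obtain ⟨v, hv, hv0⟩ := Submodule.exists_mem_ne_zero_of_ne_bot hW
    exact ⟨v, hv, hv0, fun h => by
      rw [hone h, map_one]; exact Submodule.mem_span_singleton_self v⟩
  | succ n ih =>
    set S' : Subgroup Γk := ⁅S, S⁆ with hS'
    have hle : S' ≤ S := Subgroup.commutator_le_self S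
    have hmap : (derivedSeries S 1).map S.subtype = S' := by
      rw [derivedSeries_one, commutator_def, Subgroup.map_commutator, ← MonoidHom.range_eq_map, Subgroup.range_subtype]
    have hsolv' : derivedSeries S' n = ⊥ := by
      refine (Subgroup.map_eq_bot_iff_of_injective _ (Subgroup.inclusion_injective hle)).mp (le_bot_iff.mp ?_)
      have key : ∀ m, (derivedSeries S' m).map (Subgroup.inclusion hle) ≤ derivedSeries S (m + 1) := fun m => by
        induction m with
        | zero =>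
          rintro _ ⟨⟨x, hx⟩, -, rfl⟩
          rw [← hmap] at hx
          obtain ⟨y, hy, e⟩ := hx
          rwa [show Subgroup.inclusion hle ⟨x, _⟩ = y from Subtype.ext e.symm]
        | succ m ihm =>
          rw [derivedSeries_succ, Subgroup.map_commutator, derivedSeries_succ S (m + 1)]
          exact Subgroup.commutator_mono ihm ihm
      exact (key n).trans hn.le
    obtain ⟨v₀, hv₀, hv₀0, heig⟩ := ih (S := S') (W := W) (ρ := ρ.comp (Subgroup.inclusion hle)) (isIrr_commutator hS)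
      (hρ.comp hle) hW (fun h => hst _) hsolv'
    obtain ⟨φ, hφ⟩ := Module.Projective.exists_dual_eq_one k hv₀0
    let χ : S' → k := fun h => φ (ρ (Subgroup.inclusion hle h) v₀)
    have hχ : ∀ h, ρ (Subgroup.inclusion hle h) v₀ = χ h • v₀ := fun h => by
      obtain ⟨c, hc⟩ := Submodule.mem_span_singleton.mp (heig h)
      change c • v₀ = ρ (Subgroup.inclusion hle h) v₀ at hc
      simp only [χ, ← hc, map_smul, hφ, smul_eq_mul, mul_one]
    have hnorm : ∀ (g : S) (h : S'), (g : Γk)⁻¹ * (h : Γk) * (g : Γk) ∈ S' := fun g h => by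
      obtain ⟨y, hy, e⟩ : (h : Γk) ∈ (derivedSeries S 1).map S.subtype := hmap.symm ▸ h.2
      refine hmap.le ⟨g⁻¹ * y * g, by simpa using (derivedSeries_normal S 1).conj_mem y hy g⁻¹, ?_⟩
      rw [← e]
      rfl
    let cj : S → S' → S' := fun g h => ⟨_, hnorm g h⟩
    have hcj : ∀ g h, Subgroup.inclusion hle (cj g h) = g⁻¹ * Subgroup.inclusion hle h * g := fun g h => rfl
    have hinv : ∀ g h, χ (cj g h) = χ h := by
      intro g h
      obtain ⟨a, ha⟩ := hρ φ v₀
      obtain ⟨F, hF⟩ : ∃ F : ptR k A, ∀ x : S, (F : Γk → k) x = χ (cj x h) :=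
        ⟨⟨_, mem_ptR_conj (ptEval_mem a) (h : Γk)⟩, fun x => (ha (Subgroup.inclusion hle (cj x h))).symm⟩
      have hfin : ((F : Γk → k) '' (S : Set Γk)).Finite := by
        refine (Module.End.finite_spectrum (ρ (Subgroup.inclusion hle h))).subset ?_
        rintro _ ⟨x, hx, rfl⟩
        obtain ⟨xS, rfl⟩ : ∃ xS : S, (xS : Γk) = x := ⟨⟨x, hx⟩, rfl⟩
        rw [hF, ← Module.End.hasEigenvalue_iff_mem_spectrum]
        refine Module.End.hasEigenvalue_of_hasEigenvector (x := ρ xS v₀) ⟨Module.End.mem_eigenspace_iff.mpr ?_, ?_⟩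
        · rw [← map_smul, ← hχ, hcj, ← Module.End.mul_apply, ← Module.End.mul_apply, ← map_mul, ← map_mul,
            mul_assoc, mul_inv_cancel_left]
        · intro h0
          apply hv₀0
          rw [← Module.End.one_apply (R := k) v₀, ← map_one ρ, ← inv_mul_cancel xS, map_mul, Module.End.mul_apply, h0, map_zero]
      have e1 := hS.eq_of_finite F hfin g.2 (one_mem S : (1 : Γk) ∈ S)
      rw [hF g, show (1 : Γk) = ((1 : S) : Γk) from rfl, hF 1] at e1
      rw [e1]
      exact congrArg χ (Subtype.ext (by simp [cj]))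
    let E : Submodule k V := W ⊓ ⨅ h : S', LinearMap.ker (ρ (Subgroup.inclusion hle h) - χ h • LinearMap.id)
    have hmemE : ∀ v, v ∈ E ↔ v ∈ W ∧ ∀ h, ρ (Subgroup.inclusion hle h) v = χ h • v := fun v => by
      simp [E, sub_eq_zero]
    have hEst : ∀ g, ∀ v ∈ E, ρ g v ∈ E := by
      intro g v hv
      rw [hmemE] at hv ⊢
      refine ⟨hst g v hv.1, fun h => ?_⟩
      rw [← Module.End.mul_apply, ← map_mul, show Subgroup.inclusion hle h * g = g * Subgroup.inclusion hle (cj g h) by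
        rw [hcj, ← mul_assoc, mul_inv_cancel_left], map_mul, Module.End.mul_apply, hv.2, map_smul, hinv]
    haveI : Nontrivial E := Submodule.nontrivial_iff_ne_bot.mpr
      ((Submodule.ne_bot_iff _).mpr ⟨v₀, (hmemE _).mpr ⟨hv₀, hχ⟩, hv₀0⟩)
    let d : ℕ := Module.finrank k E
    have hdpos : 0 < d := Module.finrank_pos
    let r : S →* Module.End k E :=
      { toFun := fun g => (ρ g).restrict (hEst g)
        map_one' := LinearMap.ext fun x => Subtype.ext (by simp)
        map_mul' := fun a b => LinearMap.ext fun x => Subtype.ext (by simp) }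
    let det : S →* kˣ := (LinearMap.det.comp r).toHomUnits
    have hdet : ∀ h : S', χ h ^ d = 1 := by
      intro h
      have h1 : Subgroup.inclusion hle h ∈ derivedSeries S 1 := by
        obtain ⟨y, hy, e⟩ : (h : Γk) ∈ (derivedSeries S 1).map S.subtype := hmap.symm ▸ h.2
        rwa [show Subgroup.inclusion hle h = y from Subtype.ext e.symm]
      have h2 : det (Subgroup.inclusion hle h) = 1 := Abelianization.commutator_subset_ker det h1
      have h3 : LinearMap.det (r (Subgroup.inclusion hle h)) = 1 := congrArg Units.val h2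
      rw [← h3, show r (Subgroup.inclusion hle h) = χ h • (1 : Module.End k E) from
        LinearMap.ext fun x => Subtype.ext (((hmemE _).mp x.2).2 h), LinearMap.det_smul, map_one, mul_one]
    have hχ1 : ∀ h, χ h = 1 := by
      intro h
      obtain ⟨a, ha⟩ := hρ φ v₀
      have hfin : (((⟨_, ptEval_mem a⟩ : ptR k A) : Γk → k) '' (S' : Set Γk)).Finite := by
        refine (Polynomial.nthRootsFinset d (1 : k)).finite_toSet.subset ?_
        rintro _ ⟨x, hx, rfl⟩
        refine (Polynomial.mem_nthRootsFinset hdpos 1).mpr ?_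
        rw [show ((⟨_, ptEval_mem a⟩ : ptR k A) : Γk → k) x = χ ⟨x, hx⟩ from (ha (Subgroup.inclusion hle ⟨x, hx⟩)).symm]
        exact hdet _
      have e1 := (isIrr_commutator hS).eq_of_finite _ hfin h.2 (one_mem S' : (1 : Γk) ∈ S')
      rw [show χ h = (h : Γk).ofConv a from ha (Subgroup.inclusion hle h)]
      refine e1.trans ((ha 1).symm.trans ?_)
      rw [map_one, Module.End.one_apply, hφ]
    obtain ⟨v, hv, hv0, hve⟩ := exists_eigen_of_commute (fun g : S => ρ g) E (Submodule.nontrivial_iff_ne_bot.mp inferInstance)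
      hEst fun g g' v hv => by
        have hc : g'⁻¹ * g⁻¹ * g' * g ∈ derivedSeries S 1 := by
          rw [derivedSeries_one, show g'⁻¹ * g⁻¹ * g' * g = ⁅g'⁻¹, g⁻¹⁆ by simp [commutatorElement_def]]
          exact Subgroup.commutator_mem_commutator trivial trivial
        have hcS : ((g'⁻¹ * g⁻¹ * g' * g : S) : Γk) ∈ S' := hmap ▸ ⟨_, hc, rfl⟩
        have e : ρ (g'⁻¹ * g⁻¹ * g' * g) v = v := by
          have := ((hmemE v).mp hv).2 ⟨_, hcS⟩
          rwa [hχ1, one_smul, show Subgroup.inclusion hle ⟨_, hcS⟩ = g'⁻¹ * g⁻¹ * g' * g from Subtype.ext rfl] at this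
        conv_lhs => rw [← e]
        simp only [← Module.End.mul_apply, ← map_mul]
        congr 2
        group
    exact ⟨v, ((hmemE v).mp hv).1, hv0, hve⟩

end Rep

end Groth.Agent.AGFHopf
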