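import Groth.Agent.ComodLib.Orbits
import Mathlib.RingTheory.Nullstellensatz
import Mathlib.RingTheory.FiniteType
import Mathlib.Algebra.Algebra.Pi
import Mathlib.RingTheory.Ideal.MinimalPrime.Noetherian

/-!
# Zariski closed and irreducible sets of rational points

A variety is a set `X` with a finitely generated algebra `R` of functions such that every point of `R` is evaluation.
-/

universe u v w

namespace Groth.Agent.AGFHopf

namespace ZPts

variable {k : Type u} [Field k] {X : Type v}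

/-- Every algebra point of `R` is an evaluation. -/
def IsVar (R : Subalgebra k (X → k)) : Prop :=
  ∀ φ : R →ₐ[k] k, ∃ x : X, ∀ f : R, φ f = (f : X → k) x

/-- The functions of `R` vanishing on a set. -/
def vanI (R : Subalgebra k (X → k)) (S : Set X) : Ideal R where
  carrier := {f | ∀ x ∈ S, (f : X → k) x = 0}
  add_mem' {f g} hf hg x hx := by simp [hf x hx, hg x hx]
  zero_mem' x _ := rfl
  smul_mem' c f hf x hx := by simp [hf x hx]

/-- The common zeroes of an ideal. -/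
def zeroI (R : Subalgebra k (X → k)) (I : Ideal R) : Set X := {x | ∀ f ∈ I, (f : X → k) x = 0}

/-- The closure. -/
def cl (R : Subalgebra k (X → k)) (S : Set X) : Set X := zeroI R (vanI R S)

/-- Closed sets. -/
def IsCl (R : Subalgebra k (X → k)) (S : Set X) : Prop := cl R S ⊆ S

/-- Irreducible sets. -/
def IsIrr (R : Subalgebra k (X → k)) (S : Set X) : Prop :=
  S.Nonempty ∧ ∀ f g : R, (∀ x ∈ S, (f : X → k) x * (g : X → k) x = 0) →
    f ∈ vanI R S ∨ g ∈ vanI R S

variable {R : Subalgebra k (X → k)}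

theorem mem_vanI {S : Set X} {f : R} : f ∈ vanI R S ↔ ∀ x ∈ S, (f : X → k) x = 0 := Iff.rfl

theorem subset_cl (S : Set X) : S ⊆ cl R S := fun x hx _ hf => hf x hx

theorem vanI_mono {S T : Set X} (h : S ⊆ T) : vanI R T ≤ vanI R S := fun _ hf x hx => hf x (h hx)

theorem cl_mono {S T : Set X} (h : S ⊆ T) : cl R S ⊆ cl R T := fun _ hx f hf => hx f (vanI_mono h hf)

theorem IsCl.cl_eq {S : Set X} (h : IsCl R S) : cl R S = S := h.antisymm (subset_cl S)

theorem IsCl.cl_subset {S T : Set X} (hT : IsCl R T) (h : S ⊆ T) : cl R S ⊆ T := (cl_mono h).trans hT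

theorem vanI_cl (S : Set X) : vanI R (cl R S) = vanI R S :=
  le_antisymm (vanI_mono (subset_cl S)) fun f hf x hx => hx f hf

theorem isCl_cl (S : Set X) : IsCl R (cl R S) := by
  intro x hx
  rw [cl, vanI_cl] at hx
  exact hx

theorem isCl_zeroI (I : Ideal R) : IsCl R (zeroI R I) := fun _ hx f hf => hx f fun _ hy => hy f hf

theorem isCl_univ : IsCl R (Set.univ : Set X) := fun _ _ => trivial

theorem IsCl.iInter {ι : Sort*} {S : ι → Set X} (h : ∀ i, IsCl R (S i)) : IsCl R (⋂ i, S i) := fun _ hx =>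
  Set.mem_iInter.mpr fun i => (h i).cl_subset (Set.iInter_subset S i) hx

theorem IsCl.inter {S T : Set X} (hS : IsCl R S) (hT : IsCl R T) : IsCl R (S ∩ T) := fun _ hx =>
  ⟨hS.cl_subset Set.inter_subset_left hx, hT.cl_subset Set.inter_subset_right hx⟩

/-- The zero set of a family of regular functions. -/
theorem isCl_setOf_forall {ι : Sort*} (f : ι → R) : IsCl R {x | ∀ i, (f i : X → k) x = 0} :=
  fun _ hx i => hx (f i) fun _ hy => hy i

theorem IsCl.eq_of_vanI_eq {S T : Set X} (hS : IsCl R S) (hT : IsCl R T) (h : vanI R S = vanI R T) : S = T := by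
  rw [← hS.cl_eq, ← hT.cl_eq, cl, cl, h]

/-- Strict inclusions of closed sets give strict inclusions of ideals. -/
theorem IsCl.vanI_lt {S T : Set X} (hS : IsCl R S) (hT : IsCl R T) (h : S ⊂ T) : vanI R T < vanI R S :=
  lt_of_le_of_ne (vanI_mono h.1) fun e => h.ne (hS.eq_of_vanI_eq hT e.symm)

theorem isNoetherianRing [Algebra.FiniteType k R] : IsNoetherianRing R := Algebra.FiniteType.isNoetherianRing k R

/-- A nonempty family of closed sets has a minimal member. -/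
theorem exists_minimal [Algebra.FiniteType k R] (P : Set X → Prop) (hP : ∀ S, P S → IsCl R S) {S₀ : Set X}
    (h₀ : P S₀) : ∃ S, P S ∧ ∀ T, P T → T ⊆ S → T = S := by
  haveI := isNoetherianRing (R := R)
  obtain ⟨_, ⟨S, hS, rfl⟩, hmax⟩ := set_has_maximal_iff_noetherian.mpr (inferInstance : IsNoetherianRing R)
    (vanI R '' {S | P S}) ⟨_, S₀, h₀, rfl⟩
  exact ⟨S, hS, fun T hT hTS => by
    by_contra hne
    exact hmax _ ⟨T, hT, rfl⟩ ((hP T hT).vanI_lt (hP S hS) ⟨hTS, fun h => hne (hTS.antisymm h)⟩)⟩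

/-- Induction on closed sets. -/
theorem cl_induction [Algebra.FiniteType k R] (P : Set X → Prop)
    (h : ∀ S, IsCl R S → (∀ T, IsCl R T → T ⊂ S → P T) → P S) {S : Set X} (hS : IsCl R S) : P S := by
  by_contra hne
  obtain ⟨T, ⟨hT, hTn⟩, hmin⟩ := exists_minimal (fun S => IsCl R S ∧ ¬ P S) (fun _ h => h.1) ⟨hS, hne⟩
  exact hTn (h T hT fun U hU hUT => by_contra fun hn => hUT.ne (hmin U ⟨hU, hn⟩ hUT.1))

section Null

variable [IsAlgClosed k] [Algebra.FiniteType k R]

/-- The Nullstellensatz. -/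
theorem exists_zero_not (hR : IsVar R) {I : Ideal R} {f : R} (hf : f ∉ I.radical) :
    ∃ x ∈ zeroI R I, (f : X → k) x ≠ 0 := by
  haveI : Algebra.FiniteType k (R ⧸ I) :=
    Algebra.FiniteType.of_surjective (Ideal.Quotient.mkₐ k I) Ideal.Quotient.mk_surjective
  obtain ⟨φ, hφ⟩ := ComodLib.exists_point_ne_zero (k := k) (a := Ideal.Quotient.mk I f) fun ⟨n, hn⟩ =>
    hf ⟨n, Ideal.Quotient.eq_zero_iff_mem.mp (by rwa [map_pow])⟩
  obtain ⟨x, hx⟩ := hR (φ.comp (Ideal.Quotient.mkₐ k I))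
  refine ⟨x, fun g hg => ?_, fun h => hφ ?_⟩
  · rw [← hx, AlgHom.comp_apply, Ideal.Quotient.mkₐ_eq_mk, Ideal.Quotient.eq_zero_iff_mem.mpr hg, map_zero]
  · rw [← Ideal.Quotient.mkₐ_eq_mk k, ← AlgHom.comp_apply, hx, h]

theorem vanI_zeroI (hR : IsVar R) (I : Ideal R) : vanI R (zeroI R I) = I.radical := by
  refine le_antisymm (fun f hf => by_contra fun hn => ?_) fun f ⟨n, hn⟩ x hx => ?_
  · obtain ⟨x, hx, hfx⟩ := exists_zero_not hR hn
    exact hfx (hf x hx)
  · exact eq_zero_of_pow_eq_zero (show ((f : X → k) x) ^ n = 0 by simpa using hx _ hn)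

theorem isIrr_zeroI (hR : IsVar R) {P : Ideal R} [hP : P.IsPrime] : IsIrr R (zeroI R P) := by
  have hv : vanI R (zeroI R P) = P := by rw [vanI_zeroI hR, hP.radical]
  refine ⟨?_, fun f g h => ?_⟩
  · obtain ⟨x, hx, -⟩ := exists_zero_not hR (I := P) (f := 1) (by rw [hP.radical]; exact P.one_notMem)
    exact ⟨x, hx⟩
  · rw [hv]
    exact hP.mem_or_mem (hv ▸ (fun x hx => by simpa using h x hx : f * g ∈ vanI R (zeroI R P)))

/-- A closed set is covered by finitely many irreducible closed sets, cofinal among its irreducible subsets. -/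
theorem exists_components (hR : IsVar R) {S : Set X} (hS : IsCl R S) :
    ∃ F : Set (Set X), F.Finite ∧ (∀ Z ∈ F, IsCl R Z ∧ IsIrr R Z ∧ Z ⊆ S) ∧
      ∀ T, IsIrr R T → T ⊆ S → ∃ Z ∈ F, T ⊆ Z := by
  haveI := isNoetherianRing (R := R)
  refine ⟨zeroI R '' (vanI R S).minimalPrimes, (Ideal.finite_minimalPrimes_of_isNoetherianRing R _).image _, ?_, ?_⟩
  · rintro _ ⟨P, hP, rfl⟩
    haveI := hP.1.1
    exact ⟨isCl_zeroI P, isIrr_zeroI hR, fun x hx => hS fun f hf => hx f (hP.1.2 hf)⟩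
  · intro T hT hTS
    haveI : (vanI R T).IsPrime := by
      refine ⟨fun h => ?_, fun {f g} h => hT.2 f g fun x hx => by simpa using h x hx⟩
      obtain ⟨x, hx⟩ := hT.1
      exact one_ne_zero ((h ▸ Submodule.mem_top : (1 : R) ∈ vanI R T) x hx)
    obtain ⟨P, hP, hle⟩ := Ideal.exists_minimalPrimes_le (vanI_mono hTS : vanI R S ≤ vanI R T)
    exact ⟨_, ⟨P, hP, rfl⟩, fun x hx f hf => hle hf x hx⟩

end Null

/-- A variety structure restricts to a closed subset. -/
theorem IsVar.exists_mem {S : Set X} (hR : IsVar R) (hS : IsCl R S) (φ : R →ₐ[k] k) (h : ∀ f ∈ vanI R S, φ f = 0) :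
    ∃ x ∈ S, ∀ f : R, φ f = (f : X → k) x := by
  obtain ⟨x, hx⟩ := hR φ
  exact ⟨x, hS fun f hf => by rw [← hx]; exact h f hf, hx⟩

theorem IsIrr.closure {S : Set X} (h : IsIrr R S) : IsIrr R (cl R S) := by
  refine ⟨h.1.mono (subset_cl S), fun f g hfg => ?_⟩
  rw [vanI_cl]
  exact h.2 f g fun x hx => hfg x (subset_cl S hx)

theorem isIrr_singleton (x : X) : IsIrr R {x} := by
  refine ⟨Set.singleton_nonempty x, fun f g h => ?_⟩
  rcases mul_eq_zero.mp (h x rfl) with h | h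
  · left; intro y hy; rw [Set.mem_singleton_iff.mp hy, h]
  · right; intro y hy; rw [Set.mem_singleton_iff.mp hy, h]

/-- An irreducible set inside a finite union of zero sets lies in one of them. -/
theorem IsIrr.exists_subset {S : Set X} (h : IsIrr R S) {ι : Type*} (s : Finset ι) {Z : ι → Set X}
    (hZ : ∀ i ∈ s, IsCl R (Z i)) (hc : ∀ x ∈ S, ∃ i ∈ s, x ∈ Z i) : ∃ i ∈ s, S ⊆ Z i := by
  classical
  induction s using Finset.induction_on generalizing S with
  | empty =>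
    obtain ⟨x, hx⟩ := h.1
    obtain ⟨i, hi, -⟩ := hc x hx
    exact absurd hi (Finset.notMem_empty i)
  | insert i s hi ih =>
    by_cases hS : S ⊆ Z i
    · exact ⟨i, Finset.mem_insert_self _ _, hS⟩
    obtain ⟨x, hx, hxi⟩ := Set.not_subset.mp hS
    have hni : x ∉ cl R (Z i) := fun h' => hxi (hZ i (Finset.mem_insert_self _ _) h')
    simp only [ZPts.cl, zeroI, Set.mem_ofPred_eq, not_forall] at hni
    obtain ⟨f, hf, hfx⟩ := hni
    let S' : Set X := {y ∈ S | (f : X → k) y ≠ 0}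
    have hS' : IsIrr R S' := by
      refine ⟨⟨x, hx, hfx⟩, fun a b hab => ?_⟩
      have h1 : ∀ y ∈ S, ((a * f : R) : X → k) y * (b : X → k) y = 0 := fun y hy => by
        by_cases hy0 : (f : X → k) y = 0
        · simp [hy0]
        · rw [show ((a * f : R) : X → k) y * (b : X → k) y = ((a : X → k) y * (b : X → k) y) * (f : X → k) y by
            simp; ring, hab y ⟨hy, hy0⟩, zero_mul]
      rcases h.2 _ _ h1 with ha | hb
      · left; intro y hy; simpa [hy.2] using ha y hy.1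
      · right; intro y hy; exact hb y hy.1
    obtain ⟨j, hj, hS'j⟩ := ih hS' (fun j hj => hZ j (Finset.mem_insert_of_mem hj)) fun y hy => by
      obtain ⟨j, hj, hyj⟩ := hc y hy.1
      rcases Finset.mem_insert.mp hj with rfl | hj
      · exact absurd (hf y hyj) hy.2
      · exact ⟨j, hj, hyj⟩
    refine ⟨j, Finset.mem_insert_of_mem hj, fun y hy => hZ j (Finset.mem_insert_of_mem hj) fun g hg => ?_⟩
    rcases h.2 g f fun z hz => (by
      by_cases hz0 : (f : X → k) z = 0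
      · simp [hz0]
      · rw [hg z (hS'j ⟨hz, hz0⟩), zero_mul]) with h' | h'
    · exact h' y hy
    · exact absurd (h' x hx) hfx

/-- A regular function with finitely many values is constant on an irreducible set. -/
theorem IsIrr.eq_of_finite {S : Set X} (h : IsIrr R S) (f : R) (hf : ((f : X → k) '' S).Finite) {x y : X}
    (hx : x ∈ S) (hy : y ∈ S) : (f : X → k) x = (f : X → k) y := by
  obtain ⟨c, -, hc⟩ := h.exists_subset hf.toFinset (Z := fun c => {z | (f : X → k) z = c}) (fun c _ z hz => by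
    have := hz (f - algebraMap k R c) fun w hw => by simpa [sub_eq_zero] using hw
    simpa [sub_eq_zero] using this) fun z hz => ⟨_, hf.mem_toFinset.mpr ⟨z, hz, rfl⟩, rfl⟩
  exact (hc hx).trans (hc hy).symm

variable {Y : Type w} {R' : Subalgebra k (Y → k)} {Z : Type*} {R'' : Subalgebra k (Z → k)}

/-- The image of two irreducible sets under a separately regular map is irreducible. -/
theorem IsIrr.image2 {S : Set X} {T : Set Y} (hS : IsIrr R S) (hT : IsIrr R' T) (m : X → Y → Z)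
    (hl : ∀ f ∈ R'', ∀ y ∈ T, ∃ g ∈ R, ∀ x ∈ S, g x = f (m x y))
    (hr : ∀ f ∈ R'', ∀ x ∈ S, ∃ g ∈ R', ∀ y ∈ T, g y = f (m x y)) : IsIrr R'' (Set.image2 m S T) := by
  refine ⟨hS.1.image2 hT.1, fun f g hfg => ?_⟩
  by_contra hne
  rw [not_or, mem_vanI, mem_vanI] at hne
  push Not at hne
  obtain ⟨⟨_, ⟨x₁, hx₁, y₁, hy₁, rfl⟩, h₁⟩, ⟨_, ⟨x₂, hx₂, y₂, hy₂, rfl⟩, h₂⟩⟩ := hne
  obtain ⟨F, hF, hFe⟩ := hr f f.2 x₁ hx₁
  obtain ⟨G, hG, hGe⟩ := hr g g.2 x₂ hx₂
  -- one of the two translates vanishes identically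
  by_cases hy : ∀ y ∈ T, F y * G y = 0
  · rcases hT.2 ⟨F, hF⟩ ⟨G, hG⟩ hy with h | h
    · exact h₁ ((hFe y₁ hy₁).symm.trans (h y₁ hy₁))
    · exact h₂ ((hGe y₂ hy₂).symm.trans (h y₂ hy₂))
  push Not at hy
  obtain ⟨y, hyT, hy⟩ := hy
  rw [hFe y hyT, hGe y hyT] at hy
  obtain ⟨F', hF', hFe'⟩ := hl f f.2 y hyT
  obtain ⟨G', hG', hGe'⟩ := hl g g.2 y hyT
  rcases hS.2 ⟨F', hF'⟩ ⟨G', hG'⟩ (fun x hx => by
    show F' x * G' x = 0
    rw [hFe' x hx, hGe' x hx]
    exact hfg _ ⟨x, hx, y, hyT, rfl⟩) with h | h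
  · exact left_ne_zero_of_mul hy ((hFe' x₁ hx₁).symm.trans (h x₁ hx₁))
  · exact right_ne_zero_of_mul hy ((hGe' x₂ hx₂).symm.trans (h x₂ hx₂))

theorem IsIrr.image {S : Set X} (hS : IsIrr R S) (φ : X → Z) (hφ : ∀ f ∈ R'', f ∘ φ ∈ R) :
    IsIrr R'' (φ '' S) := by
  refine ⟨hS.1.image φ, fun f g hfg => ?_⟩
  rcases hS.2 ⟨_, hφ f f.2⟩ ⟨_, hφ g g.2⟩ fun x hx => hfg _ ⟨x, hx, rfl⟩ with h | h
  · left; rintro _ ⟨x, hx, rfl⟩; exact h x hx
  · right; rintro _ ⟨x, hx, rfl⟩; exact h x hx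

/-- An increasing union of irreducible sets is irreducible. -/
theorem isIrr_iUnion {S : ℕ → Set X} (hmono : Monotone S) (h : ∀ n, IsIrr R (S n)) : IsIrr R (⋃ n, S n) := by
  refine ⟨(h 0).1.mono (Set.subset_iUnion S 0), fun f g hfg => ?_⟩
  by_cases hf : ∀ n, f ∈ vanI R (S n)
  · left; rintro x hx; obtain ⟨n, hn⟩ := Set.mem_iUnion.mp hx; exact hf n x hn
  push Not at hf
  obtain ⟨n, hn⟩ := hf
  right
  intro x hx
  obtain ⟨m, hm⟩ := Set.mem_iUnion.mp hx
  refine ((h (max n m)).2 f g fun y hy => hfg y (Set.mem_iUnion.mpr ⟨_, hy⟩)).resolve_left (fun h' => hn fun y hy =>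
    h' y (hmono (le_max_left n m) hy)) x (hmono (le_max_right n m) hm)

omit R in
/-- An algebra map has an element off whose zeros every point of the image lifts. -/
theorem exists_lift_off {k : Type u} [Field k] [IsAlgClosed k] {S : Type*} [CommRing S] [Algebra k S]
    [Algebra.FiniteType k S] {S' : Type*} [CommRing S'] [Algebra k S'] [Algebra.FiniteType k S'] [Nontrivial S']
    (ψ : S →ₐ[k] S') : ∃ f, ψ f ≠ 0 ∧ ∀ ev : S →ₐ[k] k, RingHom.ker ψ ≤ RingHom.ker ev → ev f ≠ 0 →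
      ∃ φ' : S' →ₐ[k] k, φ'.comp ψ = ev := by
  haveI : IsNoetherianRing S := Algebra.FiniteType.isNoetherianRing k S
  haveI : Algebra.FiniteType k (S ⧸ RingHom.ker ψ) :=
    Algebra.FiniteType.of_surjective (Ideal.Quotient.mkₐ k _) Ideal.Quotient.mk_surjective
  haveI : IsNoetherianRing (S ⧸ RingHom.ker ψ) := Ideal.Quotient.isNoetherianRing _
  let ψ' : S ⧸ RingHom.ker ψ →ₐ[k] S' := Ideal.kerLiftAlg ψ
  have hfp : ψ'.toRingHom.FinitePresentation := by
    refine RingHom.FinitePresentation.of_finiteType.mp ?_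
    letI := ψ'.toRingHom.toAlgebra
    haveI : IsScalarTower k (S ⧸ RingHom.ker ψ) S' := IsScalarTower.of_algebraMap_eq fun c => (ψ'.commutes c).symm
    exact Algebra.FiniteType.of_restrictScalars_finiteType k (S ⧸ RingHom.ker ψ) S'
  obtain ⟨h, hnil, hh⟩ := ComodLib.exists_basicOpen_subset_range ψ'.toRingHom hfp (Ideal.kerLiftAlg_injective ψ)
  obtain ⟨f, rfl⟩ := Ideal.Quotient.mk_surjective h
  refine ⟨f, fun h0 => hnil ⟨1, ?_⟩, fun ev hle hf => ?_⟩
  · rw [pow_one, Ideal.Quotient.eq_zero_iff_mem]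
    exact h0
  · let ev' : S ⧸ RingHom.ker ψ →ₐ[k] k := Ideal.Quotient.liftₐ _ ev fun a ha => hle ha
    obtain ⟨φ', hφ'⟩ := ComodLib.exists_lift_of_mem_range (k := k) ψ' ev'
      (hh ⟨RingHom.ker ev', RingHom.ker_isPrime _⟩ fun hk => hf hk)
    exact ⟨φ', AlgHom.ext fun F => AlgHom.congr_fun hφ' (Ideal.Quotient.mk _ F)⟩

/-- An image contains an open dense part of its closure. -/
theorem exists_open_subset_image [IsAlgClosed k] [Algebra.FiniteType k R] [Algebra.FiniteType k R'] [Nonempty Y]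
    (hR' : IsVar R') (φ : Y → X) (hφ : ∀ f ∈ R, f ∘ φ ∈ R') :
    ∃ f : R, (∃ y, (f : X → k) (φ y) ≠ 0) ∧
      ∀ x ∈ cl R (Set.range φ), (f : X → k) x ≠ 0 → ∃ y, ∀ F : R, (F : X → k) (φ y) = (F : X → k) x := by
  let ψ : R →ₐ[k] R' :=
    { toFun := fun f => ⟨(f : X → k) ∘ φ, hφ f f.2⟩, map_one' := rfl, map_mul' := fun _ _ => rfl,
      map_zero' := rfl, map_add' := fun _ _ => rfl, commutes' := fun _ => rfl }
  haveI : Nontrivial R' := ⟨⟨0, 1, fun h => by
    simpa using congrFun (congrArg Subtype.val h) (Classical.arbitrary Y)⟩⟩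
  obtain ⟨f, hf, hlift⟩ := exists_lift_off ψ
  refine ⟨f, ?_, fun x hx hfx => ?_⟩
  · by_contra hall
    push Not at hall
    exact hf (Subtype.ext (funext hall))
  · let ev : R →ₐ[k] k := (Pi.evalAlgHom k (fun _ : X => k) x).comp R.val
    obtain ⟨φ', hφ'⟩ := hlift ev (fun a ha => hx a fun z ⟨y, hy⟩ => by
      subst hy
      exact congrFun (congrArg Subtype.val ha) y) hfx
    obtain ⟨y, hy⟩ := hR' φ'
    exact ⟨y, fun F => (hy (ψ F)).symm.trans (AlgHom.congr_fun hφ' F)⟩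

end ZPts

end Groth.Agent.AGFHopf
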