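import Groth.Agent.DynX.IdemP
import Groth.Agent.AGFHopf.PGrp
import Groth.Agent.AGFHopf.ZPts
import Groth.Agent.ComodLib.Orbits

/-!
# Centralizers of one-parameter subgroups are irreducible
-/

universe u

open scoped TensorProduct LaurentPolynomial
open WithConv CategoryTheory AlgebraicGeometry

namespace Groth.Agent.AGFHopf

variable {k : Type u} [Field k] [IsAlgClosed k] {A : Type u} [CommRing A] [HopfAlgebra k A] [Algebra.FiniteType k A]
  [IsDomain A]

local notation "Γk" => WithConv (A →ₐ[k] k)

/-- The value of a one-parameter subgroup at a unit. -/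
noncomputable def lamVal (lam : A →ₐc[k] k[T;T⁻¹]) (u : kˣ) : Γk := toConv (DynX.lamPt (R := k) lam u)

omit [IsAlgClosed k] [Algebra.FiniteType k A] [IsDomain A] in
theorem conjU_eq (lam : A →ₐc[k] k[T;T⁻¹]) (u : kˣ) (g : Γk) :
    DynX.conjU lam u g.ofConv = lamVal lam u * g * (lamVal lam u)⁻¹ := rfl

omit [Algebra.FiniteType k A] [IsDomain A] in
/-- A point commutes with a one-parameter subgroup exactly when it is of degree zero. -/
theorem commute_lam_iff (lam : A →ₐc[k] k[T;T⁻¹]) (g : Γk) :
    (∀ u, Commute g (lamVal lam u)) ↔ ∀ n : ℤ, n ≠ 0 → ∀ a, g.ofConv (DynX.pr lam n a) = 0 := by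
  classical
  constructor
  · intro h n hn a
    have hconj : ∀ u, DynX.conjU lam u g.ofConv = g := fun u => by
      rw [conjU_eq, ← (h u).eq, mul_inv_cancel_right]
    let P : k[T;T⁻¹] := Dyn.conjOrbit k A lam k g.ofConv a
    have hev : ∀ u : kˣ, ∑ m ∈ DynX.degs lam a, g.ofConv (DynX.pr lam m a) * (u : k) ^ m = g.ofConv a := fun u => by
      have h1 := DynX.conjU_apply lam u g.ofConv a
      rw [hconj u] at h1
      rw [h1]
      exact Finset.sum_congr rfl fun m _ => by rw [Units.val_zpow_eq_zpow_val]
    -- evaluate at infinitely many units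
    by_contra hne
    have hmem : n ∈ DynX.degs lam a := by
      by_contra hm
      exact hne (by rw [DynX.pr_eq_zero_of_not_mem lam hm, map_zero])
    let χ : ℤ → kˣ →* k := fun m => (Units.coeHom k).comp (zpowGroupHom m)
    have hχ : Function.Injective χ := fun m m' e => by
      by_contra hm
      have hd : ((m - m').natAbs) ≠ 0 := by omega
      obtain ⟨u, hu⟩ := (Polynomial.X_pow_sub_C_ne_zero (Nat.pos_of_ne_zero hd) (1 : k)) |>
        fun hp => Set.Infinite.exists_notMem_finset
          (s := ({x : k | x ≠ 0})) (Set.infinite_univ.sdiff (Set.finite_singleton 0) |>.mono fun x hx => by simpa using hx.2)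
          ((Polynomial.X ^ (m - m').natAbs - Polynomial.C 1 : Polynomial k).roots.toFinset)
      apply hu.2
      rw [Multiset.mem_toFinset, Polynomial.mem_roots (Polynomial.X_pow_sub_C_ne_zero (Nat.pos_of_ne_zero hd) 1)]
      have e1 : (u : k) ^ m = u ^ m' := by
        have := DFunLike.congr_fun e (Units.mk0 u hu.1)
        simpa [χ] using this
      have e2 : (u : k) ^ (m - m') = 1 := by rw [zpow_sub₀ hu.1, e1, div_self (zpow_ne_zero _ hu.1)]
      rcases Int.natAbs_eq (m - m') with h' | h'
      · rw [h', zpow_natCast] at e2; simp [Polynomial.IsRoot, e2]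
      · rw [h', zpow_neg, zpow_natCast, inv_eq_one] at e2; simp [Polynomial.IsRoot, e2]
    have hli : LinearIndependent k fun m => (χ m : kˣ → k) := (linearIndependent_monoidHom kˣ k).comp χ hχ
    let c : ℤ → k := fun m => (if m ∈ DynX.degs lam a then g.ofConv (DynX.pr lam m a) else 0) -
      (if m = 0 then g.ofConv a else 0)
    have hsum : ∑ m ∈ insert 0 (DynX.degs lam a), c m • (χ m : kˣ → k) = 0 := funext fun u => by
      rw [Finset.sum_apply]
      have e3 : ∑ m ∈ insert 0 (DynX.degs lam a), (if m ∈ DynX.degs lam a then g.ofConv (DynX.pr lam m a) else 0) * (u : k) ^ m =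
          g.ofConv a := by
        rw [← Finset.sum_subset (Finset.subset_insert 0 (DynX.degs lam a)) (fun m _ hm => by rw [if_neg hm, zero_mul]), ← hev u]
        exact Finset.sum_congr rfl fun m hm => by rw [if_pos hm]
      simp only [c, χ, Pi.smul_apply, smul_eq_mul, MonoidHom.comp_apply, zpowGroupHom_apply, Units.coeHom_apply,
        Units.val_zpow_eq_zpow_val, sub_mul, Finset.sum_sub_distrib, e3, Pi.zero_apply]
      rw [Finset.sum_eq_single (0 : ℤ) (fun m _ hm => by rw [if_neg hm, zero_mul])
        (fun h => absurd (Finset.mem_insert_self _ _) h), if_pos rfl, zpow_zero, mul_one, sub_self]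
    have := linearIndependent_iff'.mp hli _ c hsum n (Finset.mem_insert_of_mem hmem)
    simp only [c, if_pos hmem, if_neg hn, sub_zero] at this
    exact hne this
  · intro h u
    have hconj : DynX.conjU lam u g.ofConv = g := by
      refine ofConv_injective (AlgHom.ext fun a => ?_)
      rw [DynX.conjU_apply]
      conv_rhs => rw [← DynX.sum_pr lam a, map_sum]
      refine Finset.sum_congr rfl fun n _ => ?_
      by_cases hn : n = 0
      · subst hn; simp
      · rw [h n hn, zero_mul]
    rw [conjU_eq] at hconj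
    exact (mul_inv_eq_iff_eq_mul.mp hconj).symm

theorem irreducibleSpace_isOpenImmersion {A B : CommRingCat.{u}} [IrreducibleSpace (Spec A)] [Nontrivial B]
    (f : A ⟶ B) [IsOpenImmersion (Spec.map f)] : IrreducibleSpace (PrimeSpectrum B) := by
  haveI : Nonempty (Spec B) := inferInstanceAs (Nonempty (PrimeSpectrum B))
  have h : IsPreirreducible (Set.range (Spec.map f)) :=
    PreirreducibleSpace.isPreirreducible_univ.open_subset (Spec.map f).isOpenEmbedding.isOpen_range
      (Set.subset_univ _)
  haveI : PreirreducibleSpace (Set.range (Spec.map f)) := Subtype.preirreducibleSpace h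
  haveI : Nonempty (Set.range (Spec.map f)) := (Set.range_nonempty _).to_subtype
  haveI : IrreducibleSpace (Set.range (Spec.map f)) := ⟨inferInstance⟩
  have e := (Spec.map f).isOpenEmbedding.toHomeomorph.symm
  exact Function.Surjective.irreducibleSpace e.continuous e.surjective

/-- The centralizer of a one-parameter subgroup is irreducible. -/
theorem isIrr_centralizer_lam (lam : A →ₐc[k] k[T;T⁻¹]) :
    ZPts.IsIrr (ptR k A) {g : Γk | ∀ u, Commute g (lamVal lam u)} := by
  classical
  have hone : (1 : Γk) ∈ {g : Γk | ∀ u, Commute g (lamVal lam u)} := fun u => Commute.one_left _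
  refine ⟨⟨1, hone⟩, ?_⟩
  rintro ⟨_, a, rfl⟩ ⟨_, b, rfl⟩ hab
  -- the functions on the points with a limit
  let C := A ⧸ DynX.negIdeal lam
  have hC : IrreducibleSpace (PrimeSpectrum C) := by
    let B := A ⧸ DynX.oneIdeal (DynX.negLam lam)
    have ho := DynX.isOpenImmersion_mul (DynX.negLam_eq lam) _ _ (DynX.represents_negIdeal lam)
      (DynX.represents_oneIdeal (DynX.negLam lam))
    haveI : IrreducibleSpace (Spec (CommRingCat.of A)) := inferInstanceAs (IrreducibleSpace (PrimeSpectrum A))
    let εB : B →ₐ[k] k := Ideal.Quotient.liftₐ _ (1 : Γk).ofConv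
      ((DynX.represents_oneIdeal (DynX.negLam lam) k _).2 (DynX.limIsOne_one _))
    let εC : C →ₐ[k] k := Ideal.Quotient.liftₐ _ (1 : Γk).ofConv
      ((DynX.represents_negIdeal lam k _).2 (DynX.limExists_one _))
    haveI : Nontrivial (B ⊗[k] C) :=
      (Algebra.TensorProduct.lift εB εC fun _ _ => Commute.all _ _).toRingHom.domain_nontrivial
    haveI : IrreducibleSpace (PrimeSpectrum (B ⊗[k] C)) :=
      @irreducibleSpace_isOpenImmersion (CommRingCat.of A) (CommRingCat.of (B ⊗[k] C)) _ _ _ ho
    let inr : C →ₐ[k] B ⊗[k] C := Algebra.TensorProduct.includeRight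
    let back : B ⊗[k] C →ₐ[k] C :=
      Algebra.TensorProduct.lift ((Algebra.ofId k C).comp εB) (AlgHom.id k C) fun _ _ => Commute.all _ _
    have hback : back.comp inr = AlgHom.id k C := AlgHom.ext fun x => by simp [back, inr]
    refine Function.Surjective.irreducibleSpace (PrimeSpectrum.continuous_comap inr.toRingHom) fun P =>
      ⟨PrimeSpectrum.comap back.toRingHom P, ?_⟩
    rw [← PrimeSpectrum.comap_comp_apply]
    have e : back.toRingHom.comp inr.toRingHom = RingHom.id C := congrArg AlgHom.toRingHom hback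
    rw [e, PrimeSpectrum.comap_id]
  have hprime : (nilradical C).IsPrime := PrimeSpectrum.irreducibleSpace_iff_isPrime_nilradical.mp hC
  haveI : Algebra.FiniteType k C := Algebra.FiniteType.of_surjective (Ideal.Quotient.mkₐ k _) Ideal.Quotient.mk_surjective
  let ρ : A → C := fun a => Ideal.Quotient.mk _ (DynX.pr lam 0 a)
  have hlim : ∀ x : C →ₐ[k] k, ∃ z : Γk, (∀ u, Commute z (lamVal lam u)) ∧ ∀ a, z.ofConv a = x (ρ a) := fun x => by
    have hx : Dyn.LimExists k A lam k (x.comp (Ideal.Quotient.mkₐ k _)) :=
      (DynX.represents_negIdeal lam k _).mp fun a ha => by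
        show x (Ideal.Quotient.mk _ a) = 0
        rw [Ideal.Quotient.eq_zero_iff_mem.mpr ha, map_zero]
    refine ⟨toConv (DynX.limPt lam hx), (commute_lam_iff lam _).mpr fun n hn a => ?_, fun a => ?_⟩
    · show DynX.limPt lam hx _ = 0
      rw [DynX.limPt_apply, DynX.pr_pr, if_neg hn, map_zero]
    · exact DynX.limPt_apply lam hx a
  have hnil : IsNilpotent (ρ a * ρ b) := by
    by_contra hne
    obtain ⟨x, hx⟩ := ComodLib.exists_point_ne_zero (k := k) hne
    obtain ⟨z, hz, hzx⟩ := hlim x
    refine hx ?_
    rw [map_mul, ← hzx, ← hzx]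
    exact hab z hz
  have key : ∀ a : A, IsNilpotent (ρ a) → ∀ z ∈ {g : Γk | ∀ u, Commute g (lamVal lam u)}, z.ofConv a = 0 := by
    intro a ha z hz
    have h0 := (commute_lam_iff lam z).mp hz
    let x : C →ₐ[k] k := Ideal.Quotient.liftₐ _ z.ofConv ((DynX.represents_negIdeal lam k z.ofConv).mpr
      ((DynX.limExists_iff lam z.ofConv).mpr fun n hn => h0 n hn.ne))
    have h1 : x (ρ a) = z.ofConv a := by
      show z.ofConv (DynX.pr lam 0 a) = _
      conv_rhs => rw [← DynX.sum_pr lam a, map_sum]
      rw [Finset.sum_eq_single (0 : ℤ) (fun n _ hn => h0 n hn _)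
        (fun h => by rw [DynX.pr_eq_zero_of_not_mem lam h, map_zero])]
    rw [← h1]
    exact (ha.map x).eq_zero
  rcases hprime.mem_or_mem (mem_nilradical.mpr hnil) with h | h
  · exact Or.inl fun z hz => key a (mem_nilradical.mp h) z hz
  · exact Or.inr fun z hz => key b (mem_nilradical.mp h) z hz

end Groth.Agent.AGFHopf
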