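import Groth.Agent.AGFHopf.SchTor

/-!
# Tori of rational points are the points of torus subgroup schemes
-/

universe u v

open CategoryTheory CategoryTheory.Limits AlgebraicGeometry MonoidalCategory CartesianMonoidalCategory MonObj GrpObj TensorProduct WithConv
open Groth.Agent.GrpSchLib.Kunneth
open scoped Groth.Agent.AGF27

set_option linter.style.haveILetI false

namespace Groth.Agent.AGFHopf

open Groth.Agent.AGF27 (ptConv toPt univPt pullFn_comp pullFn_toPt toPt_pullFn)
open Groth.Agent.GrpSchLib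

section Characters

variable {k : Type u} [Field k] [IsAlgClosed k] {A : Type v} [CommRing A] [HopfAlgebra k A] [Algebra.FiniteType k A]

local notation "Γk" => WithConv (A →ₐ[k] k)

/-- The regular functions on a torus of points are spanned by finitely many regular characters. -/
theorem exists_char_adjoin {S : Subgroup (WithConv (A →ₐ[k] k))} (hS : IsTor S) :
    ∃ (n : ℕ) (χ : Fin n → S →* kˣ), (∀ i, IsRegChar (χ i)) ∧ ∀ a : A,
      (fun x : S => (x : Γk).ofConv a) ∈ Algebra.adjoin k (Set.range fun i => fun x : S => (χ i x : k)) := by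
  classical
  obtain ⟨U, hU, hUf, hgen⟩ := exists_faithful (k := k) (A := A)
  letI : HopfRep.Comod k A U := ComodSub.Comod.restr (HopfRep.Comod.regular k A) U hU
  haveI := hUf
  let E : Set U := {w | w ≠ 0 ∧ ∀ x : S, ∃ c : k, ptAct U (x : Γk) w = c • w}
  have hspan : Submodule.span k E = ⊤ := by
    have h := Module.End.iSup_iInf_maxGenEigenspace_eq_top_of_iSup_maxGenEigenspace_eq_top_of_commute
      (fun x : S => ptAct U (x : Γk)) (fun a b _ => (hS.2.1 a a.2 b b.2).map (ptAct U))
      fun x => Module.End.iSup_maxGenEigenspace_eq_top _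
    refine top_le_iff.mp (h.ge.trans (iSup_le fun c w hw => ?_))
    by_cases hw0 : w = 0
    · rw [hw0]; exact zero_mem _
    refine Submodule.subset_span ⟨hw0, fun x => ⟨c x, Module.End.mem_eigenspace_iff.mp ?_⟩⟩
    rw [← (hS.2.2 x x.2 U inferInstance).isFinitelySemisimple.maxGenEigenspace_eq_eigenspace]
    exact (Submodule.mem_iInf _).mp hw x
  obtain ⟨s, hsE, hs, hsli⟩ := exists_linearIndependent k E
  rw [hspan] at hs
  let b : Module.Basis s k U := Module.Basis.mk hsli (by rw [Subtype.range_coe, hs])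
  haveI : Finite s := Module.Finite.finite_basis b
  haveI := Fintype.ofFinite s
  have hb : ∀ w : s, b w = (w : U) := fun w => Module.Basis.mk_apply hsli _ w
  choose c hc using fun (w : s) (x : S) => (hsE w.2).2 x
  have hc1 : ∀ (w : s) (d d' : k), d • (w : U) = d' • (w : U) → d = d' := fun w d d' h =>
    smul_left_injective k (hsE w.2).1 h
  let cw : s → S →* k := fun w =>
    { toFun := c w
      map_one' := hc1 w _ _ (by rw [← hc, OneMemClass.coe_one, map_one, Module.End.one_apply, one_smul])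
      map_mul' := fun x y => hc1 w _ _ (by
        rw [← hc, Subgroup.coe_mul, map_mul, Module.End.mul_apply, hc, map_smul, hc, smul_smul,
          _root_.mul_comm (c w x)]) }
  let e := (Fintype.equivFin s).symm
  refine ⟨Fintype.card s, fun i => (cw (e i)).toHomUnits, fun i => ?_, fun a => ?_⟩
  · let f : Module.Dual k U := b.coord (e i)
    refine ⟨ComodLib.coefFun (C := A) f (b (e i)), fun x => ?_⟩
    rw [apply_coefFun, hb]
    show c (e i) x = _
    rw [hc, map_smul, ← hb, Module.Basis.coord_apply, Module.Basis.repr_self, Finsupp.single_eq_same, smul_eq_mul,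
      _root_.mul_one]
  · let Φ : A →ₐ[k] (S → k) := AlgHom.pi fun x : S => (x : Γk).ofConv
    have hle : Algebra.adjoin k (U : Set A) ≤ (Algebra.adjoin k (Set.range fun i => fun x : S =>
        ((cw (e i)).toHomUnits x : k))).comap Φ := by
      refine Algebra.adjoin_le fun u hu => ?_
      rw [SetLike.mem_coe, Subalgebra.mem_comap]
      have hfun : Φ u = ∑ w : s, (b.repr ⟨u, hu⟩ w *
          Coalgebra.counit (R := k) ((w : U) : A)) • (fun x : S => ((cw w).toHomUnits x : k)) := funext fun x => by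
        show (x : Γk).ofConv u = _
        have hs' : Hoch.IsComodHom A U.subtype := ComodSub.isComodHom_subtype _ U hU
        rw [← counit_ptAct (x : Γk) u,
          show ptAct A (x : Γk) u = U.subtype (ptAct U (x : Γk) ⟨u, hu⟩) from (ptAct_comm hs' _ ⟨u, hu⟩).symm]
        conv_lhs => rw [← b.sum_repr ⟨u, hu⟩]
        simp only [map_sum, map_smul, hb, hc, Finset.sum_apply, Pi.smul_apply, MonoidHom.coe_toHomUnits,
          smul_eq_mul, cw, MonoidHom.coe_mk, OneHom.coe_mk, Submodule.subtype_apply, Submodule.coe_smul]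
        exact Finset.sum_congr rfl fun w _ => by ring
      rw [hfun]
      refine sum_mem fun w _ => Subalgebra.smul_mem _ (Algebra.subset_adjoin (Set.mem_range.mpr ⟨e.symm w, ?_⟩)) _
      simp only [Equiv.apply_symm_apply]
    exact hle (hgen ▸ Algebra.mem_top : a ∈ Algebra.adjoin k (U : Set A))

/-- The functions on a torus of points are a Laurent polynomial ring. -/
theorem exists_surjective_fn {S : Subgroup (WithConv (A →ₐ[k] k))} (hS : IsTor S) :
    ∃ (r : ℕ) (ψ : A →ₐ[k] MonoidAlgebra k (Multiplicative (Fin r → ℤ)))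
      (E : S →* WithConv (MonoidAlgebra k (Multiplicative (Fin r → ℤ)) →ₐ[k] k)),
      Function.Surjective ψ ∧ (∀ a, ψ a = 0 ↔ ∀ x ∈ S, x.ofConv a = 0) ∧
      ∀ x : S, (E x).ofConv.comp ψ = (x : Γk).ofConv := by
  classical
  obtain ⟨n, χ, hreg, hadj⟩ := exists_char_adjoin hS
  let M := Subgroup.closure (Set.range χ)
  haveI : Group.FG M := (Group.fg_iff_subgroup_fg M).mpr
    (by rw [Subgroup.fg_iff]; exact ⟨Set.range χ, rfl, Set.finite_range χ⟩)
  have htf : ∀ m : M, ∀ q : ℕ, q ≠ 0 → m ^ q = 1 → m = 1 := fun m q hq hm => Subtype.ext <| by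
    refine eq_one_of_finite_values hS.1.2 (isRegChar_of_mem_closure hreg m.2) ?_
    refine (Polynomial.finite_setOfPred_isRoot (Polynomial.X_pow_sub_C_ne_zero (Nat.pos_of_ne_zero hq) (1 : k))).subset ?_
    rintro _ ⟨x, rfl⟩
    have h1 : ((m : S →* kˣ) x) ^ q = 1 := by
      have := DFunLike.congr_fun (congrArg Subtype.val hm) x
      rwa [SubgroupClass.coe_pow, MonoidHom.pow_apply] at this
    have h2 := congrArg Units.val h1
    rw [Units.val_pow_eq_pow_val, Units.val_one] at h2
    simp [Polynomial.IsRoot, h2]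
  haveI : Module.Finite ℤ (Additive M) := Module.Finite.iff_addGroup_fg.mpr inferInstance
  haveI : IsMulTorsionFree M := ⟨fun q hq m m' h =>
    mul_inv_eq_one.mp (htf (m * m'⁻¹) q hq (by rw [mul_pow, inv_pow, show m ^ q = m' ^ q from h, mul_inv_cancel]))⟩
  let bM := Module.finBasis ℤ (Additive M)
  set r := Module.finrank ℤ (Additive M)
  let θ : Multiplicative (Fin r → ℤ) ≃* M := (AddEquiv.toMultiplicativeLeft bM.equivFun.symm.toAddEquiv)
  let F : Multiplicative (Fin r → ℤ) →* (S → k) :=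
    { toFun := fun p => fun x => (((θ p : M) : S →* kˣ) x : k)
      map_one' := funext fun x => by simp
      map_mul' := fun p p' => funext fun x => by simp }
  let Ψ : MonoidAlgebra k (Multiplicative (Fin r → ℤ)) →ₐ[k] (S → k) := MonoidAlgebra.lift k _ _ F
  have hΨs : ∀ p, Ψ (MonoidAlgebra.single p 1) = F p := fun p =>
    (MonoidAlgebra.lift_single F p (1 : k)).trans (one_smul k _)
  have hΨ : Function.Injective Ψ := by
    let ev : Multiplicative (Fin r → ℤ) → (S →* k) := fun p => (Units.coeHom k).comp ((θ p : M) : S →* kˣ)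
    have hev : Function.Injective ev := fun p p' h => θ.injective <| Subtype.ext <| MonoidHom.ext fun x =>
      Units.ext (DFunLike.congr_fun h x)
    have hli : LinearIndependent k fun p => (ev p : S → k) := (linearIndependent_monoidHom S k).comp ev hev
    refine (injective_iff_map_eq_zero Ψ).mpr fun f hf => MonoidAlgebra.ext ?_
    rw [linearIndependent_iff.mp hli f.coeff (funext fun x => ?_)]
    · rfl
    · rw [MonoidAlgebra.lift_apply] at hf
      simpa [Finsupp.linearCombination_apply, Finsupp.sum, Finset.sum_apply, Pi.smul_apply, ev, F] using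
        congrFun hf x
  let Φ : A →ₐ[k] (S → k) := AlgHom.pi fun x : S => (x : Γk).ofConv
  have hΦ : ∀ a, Φ a ∈ Ψ.range := fun a => by
    refine (Algebra.adjoin_le (S := Ψ.range) ?_) (hadj a)
    rintro _ ⟨i, rfl⟩
    refine ⟨MonoidAlgebra.single (θ.symm ⟨χ i, Subgroup.subset_closure ⟨i, rfl⟩⟩) 1, (hΨs _).trans ?_⟩
    funext x
    show (((θ (θ.symm _) : M) : S →* kˣ) x : k) = _
    rw [MulEquiv.apply_symm_apply]
  let ψ : A →ₐ[k] MonoidAlgebra k (Multiplicative (Fin r → ℤ)) :=
    (AlgEquiv.ofInjective Ψ hΨ).symm.toAlgHom.comp (Φ.codRestrict Ψ.range hΦ)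
  have hψ : ∀ a, Ψ (ψ a) = Φ a := fun a =>
    congrArg Subtype.val ((AlgEquiv.ofInjective Ψ hΨ).apply_symm_apply (Φ.codRestrict Ψ.range hΦ a))
  let E : S →* WithConv (MonoidAlgebra k (Multiplicative (Fin r → ℤ)) →ₐ[k] k) :=
    MonoidHom.mk' (fun x => toConv ((Pi.evalAlgHom k (fun _ : S => k) x).comp Ψ)) fun x y => by
      refine WithConv.ofConv_injective (MonoidAlgebra.algHom_ext (fun p => ?_) (by ext))
      rw [AlgHom.convMul_apply, MonoidAlgebra.comul_single]
      simp [hΨs, F]
  refine ⟨r, ψ, E, fun f => ?_, fun a => ?_, fun x => AlgHom.ext fun a => congrFun (hψ a) x⟩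
  · induction f using MonoidAlgebra.induction_on with
    | of p =>
      obtain ⟨a, ha⟩ := isRegChar_of_mem_closure hreg ((θ p : M)).2
      exact ⟨a, hΨ (by rw [hψ, MonoidAlgebra.of_apply, hΨs]; exact funext fun x => (ha x).symm)⟩
    | add f g hf hg =>
      obtain ⟨a, rfl⟩ := hf
      obtain ⟨b, rfl⟩ := hg
      exact ⟨a + b, map_add ψ a b⟩
    | smul c f hf =>
      obtain ⟨a, rfl⟩ := hf
      exact ⟨c • a, map_smul ψ c a⟩
  · rw [← map_eq_zero_iff Ψ hΨ, hψ]
    exact ⟨fun h x hx => congrFun h ⟨x, hx⟩, fun h => funext fun x => h x x.2⟩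

end Characters

variable {k : Type u} [Field k] [IsAlgClosed k] {G : Over (Spec (CommRingCat.of k))} [GrpObj G] [IsAffine G.left]
  [LocallyOfFiniteType G.hom]

local notation "Γk" => WithConv (Fn G →ₐ[k] k)

/-- A torus of points is the group of points of a closed torus subgroup scheme. -/
theorem exists_torus_scheme {S : Subgroup (WithConv (Fn G →ₐ[k] k))} (hS : IsTor S) :
    ∃ (T : Over (Spec (CommRingCat.of k))) (_ : GrpObj T) (iT : T ⟶ G) (_ : IsMonHom iT),
      IsClosedImmersion iT.left ∧ Red.IsTorus T ∧ pts iT = S := by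
  obtain ⟨r, ψ, E, hψs, hψ0, hE⟩ := exists_surjective_fn hS
  obtain ⟨H, hH, j, hj, hjc, hjs, hjconn, hpts, -⟩ := exists_scheme_of_isCC hS.1
  haveI : IsAffine H.left := isAffine_of_isAffineHom j.left
  haveI : IsReduced H.left := GrpSchLib.isReduced_of_smooth_field H.hom
  haveI := locallyOfFiniteType_of_closed j
  let B := MonoidAlgebra k (Multiplicative (Fin r → ℤ))
  haveI : IsAffine (AffineHopf.sp k B).left := inferInstanceAs (IsAffine (Spec (CommRingCat.of B)))
  let jB : AffineHopf.sp k B ⟶ G := toPt ψ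
  haveI hjBc : IsClosedImmersion jB.left := by
    show IsClosedImmersion (Spec.map _ ≫ G.left.isoSpec.inv)
    haveI : IsClosedImmersion (Spec.map (CommRingCat.ofHom ψ.toRingHom)) :=
      IsClosedImmersion.spec_of_surjective _ hψs
    infer_instance
  haveI : Mono jB := (Over.forget _).mono_of_mono_map (inferInstanceAs (Mono jB.left))
  haveI : Mono j := (Over.forget _).mono_of_mono_map (inferInstanceAs (Mono j.left))
  have hev0 : ∀ f, ev jB f = 0 ↔ ψ f = 0 := fun f => by
    have h := AlgHom.congr_fun (pullFn_toPt ψ : pullFn (B := B) jB = ψ) f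
    rw [pullFn_apply] at h
    rw [← h]
    exact (map_eq_zero_iff (Scheme.ΓSpecIso (CommRingCat.of B)).hom.hom
      (ConcreteCategory.bijective_of_isIso _).1).symm
  have hjB : ∀ f, ev j f = 0 ↔ ψ f = 0 := fun f => by rw [ev_eq_zero_iff, hψ0, hpts]
  obtain ⟨g, hg⟩ := exists_factor jB (AGF27.ev_surjective jB) j fun f hf => (hjB f).mpr ((hev0 f).mp hf)
  obtain ⟨g', hg'⟩ := exists_factor j (AGF27.ev_surjective j) jB fun f hf => (hev0 f).mpr ((hjB f).mp hf)
  let φ : H ≅ AffineHopf.sp k B := ⟨g, g', (cancel_mono j).mp (by rw [Category.assoc, hg', hg, Category.id_comp]),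
    (cancel_mono jB).mp (by rw [Category.assoc, hg, hg', Category.id_comp])⟩
  -- points of `P` versus elements of `S`
  have hπE : ∀ x : S, ptConv G (AffineHopf.spMap (E x).ofConv ≫ jB) = (x : Γk) := fun x => by
    refine (congrArg toConv (AGF27.pullFn_ptMap' (E x).ofConv (jB : VecGrp.pt k B ⟶ G))).trans ?_
    rw [pullFn_toPt, hE]
  have hpt : ∀ a : VecGrp.pt k k ⟶ H, ∃ x : S, (a ≫ g : AffineHopf.sp k k ⟶ AffineHopf.sp k B) = AffineHopf.spMap (E x).ofConv ∧
      ptConv G (a ≫ j) = (x : Γk) := fun a => by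
    let x : S := ⟨ptConv G (a ≫ j), hpts.le ⟨a, rfl⟩⟩
    refine ⟨x, (cancel_mono jB).mp ((ptConv G).injective ?_), rfl⟩
    erw [hπE x, Category.assoc, hg]
    rfl
  have hmul : ∀ a b : VecGrp.pt k k ⟶ H, (a * b) ≫ g = (a ≫ g) * (b ≫ g) := fun a b => by
    obtain ⟨x, hx, hxj⟩ := hpt a
    obtain ⟨y, hy, hyj⟩ := hpt b
    refine (cancel_mono jB).mp ((ptConv G).injective ?_)
    rw [Category.assoc, hg, MonObj.mul_comp, map_mul, hxj, hyj]
    erw [hx, hy]
    erw [AffineHopf.spMap_mul]
    rw [toConv_ofConv, toConv_ofConv, ← map_mul E]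
    exact (hπE (x * y)).symm
  haveI : IsMonHom g := by
    refine { one_hom := ?_, mul_hom := ?_ }
    · rw [← cancel_epi (toUnit (VecGrp.pt k k)), ← cancel_mono jB, Category.assoc, Category.assoc, hg]
      apply (ptConv G).injective
      rw [← Category.assoc, ← Hom.one_def, MonObj.one_comp, map_one]
      have h1 : (AffineHopf.spMap (E 1).ofConv : AffineHopf.sp k k ⟶ AffineHopf.sp k B) = 1 := by
        rw [map_one E]
        exact map_one Spec.mapMulEquiv
      rw [← OneMemClass.coe_one S, ← hπE 1]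
      erw [h1, Hom.one_def, Category.assoc]
    · haveI : IsAffine (H ⊗ H).left := inferInstanceAs (IsAffine (Limits.pullback H.hom H.hom))
      haveI : Smooth (H ⊗ H).hom := inferInstanceAs (Smooth (Limits.pullback.fst H.hom H.hom ≫ H.hom))
      haveI : IsReduced (H ⊗ H).left := GrpSchLib.isReduced_of_smooth_field (H ⊗ H).hom
      refine hom_ext_fn (AlgHom.ext fun f => sub_eq_zero.mp (AGF27.eq_zero_of_forall_pt fun z => ?_))
      have key : z ≫ μ[H] ≫ g = z ≫ (g ⊗ₘ g) ≫ μ[AffineHopf.sp k B] := by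
        have h := hmul (z ≫ fst H H) (z ≫ snd H H)
        rw [Hom.mul_def, Hom.mul_def, lift_comp_fst_snd, Category.assoc] at h
        rw [h, ← Category.assoc z (g ⊗ₘ g)]
        congr 1
        ext <;> simp
      rw [map_sub, sub_eq_zero, ← AlgHom.comp_apply, ← AlgHom.comp_apply, ← pullFn_comp, ← pullFn_comp, key]
  haveI : IsMonHom φ.hom := ‹IsMonHom g›
  exact ⟨H, hH, j, hj, hjc, isTorus_of_iso (Grp.mkIso' φ), hpts⟩

/-- A maximal torus subgroup scheme gives a maximal torus of points. -/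
theorem isMaxTor_pts {T : Over (Spec (CommRingCat.of k))} [GrpObj T] {iT : T ⟶ G} [IsMonHom iT]
    (hT : AGF.IsMaxTorus iT) : IsMaxTor (pts iT) := by
  obtain ⟨-, hmono, htor, hmax⟩ := hT
  haveI := hmono
  haveI := isClosedImmersion_torus htor iT
  refine ⟨isTor_pts htor iT, fun S hS hle => ?_⟩
  obtain ⟨T', hT', j, hj, hjc, hjtor, hpts⟩ := exists_torus_scheme hS
  haveI := hjc
  obtain ⟨hsm, hc⟩ := smooth_connected_torus htor
  haveI : IsAffine T.left := isAffine_of_isAffineHom iT.left
  haveI : IsReduced T.left := GrpSchLib.isReduced_of_smooth_field T.hom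
  obtain ⟨f, hf⟩ := exists_factor_of_pts j iT fun x => hpts.ge (hle ⟨x, rfl⟩)
  haveI : Mono j := (Over.forget _).mono_of_mono_map (inferInstanceAs (Mono j.left))
  haveI := hmax T' j f hjtor hf
  refine le_antisymm (fun x hx => ?_) hle
  rw [← hpts] at hx
  obtain ⟨h, rfl⟩ := mem_pts.mp hx
  exact ⟨h ≫ inv f, by
    show ptConv G ((h ≫ inv f) ≫ iT) = _
    rw [← hf, Category.assoc, IsIso.inv_hom_id_assoc]⟩

/-- The points of a smooth connected group form a closed irreducible subgroup. -/
theorem isCC_top [Smooth G.hom] [ConnectedSpace G.left] : IsCC (⊤ : Subgroup (WithConv (Fn G →ₐ[k] k))) := by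
  haveI : IsClosedImmersion (𝟙 G : G ⟶ G).left := inferInstanceAs (IsClosedImmersion (𝟙 G.left))
  have htop : pts (𝟙 G) = ⊤ := eq_top_iff.mpr fun x _ => ⟨(ptConv G).symm x, by
    show ptConv G ((ptConv G).symm x ≫ 𝟙 G) = x
    rw [Category.comp_id, MulEquiv.apply_symm_apply]⟩
  exact htop ▸ isCC_pts (𝟙 G)

/-- Points of a subgroup factoring through another one lie in it. -/
theorem pts_le_of_factor {H H' : Over (Spec (CommRingCat.of k))} [GrpObj H] [GrpObj H'] (i : H ⟶ G) (i' : H' ⟶ G)
    [IsMonHom i] [IsMonHom i'] (f : H ⟶ H') (hf : f ≫ i' = i) : pts i ≤ pts i' := by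
  rintro _ ⟨h, rfl⟩
  exact ⟨h ≫ f, by show ptConv G ((h ≫ f) ≫ i') = ptConv G (h ≫ i); rw [Category.assoc, hf]⟩

/-- Maximal tori of a smooth connected affine group over an algebraically closed field are conjugate. -/
theorem maxTorus_conj [Smooth G.hom] [ConnectedSpace G.left] {T T' : Over (Spec (CommRingCat.of k))} [GrpObj T]
    [GrpObj T'] (iT : T ⟶ G) (iT' : T' ⟶ G) (hT : AGF.IsMaxTorus iT) (hT' : AGF.IsMaxTorus iT') :
    ∃ (g : 𝟙_ (Over (Spec (CommRingCat.of k))) ⟶ G) (f : T ≅ T'), f.hom ≫ iT' = AGF.conjBy g iT := by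
  haveI := hT.1
  haveI := hT'.1
  haveI := hT.2.1
  haveI := hT'.2.1
  haveI := isClosedImmersion_torus hT.2.2.1 iT
  haveI := isClosedImmersion_torus hT'.2.2.1 iT'
  haveI := (smooth_connected_torus hT.2.2.1).1
  haveI := (smooth_connected_torus hT'.2.2.1).1
  obtain ⟨c, hc⟩ := maxTor_conj isCC_top (isMaxTor_pts hT) (isMaxTor_pts hT')
  exact ⟨_, exists_conj_iso iT iT' hc⟩

/-- Borel pairs are conjugate by one rational point. -/
theorem scheme_borelPair_conj [Smooth G.hom] [ConnectedSpace G.left] {B B' T T' : Over (Spec (CommRingCat.of k))}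
    [GrpObj B] [GrpObj B'] [GrpObj T] [GrpObj T'] (iB : B ⟶ G) (iB' : B' ⟶ G) (hB : Red.IsBorelOver k iB)
    (hB' : Red.IsBorelOver k iB') (iT : T ⟶ G) (iT' : T' ⟶ G) (hT : AGF.IsMaxTorus iT) (hT' : AGF.IsMaxTorus iT')
    (t : T ⟶ B) (ht : t ≫ iB = iT) (t' : T' ⟶ B') (ht' : t' ≫ iB' = iT') :
    ∃ (g : 𝟙_ (Over (Spec (CommRingCat.of k))) ⟶ G) (f : B ≅ B') (f' : T ≅ T'),
      f.hom ≫ iB' = AGF.conjBy g iB ∧ f'.hom ≫ iT' = AGF.conjBy g iT := by
  haveI := hT.1
  haveI := hT'.1
  haveI := hT.2.1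
  haveI := hT'.2.1
  haveI := hB.1
  haveI := hB'.1
  haveI := hB.2.1
  haveI := hB'.2.1
  haveI := hB.2.2.1
  haveI := hB'.2.2.1
  haveI := isClosedImmersion_torus hT.2.2.1 iT
  haveI := isClosedImmersion_torus hT'.2.2.1 iT'
  haveI := (smooth_connected_torus hT.2.2.1).1
  haveI := (smooth_connected_torus hT'.2.2.1).1
  obtain ⟨c, hc, hc'⟩ := borelPair_conj isCC_top (isBor_pts hB) (isBor_pts hB') (isMaxTor_pts hT)
    (pts_le_of_factor iT iB t ht) (isMaxTor_pts hT') (pts_le_of_factor iT' iB' t' ht')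
  obtain ⟨f, hf⟩ := exists_conj_iso iB iB' hc
  obtain ⟨f', hf'⟩ := exists_conj_iso iT iT' hc'
  exact ⟨_, f, f', hf, hf'⟩

end Groth.Agent.AGFHopf
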