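import Groth.Agent.AGFHopf.PUni
import Groth.Agent.AGFHopf.PCone

/-!
# Flags stable under a connected solvable group of points; conjugacy of finite subgroups
-/

universe u v w

open TensorProduct WithConv

namespace Groth.Agent.AGFHopf

variable {k : Type u} [Field k] {A : Type v} [CommRing A] [HopfAlgebra k A]

local notation "Γk" => WithConv (A →ₐ[k] k)

variable (V : Type v) [AddCommGroup V] [Module k V] [HopfRep.Comod k A V]

/-- A flag stable under `H`, with the diagonal characters. -/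
structure Flag (H : Subgroup Γk) where
  n : ℕ
  F : ℕ → Submodule k V
  χ : ℕ → Γk → k
  bot : F 0 = ⊥
  top : F n = ⊤
  mono : Monotone F
  strict : ∀ j < n, ∃ v ∈ F (j + 1), v ∉ F j
  mem : ∀ j, χ j ∈ ptR k A
  step : ∀ j < n, ∀ h ∈ H, ∀ v ∈ F (j + 1), ptAct V h v - χ j h • v ∈ F j

variable {V}

theorem isRegRep_ptAct (H : Subgroup Γk) : IsRegRep ((ptAct (k := k) (A := A) V).comp H.subtype) := fun f v =>
  ⟨ComodLib.coefFun (C := A) f v, fun h => by
    show f (ptAct V (h : Γk) v) = _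
    rw [apply_coefFun]⟩

variable [IsAlgClosed k] [Algebra.FiniteType k A] [Module.Finite k V]

/-- Connected solvable groups of points stabilize flags. -/
theorem exists_flag_pts {H : Subgroup Γk} (hH : ZPts.IsIrr (ptR k A) (H : Set Γk)) (hsol : Group.IsSolvable H) :
    Nonempty (Flag V H) := by
  suffices ∀ W : Submodule k V, (∀ h ∈ H, ∀ v ∈ W, ptAct V h v ∈ W) → ∃ (n : ℕ) (F : ℕ → Submodule k V)
      (χ : ℕ → Γk → k), F 0 = W ∧ F n = ⊤ ∧ Monotone F ∧ (∀ j < n, ∃ v ∈ F (j + 1), v ∉ F j) ∧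
      (∀ j, χ j ∈ ptR k A) ∧ ∀ j < n, ∀ h ∈ H, ∀ v ∈ F (j + 1), ptAct V h v - χ j h • v ∈ F j by
    obtain ⟨n, F, χ, h1, h2, h3, h4, h5, h6⟩ := this ⊥ (fun h _ v hv => by simp_all)
    exact ⟨⟨n, F, χ, h1, h2, h3, h4, h5, h6⟩⟩
  intro W
  induction W using WellFoundedGT.induction with
  | _ W ih =>
    intro hW
    by_cases htop : W = ⊤
    · exact ⟨0, fun _ => W, fun _ => 0, rfl, htop, monotone_const, fun j hj => absurd hj (Nat.not_lt_zero j),
        fun _ => zero_mem _, fun j hj => absurd hj (Nat.not_lt_zero j)⟩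
    haveI : Nontrivial (V ⧸ W) := Submodule.Quotient.nontrivial_iff.mpr htop
    let ρ' : H →* Module.End k (V ⧸ W) :=
      { toFun := fun h => W.mapQ W (ptAct V (h : Γk)) (fun v hv => hW h h.2 v hv)
        map_one' := Submodule.linearMap_qext _ (LinearMap.ext fun x => by simp)
        map_mul' := fun a b => Submodule.linearMap_qext _ (LinearMap.ext fun x => by simp) }
    have hρ' : IsRegRep ρ' := fun f v => by
      obtain ⟨v, rfl⟩ := W.mkQ_surjective v
      obtain ⟨a, ha⟩ := isRegRep_ptAct H (f.comp W.mkQ) v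
      exact ⟨a, fun h => ha h⟩
    obtain ⟨z, -, hz0, hz⟩ := exists_eigen hH hsol hρ' (top_ne_bot (α := Submodule k (V ⧸ W))) fun _ _ _ => trivial
    obtain ⟨φ, hφ⟩ := Module.Projective.exists_dual_eq_one k hz0
    obtain ⟨v, hv⟩ := W.mkQ_surjective z
    obtain ⟨a, ha⟩ := hρ' φ z
    let χ₀ : Γk → k := fun g => g.ofConv a
    have hstep : ∀ h ∈ H, ptAct V h v - χ₀ h • v ∈ W := fun h hh => by
      obtain ⟨c, hc⟩ := Submodule.mem_span_singleton.mp (hz ⟨h, hh⟩)
      have hc' : χ₀ h = c := by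
        show h.ofConv a = c
        rw [← ha ⟨h, hh⟩, ← hc, map_smul, hφ, smul_eq_mul, mul_one]
      rw [← W.ker_mkQ, LinearMap.mem_ker, map_sub, map_smul, hc', sub_eq_zero, hv, hc, ← hv]
      rfl
    have hvW : v ∉ W := fun h => hz0 (by rw [← hv]; exact (Submodule.Quotient.mk_eq_zero W).mpr h)
    let W' := W ⊔ Submodule.span k {v}
    have hlt : W < W' := lt_of_le_of_ne le_sup_left fun e =>
      hvW (e ▸ Submodule.mem_sup_right (Submodule.mem_span_singleton_self v))
    have hW'step : ∀ h ∈ H, ∀ x ∈ W', ptAct V h x - χ₀ h • x ∈ W := by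
      intro h hh x hx
      obtain ⟨w, hw, y, hy, rfl⟩ := Submodule.mem_sup.mp hx
      obtain ⟨c, rfl⟩ := Submodule.mem_span_singleton.mp hy
      rw [show ptAct V h (w + c • v) - χ₀ h • (w + c • v) =
          (ptAct V h w - χ₀ h • w) + c • (ptAct V h v - χ₀ h • v) by
        rw [map_add, map_smul, smul_add, smul_sub, smul_comm (χ₀ h) c v]; abel]
      exact add_mem (sub_mem (hW h hh w hw) (W.smul_mem _ hw)) (W.smul_mem _ (hstep h hh))
    obtain ⟨n, F, χ, h1, h2, h3, h4, h5, h6⟩ := ih W' hlt fun h hh x hx => by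
      rw [show ptAct V h x = (ptAct V h x - χ₀ h • x) + χ₀ h • x by abel]
      exact add_mem (hlt.le (hW'step h hh x hx)) (W'.smul_mem _ hx)
    refine ⟨n + 1, fun j => Nat.rec W (fun i _ => F i) j, fun j => Nat.rec χ₀ (fun i _ => χ i) j, rfl, h2,
      monotone_nat_of_le_succ ?_, ?_, ?_, ?_⟩
    · rintro (_ | i)
      · exact hlt.le.trans h1.ge
      · exact h3 (Nat.le_succ i)
    · rintro (_ | i) hi
      · exact ⟨v, h1.ge (Submodule.mem_sup_right (Submodule.mem_span_singleton_self v)), hvW⟩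
      · exact h4 i (Nat.succ_lt_succ_iff.mp hi)
    · rintro (_ | i)
      · exact ptEval_mem a
      · exact h5 i
    · rintro (_ | i) hi h hh x hx
      · exact hW'step h hh x (h1.le hx)
      · exact h6 i (Nat.succ_lt_succ_iff.mp hi) h hh x hx

namespace Flag

variable {H : Subgroup (WithConv (A →ₐ[k] k))} (D : Flag V H)

omit [IsAlgClosed k] [Algebra.FiniteType k A] [Module.Finite k V]

theorem apply_mem {h : Γk} (hh : h ∈ H) {j : ℕ} (hj : j ≤ D.n) {v : V} (hv : v ∈ D.F j) : ptAct V h v ∈ D.F j := by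
  cases j with
  | zero =>
    rw [D.bot, Submodule.mem_bot] at hv
    rw [hv, map_zero]
    exact zero_mem _
  | succ i =>
    rw [show ptAct V h v = (ptAct V h v - D.χ i h • v) + D.χ i h • v by abel]
    exact add_mem (D.mono (Nat.le_succ i) (D.step i hj h hh v hv)) (Submodule.smul_mem _ _ hv)

theorem eq_of_congr {j : ℕ} {v : V} (hv : v ∉ D.F j) {a b : k} {x : V} (ha : x - a • v ∈ D.F j)
    (hb : x - b • v ∈ D.F j) : a = b := by
  by_contra hne
  apply hv
  have h : (b - a) • v ∈ D.F j := by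
    rw [show (b - a) • v = (x - a • v) - (x - b • v) by rw [sub_smul]; abel]
    exact sub_mem ha hb
  have h' := (D.F j).smul_mem (b - a)⁻¹ h
  rwa [smul_smul, inv_mul_cancel₀ (sub_ne_zero.mpr (Ne.symm hne)), one_smul] at h'

theorem χ_one {j : ℕ} (hj : j < D.n) : D.χ j 1 = 1 := by
  obtain ⟨v, hv, hv'⟩ := D.strict j hj
  exact D.eq_of_congr hv' (D.step j hj 1 H.one_mem v hv) (by simp)

theorem χ_mul {j : ℕ} (hj : j < D.n) {g h : Γk} (hg : g ∈ H) (hh : h ∈ H) :
    D.χ j (g * h) = D.χ j g * D.χ j h := by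
  obtain ⟨v, hv, hv'⟩ := D.strict j hj
  refine D.eq_of_congr hv' (D.step j hj _ (mul_mem hg hh) v hv) ?_
  rw [map_mul, Module.End.mul_apply,
    show ptAct V g (ptAct V h v) - (D.χ j g * D.χ j h) • v =
      ptAct V g (ptAct V h v - D.χ j h • v) + D.χ j h • (ptAct V g v - D.χ j g • v) by
    rw [map_sub, map_smul, smul_sub, smul_smul, mul_comm (D.χ j h)]; abel]
  exact add_mem (D.apply_mem hg hj.le (D.step j hj h hh v hv)) (Submodule.smul_mem _ _ (D.step j hj g hg v hv))

theorem χ_ne_zero {j : ℕ} (hj : j < D.n) {h : Γk} (hh : h ∈ H) : D.χ j h ≠ 0 := fun e => by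
  have := D.χ_mul hj hh (inv_mem hh)
  rw [mul_inv_cancel, D.χ_one hj, e, zero_mul] at this
  exact one_ne_zero this

/-- The diagonal characters on a subgroup of `H`. -/
noncomputable def chi {K : Subgroup Γk} (hK : K ≤ H) (j : Fin D.n) : K →* kˣ :=
  MonoidHom.toHomUnits
    { toFun := fun x => D.χ j (x : Γk)
      map_one' := D.χ_one j.2
      map_mul' := fun x y => D.χ_mul j.2 (hK x.2) (hK y.2) }

theorem coe_chi {K : Subgroup Γk} (hK : K ≤ H) (j : Fin D.n) (x : K) : (D.chi hK j x : k) = D.χ j (x : Γk) := rfl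

/-- The index of a common eigenvector. -/
theorem exists_index {v : V} (hv : v ≠ 0) :
    ∃ j < D.n, ∀ h ∈ H, ∀ a : k, ptAct V h v = a • v → D.χ j h = a := by
  classical
  have hex : ∃ j, v ∈ D.F (j + 1) := ⟨D.n, D.mono (Nat.le_succ _) (D.top ▸ Submodule.mem_top)⟩
  have hnotin : v ∉ D.F (Nat.find hex) := by
    rcases Nat.eq_zero_or_pos (Nat.find hex) with h | h
    · rw [h, D.bot]; simpa using hv
    · intro hm
      refine Nat.find_min hex (Nat.sub_lt h one_pos) ?_
      rwa [show Nat.find hex - 1 + 1 = Nat.find hex by omega]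
  have hlt : Nat.find hex < D.n := by
    by_contra hge
    exact hnotin (D.mono (not_lt.mp hge) (D.top ▸ Submodule.mem_top))
  exact ⟨_, hlt, fun h hh a ha =>
    D.eq_of_congr hnotin (D.step _ hlt h hh v (Nat.find_spec hex)) (by rw [ha, sub_self]; exact zero_mem _)⟩

/-- The maps lowering the flag by `i` steps. -/
def low (i : ℕ) : Submodule k (Module.End k V) where
  carrier := {x | ∀ j ≤ D.n, ∀ v ∈ D.F j, x v ∈ D.F (j - i)}
  add_mem' hx hy j hj v hv := add_mem (hx j hj v hv) (hy j hj v hv)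
  zero_mem' _ _ _ _ := zero_mem _
  smul_mem' c _ hx j hj v hv := Submodule.smul_mem _ c (hx j hj v hv)

theorem low_anti {i j : ℕ} (h : i ≤ j) : D.low j ≤ D.low i := fun _ hx l hl v hv =>
  D.mono (Nat.sub_le_sub_left h l) (hx l hl v hv)

theorem mul_mem_low {a b : ℕ} {x y : Module.End k V} (hx : x ∈ D.low a) (hy : y ∈ D.low b) :
    x * y ∈ D.low (a + b) := fun j hj v hv => by
  rw [Module.End.mul_apply, add_comm, ← Nat.sub_sub]
  exact hx _ ((Nat.sub_le j b).trans hj) _ (hy j hj v hv)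

theorem ptAct_mem_low {h : Γk} (hh : h ∈ H) : ptAct V h ∈ D.low 0 := fun _ hj _ hv => D.apply_mem hh hj hv

theorem conj_mem_low {i : ℕ} {h : Γk} (hh : h ∈ H) {x : Module.End k V} (hx : x ∈ D.low i) :
    ptAct V h * x * ptAct V h⁻¹ ∈ D.low i := by
  simpa using D.mul_mem_low (D.mul_mem_low (D.ptAct_mem_low hh) hx) (D.ptAct_mem_low (inv_mem hh))

theorem eq_zero_of_low {x : Module.End k V} {i : ℕ} (hi : D.n ≤ i) (hx : x ∈ D.low i) : x = 0 :=
  LinearMap.ext fun v => by
    have h := hx D.n le_rfl v (D.top ▸ Submodule.mem_top)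
    rw [Nat.sub_eq_zero_of_le hi, D.bot, Submodule.mem_bot] at h
    exact h

theorem pow_mem_low {x : Module.End k V} (hx : x ∈ D.low 1) : ∀ i : ℕ, x ^ i ∈ D.low i
  | 0 => fun _ _ _ hv => hv
  | i + 1 => by rw [pow_succ]; exact D.mul_mem_low (pow_mem_low hx i) hx

theorem sub_one_mem_low {h : Γk} (hh : h ∈ H) (he : ∀ j < D.n, D.χ j h = 1) : ptAct V h - 1 ∈ D.low 1 := by
  intro j hj v hv
  cases j with
  | zero =>
    rw [D.bot, Submodule.mem_bot] at hv
    rw [hv, map_zero]
    exact zero_mem _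
  | succ i =>
    have := D.step i hj h hh v hv
    rw [he i hj, one_smul] at this
    exact this

theorem isNilpotent_of_χ {h : Γk} (hh : h ∈ H) (he : ∀ j < D.n, D.χ j h = 1) : IsNilpotent (ptAct V h - 1) :=
  ⟨D.n, D.eq_zero_of_low le_rfl (D.pow_mem_low (D.sub_one_mem_low hh he) D.n)⟩

theorem χ_eq_one_of_isNilpotent {h : Γk} (hh : h ∈ H) (hn : IsNilpotent (ptAct V h - 1)) {j : ℕ} (hj : j < D.n) :
    D.χ j h = 1 := by
  obtain ⟨v, hv, hv'⟩ := D.strict j hj
  have hst : ∀ w ∈ D.F j, (ptAct V h - 1) w ∈ D.F j := fun w hw => sub_mem (D.apply_mem hh hj.le hw) hw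
  have key : ∀ m : ℕ, ((ptAct V h - 1) ^ m) v - (D.χ j h - 1) ^ m • v ∈ D.F j := fun m => by
    induction m with
    | zero => simp
    | succ m ih =>
      rw [pow_succ', Module.End.mul_apply,
        show (ptAct V h - 1) (((ptAct V h - 1) ^ m) v) - (D.χ j h - 1) ^ (m + 1) • v =
          (ptAct V h - 1) (((ptAct V h - 1) ^ m) v - (D.χ j h - 1) ^ m • v) +
            (D.χ j h - 1) ^ m • (ptAct V h v - D.χ j h • v) by
          rw [map_sub, map_smul, LinearMap.sub_apply (ptAct V h) 1 v, Module.End.one_apply]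
          module]
      exact add_mem (hst _ ih) (Submodule.smul_mem _ _ (D.step j hj h hh v hv))
  obtain ⟨N, hN⟩ := hn
  have := key N
  rw [hN, LinearMap.zero_apply, zero_sub, neg_mem_iff] at this
  by_contra hne
  have h' := (D.F j).smul_mem ((D.χ j h - 1) ^ N)⁻¹ this
  rw [smul_smul, inv_mul_cancel₀ (pow_ne_zero _ (sub_ne_zero.mpr hne)), one_smul] at h'
  exact hv' h'

variable [IsAlgClosed k] [Algebra.FiniteType k A] [Module.Finite k V]

/-- A semisimple point of `H` with trivial characters is trivial. -/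
theorem eq_one_of_isSSPt (hinj : Function.Injective (ptAct (k := k) (A := A) V)) {h : Γk} (hh : h ∈ H)
    (hs : IsSSPt h) (he : ∀ j < D.n, D.χ j h = 1) : h = 1 := by
  apply hinj
  rw [map_one]
  exact sub_eq_zero.mp (Module.End.eq_zero_of_isNilpotent_isSemisimple (D.isNilpotent_of_χ hh he)
    ((Module.End.IsSemisimple.sub_of_commute (Commute.one_right (ptAct V h)) (hs V inferInstance))
      Module.End.isSemisimple_id))

/-- Two homomorphisms of a finite group of invertible order with equal characters are conjugate. -/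
theorem exists_conj_fin (hinj : Function.Injective (ptAct (k := k) (A := A) V)) {K : Subgroup Γk} (hKH : K ≤ H)
    (hK : ZPts.IsCl (ptR k A) (K : Set Γk)) {E : Type*} [Group E] [Fintype E] (hE : (Fintype.card E : k) ≠ 0)
    (α β : E →* Γk) (hα : ∀ e, α e ∈ K) (hβ : ∀ e, β e ∈ K) (hχ : ∀ j < D.n, ∀ e, D.χ j (α e) = D.χ j (β e)) :
    ∃ u ∈ K, (∀ j < D.n, D.χ j u = 1) ∧ ∀ e, u * α e * u⁻¹ = β e := by
  let θ : Γk → Module.End k V := fun g => ptAct V g - 1
  have hθmul : ∀ x y, θ (x * y) = θ x + θ y + θ x * θ y := fun x y => by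
    simp only [θ, map_mul]; noncomm_ring
  have hθinv : ∀ x, θ x⁻¹ = -(ptAct V x⁻¹ * θ x) := fun x => by
    simp only [θ, mul_sub, mul_one, ← map_mul, inv_mul_cancel, map_one, neg_sub]
  have hθconj : ∀ x y, θ (x * y * x⁻¹) = ptAct V x * θ y * ptAct V x⁻¹ := fun x y => by
    simp only [θ, map_mul, mul_sub, sub_mul, mul_one, ← map_mul, mul_inv_cancel, map_one]
  suffices ∀ i : ℕ, ∃ u ∈ K, θ u ∈ D.low 1 ∧ ∀ e, θ (β e * (u * α e * u⁻¹)⁻¹) ∈ D.low (i + 1) by
    obtain ⟨u, huK, hu, he⟩ := this D.n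
    refine ⟨u, huK, fun j hj => D.χ_eq_one_of_isNilpotent (hKH huK)
      ⟨D.n, D.eq_zero_of_low le_rfl (D.pow_mem_low hu D.n)⟩ hj, fun e => ?_⟩
    have h := sub_eq_zero.mp (D.eq_zero_of_low (Nat.le_succ _) (he e))
    exact (mul_inv_eq_one.mp (hinj (h.trans (map_one _).symm))).symm
  intro i
  induction i with
  | zero =>
    refine ⟨1, K.one_mem, by simp [θ], fun e => ?_⟩
    rw [one_mul, inv_one, mul_one]
    refine D.sub_one_mem_low (hKH (mul_mem (hβ e) (inv_mem (hα e)))) fun j hj => ?_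
    rw [D.χ_mul hj (hKH (hβ e)) (hKH (inv_mem (hα e))), ← hχ j hj e, ← D.χ_mul hj (hKH (hα e)) (hKH (inv_mem (hα e))),
      mul_inv_cancel, D.χ_one hj]
  | succ i ih =>
    obtain ⟨u₀, hu₀K, hu₀, hw⟩ := ih
    set α' : E →* Γk := (MulAut.conj u₀).toMonoidHom.comp α
    have hα' : ∀ e, α' e ∈ K := fun e => mul_mem (mul_mem hu₀K (hα e)) (inv_mem hu₀K)
    let w : E → Γk := fun e => β e * (α' e)⁻¹
    let L : Submodule k (Module.End k V) := D.low (i + 1 + 1)
    let q := L.mkQ
    let U : Subgroup Γk :=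
      { carrier := {g | g ∈ K ∧ θ g ∈ D.low (i + 1)}
        one_mem' := ⟨K.one_mem, by simp [θ]⟩
        mul_mem' := fun {x y} hx hy => ⟨mul_mem hx.1 hy.1, by
          rw [hθmul]
          exact add_mem (add_mem hx.2 hy.2) (D.low_anti (by omega) (D.mul_mem_low hx.2 hy.2))⟩
        inv_mem' := fun {x} hx => ⟨inv_mem hx.1, by
          rw [hθinv]
          exact neg_mem (by simpa using D.mul_mem_low (D.ptAct_mem_low (hKH (inv_mem hx.1))) hx.2)⟩ }
    have hwU : ∀ e, w e ∈ U := fun e => ⟨mul_mem (hβ e) (inv_mem (hα' e)), hw e⟩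
    have hqadd : ∀ {x y}, x ∈ U → y ∈ U → q (θ (x * y)) = q (θ x) + q (θ y) := fun {x y} hx hy => by
      rw [hθmul, map_add, map_add, add_eq_left, Submodule.mkQ_apply, Submodule.Quotient.mk_eq_zero]
      exact D.low_anti (by omega) (D.mul_mem_low hx.2 hy.2)
    have hqconj : ∀ {g x y}, g ∈ K → q (θ x) = q y →
        q (θ (g * x * g⁻¹)) = q (ptAct V g * y * ptAct V g⁻¹) := fun {g x y} hg hxy => by
      rw [hθconj, Submodule.mkQ_apply, Submodule.mkQ_apply, Submodule.Quotient.eq, ← sub_mul, ← mul_sub]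
      exact D.conj_mem_low (hKH hg) ((Submodule.Quotient.eq L).mp hxy)
    have hUconj : ∀ {g x}, g ∈ K → x ∈ U → g * x * g⁻¹ ∈ U := fun {g x} hg hx =>
      ⟨mul_mem (mul_mem hg hx.1) (inv_mem hg), by rw [hθconj]; exact D.conj_mem_low (hKH hg) hx.2⟩
    -- the product of the cocycle
    have hlist : ∀ l : List E, (l.map w).prod ∈ U ∧ q (θ (l.map w).prod) = (l.map fun e => q (θ (w e))).sum := fun l => by
      induction l with
      | nil => exact ⟨U.one_mem, by simp [θ]⟩
      | cons e l ih => exact ⟨by simpa using mul_mem (hwU e) ih.1, by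
          rw [List.map_cons, List.prod_cons, hqadd (hwU e) ih.1, ih.2, List.map_cons, List.sum_cons]⟩
    obtain ⟨hP, hPθ⟩ := hlist Finset.univ.toList
    set P := (Finset.univ.toList.map w).prod
    rw [Finset.sum_map_toList] at hPθ
    -- a root of the product
    have hUcl : ZPts.IsCl (ptR k A) (U : Set Γk) := by
      let I := {t : ℕ × V × Module.Dual k V // t.1 ≤ D.n ∧ t.2.1 ∈ D.F t.1 ∧ ∀ x ∈ D.F (t.1 - (i + 1)), t.2.2 x = 0}
      let F : I → ptR k A := fun t => ⟨_, sub_mem (ptEval_mem (ComodLib.coefFun (C := A) t.1.2.2 t.1.2.1))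
        (Subalgebra.algebraMap_mem (ptR k A) (t.1.2.2 t.1.2.1))⟩
      have hF : ∀ t g, (F t : Γk → k) g = t.1.2.2 (θ g t.1.2.1) := fun t g => by
        simp [F, θ, apply_coefFun]
      rw [show (U : Set Γk) = (K : Set Γk) ∩ {g | ∀ t, (F t : Γk → k) g = 0} from Set.ext fun g =>
        and_congr_right fun _ => ⟨fun h t => (hF t g).trans (t.2.2.2 _ (h _ t.2.1 _ t.2.2.1)), fun h j hj v hv => by
          by_contra hne
          obtain ⟨f, hf0, hf⟩ := Submodule.exists_dual_map_eq_bot_of_notMem hne inferInstance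
          refine hf0 ((hF ⟨(j, v, f), hj, hv, fun x hx => ?_⟩ g).symm.trans (h _))
          have := Submodule.mem_map_of_mem (f := f) hx
          rwa [hf, Submodule.mem_bot] at this⟩]
      exact hK.inter (ZPts.isCl_setOf_forall F)
    have hPun : IsUnPt P := isUnPt_of_faithful V hinj
      ⟨D.n, D.eq_zero_of_low le_rfl (D.pow_mem_low (D.low_anti (Nat.le_add_left 1 i) hP.2) D.n)⟩
    obtain ⟨y, hy, hyP⟩ := exists_root_mem hUcl hP hPun hE
    have hpow : ∀ l : ℕ, q (θ (y ^ l)) = (l : k) • q (θ y) := fun l => by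
      induction l with
      | zero => simp [θ]
      | succ l ih => rw [pow_succ, hqadd (pow_mem hy l) hy, ih, Nat.cast_succ, add_smul, one_smul]
    have hS : (Fintype.card E : k) • q (θ y) = ∑ e, q (θ (w e)) := by rw [← hpow, hyP, hPθ]
    refine ⟨y * u₀, mul_mem hy.1 hu₀K, ?_, fun e => ?_⟩
    · rw [hθmul]
      exact add_mem (add_mem (D.low_anti (Nat.le_add_left 1 i) hy.2) hu₀)
        (D.low_anti (by omega) (D.mul_mem_low hy.2 hu₀))
    have he : β e * (y * u₀ * α e * (y * u₀)⁻¹)⁻¹ = w e * (α' e * y * (α' e)⁻¹) * y⁻¹ := by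
      simp only [w, α', MonoidHom.comp_apply, MulEquiv.toMonoidHom_eq_coe, MonoidHom.coe_coe, MulAut.conj_apply]
      group
    have hyinv : q (θ y⁻¹) = -q (θ y) := by
      have := hqadd (inv_mem hy) hy
      rw [inv_mul_cancel, show θ 1 = 0 by simp [θ], map_zero] at this
      exact eq_neg_of_add_eq_zero_left this.symm
    -- the cocycle relation, summed
    have hrel : ∀ f, q (θ (w (e * f))) = q (θ (w e)) + q (θ (α' e * w f * (α' e)⁻¹)) := fun f => by
      rw [← hqadd (hwU e) (hUconj (hα' e) (hwU f))]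
      congr 2
      simp only [w, map_mul]
      group
    let cq : Module.End k V →ₗ[k] Module.End k V ⧸ L :=
      q ∘ₗ LinearMap.mulRight k (ptAct V (α' e)⁻¹) ∘ₗ LinearMap.mulLeft k (ptAct V (α' e))
    have hcq : ∀ x, q (θ (α' e * x * (α' e)⁻¹)) = cq (θ x) := fun x => hqconj (hα' e) rfl
    have hcong : ∀ {x z : Module.End k V}, q x = q z → cq x = cq z := fun {x z} h => by
      simp only [cq, LinearMap.comp_apply, LinearMap.mulLeft_apply, LinearMap.mulRight_apply]
      rw [Submodule.mkQ_apply, Submodule.mkQ_apply, Submodule.Quotient.eq, ← sub_mul, ← mul_sub]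
      exact D.conj_mem_low (hKH (hα' e)) ((Submodule.Quotient.eq L).mp h)
    have hsum : (∑ f, q (θ (w f))) = (Fintype.card E : k) • q (θ (w e)) + cq (∑ f, θ (w f)) := by
      calc (∑ f, q (θ (w f))) = ∑ f, q (θ (w (e * f))) := (Equiv.sum_comp (Equiv.mulLeft e) fun f => q (θ (w f))).symm
        _ = _ := by
          simp only [hrel, hcq, Finset.sum_add_distrib, Finset.sum_const, Finset.card_univ, map_sum, Nat.cast_smul_eq_nsmul]
    have hS' : q ((Fintype.card E : k) • θ y) = q (∑ f, θ (w f)) := by rw [map_smul, map_sum, hS]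
    show θ (β e * (y * u₀ * α e * (y * u₀)⁻¹)⁻¹) ∈ L
    rw [← Submodule.Quotient.mk_eq_zero L, ← Submodule.mkQ_apply, he,
      show L.mkQ = q from rfl, hqadd (mul_mem (hwU e) (hUconj (hα' e) hy)) (inv_mem hy),
      hqadd (hwU e) (hUconj (hα' e) hy), hyinv, hcq]
    apply (smul_right_injective (Module.End k V ⧸ L) hE)
    show (Fintype.card E : k) • _ = (Fintype.card E : k) • (0 : Module.End k V ⧸ L)
    rw [smul_zero, smul_add, smul_add, smul_neg, ← map_smul cq, hcong hS', hS, hsum]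
    abel

end Flag

end Groth.Agent.AGFHopf
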