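import Groth.Agent.AGFHopf.PFlag
import Groth.Agent.AGFHopf.PChar
import Groth.Agent.AGFHopf.PBorel
import Mathlib.LinearAlgebra.Eigenspace.Pi
import Mathlib.LinearAlgebra.Eigenspace.Triangularizable

/-!
# Tori in connected solvable groups of points: existence and conjugacy
-/

universe u v w

open TensorProduct WithConv

namespace Groth.Agent.AGFHopf

variable {k : Type u} [Field k] {A : Type v} [CommRing A] [HopfAlgebra k A]

local notation "Γk" => WithConv (A →ₐ[k] k)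

/-- A torus of points: closed, irreducible, commutative, of semisimple points. -/
def IsTor (S : Subgroup (WithConv (A →ₐ[k] k))) : Prop :=
  IsCC S ∧ (∀ x ∈ S, ∀ y ∈ S, Commute x y) ∧ ∀ x ∈ S, IsSSPt x

theorem IsSSPt.conj {x : WithConv (A →ₐ[k] k)} (hx : IsSSPt x) (u : WithConv (A →ₐ[k] k)) :
    IsSSPt (u * x * u⁻¹) := fun V _ _ _ hV => by
  have h1 : ∀ v, ptAct V u⁻¹ (ptAct V u v) = v := fun v => by
    rw [← Module.End.mul_apply, ← map_mul, inv_mul_cancel, map_one]; rfl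
  have h2 : ∀ v, ptAct V u (ptAct V u⁻¹ v) = v := fun v => by
    rw [← Module.End.mul_apply, ← map_mul, mul_inv_cancel, map_one]; rfl
  let e : V ≃ₗ[k] V := { (ptAct V u : V →ₗ[k] V) with invFun := ptAct V u⁻¹, left_inv := h1, right_inv := h2 }
  refine (LinearEquiv.isSemisimple_iff (ptAct V x) _ e ?_).mp (hx V hV)
  refine LinearMap.ext fun v => ?_
  show ptAct V u (ptAct V x v) = ptAct V (u * x * u⁻¹) (ptAct V u v)
  rw [map_mul, map_mul, Module.End.mul_apply, Module.End.mul_apply, h1]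

theorem IsTor.cj {S : Subgroup (WithConv (A →ₐ[k] k))} (hS : IsTor S) (u : WithConv (A →ₐ[k] k)) :
    IsTor (cjSub u S) := by
  have hmem : ∀ x ∈ cjSub u S, ∃ y ∈ S, x = u * y * u⁻¹ := fun x hx =>
    ⟨_, mem_cjSub.mp hx, by group⟩
  refine ⟨isCC_cjSub u hS.1, fun x hx y hy => ?_, fun x hx => ?_⟩
  · obtain ⟨a, ha, rfl⟩ := hmem x hx
    obtain ⟨b, hb, rfl⟩ := hmem y hy
    show _ * _ = _ * _
    rw [show u * a * u⁻¹ * (u * b * u⁻¹) = u * (a * b) * u⁻¹ by group, (hS.2.1 a ha b hb).eq]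
    group
  · obtain ⟨a, ha, rfl⟩ := hmem x hx
    exact (hS.2.2 a ha).conj u

variable {V : Type v} [AddCommGroup V] [Module k V] [HopfRep.Comod k A V]
variable [IsAlgClosed k]

theorem isSemisimple_of_iSup_eigenspace [Module.Finite k V] (T : Module.End k V)
    (hsup : ⨆ μ, T.eigenspace μ = ⊤) : T.IsSemisimple := by
  classical
  let s : Finset k := (Module.End.finite_hasEigenvalue T).toFinset
  refine Module.End.isSemisimple_of_squarefree_aeval_eq_zero (p := ∏ μ ∈ s, (Polynomial.X - Polynomial.C μ))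
    (Polynomial.separable_prod_X_sub_C_iff'.mpr fun _ _ _ _ h => h).squarefree (LinearMap.ext fun v => ?_)
  have hv : v ∈ ⨆ μ, T.eigenspace μ := hsup ▸ Submodule.mem_top
  induction hv using Submodule.iSup_induction' with
  | zero => simp
  | add x y _ _ hx hy => rw [map_add, hx, hy, map_add]
  | mem μ x hx =>
    rw [LinearMap.zero_apply]
    by_cases hx0 : x = 0
    · simp [hx0]
    · rw [Module.End.aeval_apply_of_hasEigenvector ⟨hx, hx0⟩, Polynomial.eval_prod,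
        Finset.prod_eq_zero (i := μ) ((Module.End.finite_hasEigenvalue T).mem_toFinset.mpr
          (Module.End.hasEigenvalue_of_hasEigenvector ⟨hx, hx0⟩)) (by simp), zero_smul]

variable [Algebra.FiniteType k A]

/-- A function constant on the cosets of the component takes finitely many values. -/
theorem finite_image_component {P Z : Subgroup Γk} (hP : ZPts.IsCl (ptR k A) (P : Set Γk))
    (hbig : ∀ T : Set Γk, ZPts.IsIrr (ptR k A) T → T ⊆ P → (1 : Γk) ∈ T → T ⊆ Z)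
    {β : Type*} (g : Γk → β) (hg : ∀ x ∈ P, ∀ z ∈ Z, g (x * z) = g x) : (g '' (P : Set Γk)).Finite := by
  obtain ⟨F, hFf, hF, hcof⟩ := ZPts.exists_components isVar_ptR hP
  choose pt hpt using fun Z' : F => (hF Z'.1 Z'.2).2.1.1
  haveI := hFf.to_subtype
  refine (Set.finite_range fun Z' : F => g (pt Z')).subset ?_
  rintro _ ⟨x, hx, rfl⟩
  obtain ⟨Z', hZ', hxZ'⟩ := hcof {x} (ZPts.isIrr_singleton x) (Set.singleton_subset_iff.mpr hx)
  refine ⟨⟨Z', hZ'⟩, ?_⟩
  set x₀ := pt ⟨Z', hZ'⟩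
  have hx₀P : x₀ ∈ P := (hF Z' hZ').2.2 (hpt ⟨Z', hZ'⟩)
  have hz : x₀⁻¹ * x ∈ Z := by
    refine hbig ((x₀⁻¹ * ·) '' Z') ((hF Z' hZ').2.1.image _ fun f hf => (mem_ptR_mul hf x₀⁻¹).2) ?_
      ⟨x₀, hpt ⟨Z', hZ'⟩, inv_mul_cancel x₀⟩ ⟨x, hxZ' rfl, rfl⟩
    rintro _ ⟨y, hy, rfl⟩
    exact mul_mem (inv_mem hx₀P) ((hF Z' hZ').2.2 hy)
  show g x₀ = g x
  rw [← hg x₀ hx₀P _ hz, mul_inv_cancel_left]

variable [Module.Finite k V]

namespace Flag

variable {H : Subgroup (WithConv (A →ₐ[k] k))} (D : Flag V H)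

omit [IsAlgClosed k] [Algebra.FiniteType k A] [Module.Finite k V] in
theorem isRegChar_chi {K : Subgroup Γk} (hK : K ≤ H) (j : Fin D.n) : IsRegChar (D.chi hK j) := by
  obtain ⟨a, ha⟩ := mem_ptR.mp (D.mem j)
  exact ⟨a, fun x => (D.coe_chi hK j x).trans (ha _).symm⟩

omit [IsAlgClosed k] [Algebra.FiniteType k A] [Module.Finite k V] in
theorem χ_inv {j : ℕ} (hj : j < D.n) {h : Γk} (hh : h ∈ H) : D.χ j h⁻¹ = (D.χ j h)⁻¹ :=
  eq_inv_of_mul_eq_one_left (by rw [← D.χ_mul hj (inv_mem hh) hh, inv_mul_cancel, D.χ_one hj])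

/-- The semisimple part has the same characters. -/
theorem exists_ss_same {K : Subgroup Γk} (hKH : K ≤ H) (hK : ZPts.IsCl (ptR k A) (K : Set Γk)) {x : Γk} (hx : x ∈ K) :
    ∃ s ∈ K, IsSSPt s ∧ (∀ j < D.n, D.χ j s = D.χ j x) ∧ ∀ z, Commute z x → Commute z s := by
  obtain ⟨gs, gu, hgs, hgu, he, -, hss, hun, hc⟩ := exists_ss_mem hK hx
  refine ⟨gs, hgs, hss, fun j hj => ?_, hc⟩
  rw [← he, D.χ_mul hj (hKH hgs) (hKH hgu), D.χ_eq_one_of_isNilpotent (hKH hgu) (hun V inferInstance) hj, mul_one]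

/-- Semisimple commuting points with the same characters coincide. -/
theorem eq_of_commute (hinj : Function.Injective (ptAct (k := k) (A := A) V)) {s t : Γk} (hs : s ∈ H) (ht : t ∈ H)
    (hss : IsSSPt s) (hts : IsSSPt t⁻¹) (hc : Commute s t) (he : ∀ j < D.n, D.χ j s = D.χ j t) : s = t := by
  refine mul_inv_eq_one.mp (D.eq_one_of_isSSPt hinj (mul_mem hs (inv_mem ht)) (fun W _ _ _ hW => ?_) fun j hj => ?_)
  · rw [map_mul]
    exact Module.End.IsSemisimple.mul_of_commute (hc.inv_right.map (ptAct W)) (hss W hW) (hts W hW)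
  · rw [D.χ_mul hj hs (inv_mem ht), D.χ_inv hj ht, he j hj, mul_inv_cancel₀ (D.χ_ne_zero hj ht)]

/-- Torsion semisimple points separating two characters. -/
theorem exists_sep (hinj : Function.Injective (ptAct (k := k) (A := A) V)) {K : Subgroup Γk} (hKH : K ≤ H)
    (hK : IsCC K) {i j : ℕ} (hi : i < D.n) (hj : j < D.n) (hne : ∃ x ∈ K, D.χ i x ≠ D.χ j x) :
    ∃ t ∈ K, IsSSPt t ∧ (∃ m : ℕ, (m : k) ≠ 0 ∧ t ^ m = 1) ∧ D.χ i t ≠ D.χ j t := by
  let χ : K →* kˣ := D.chi hKH ⟨i, hi⟩ * (D.chi hKH ⟨j, hj⟩)⁻¹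
  have hχ : χ ∈ Subgroup.closure (Set.range (D.chi hKH)) :=
    mul_mem (Subgroup.subset_closure ⟨_, rfl⟩) (inv_mem (Subgroup.subset_closure ⟨_, rfl⟩))
  have hne' : χ ≠ 1 := fun e => by
    obtain ⟨x, hx, hne⟩ := hne
    have := DFunLike.congr_fun e ⟨x, hx⟩
    simp only [χ, MonoidHom.mul_apply, MonoidHom.inv_apply, MonoidHom.one_apply, mul_inv_eq_one] at this
    exact hne (congrArg Units.val this)
  obtain ⟨x, m, hm, hxm, hχx⟩ := exists_torsion_sep hK.1 hK.2 (D.chi hKH) (D.isRegChar_chi hKH) hχ hne'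
  obtain ⟨s, hs, hss, hse, -⟩ := D.exists_ss_same hKH hK.1 x.2
  refine ⟨s, hs, hss, ⟨m, hm, ?_⟩, fun e => hχx ?_⟩
  · refine D.eq_one_of_isSSPt hinj (pow_mem (hKH hs) m) (fun W _ _ _ hW => ?_) fun l hl => ?_
    · rw [map_pow]; exact (hss W hW).pow m
    · have e1 : ∀ q : ℕ, D.χ l (s ^ q) = D.χ l s ^ q := fun q => by
        induction q with
        | zero => simp [D.χ_one hl]
        | succ q ih => rw [pow_succ, D.χ_mul hl (pow_mem (hKH hs) q) (hKH hs), ih, pow_succ]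
      have e2 := congrArg Units.val (hxm ⟨l, hl⟩)
      rw [Units.val_pow_eq_pow_val, D.coe_chi, Units.val_one] at e2
      rw [e1, hse l hl]
      exact e2
  · show D.chi hKH ⟨i, hi⟩ x * ((D.chi hKH ⟨j, hj⟩) x)⁻¹ = 1
    rw [mul_inv_eq_one]
    exact Units.ext (by rw [D.coe_chi, D.coe_chi, ← hse i hi, ← hse j hj]; exact e)

/-- A finite set of torsion semisimple points separating the characters of a connected subgroup. -/
theorem exists_sep_set (hinj : Function.Injective (ptAct (k := k) (A := A) V)) {K : Subgroup Γk} (hKH : K ≤ H)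
    (hK : IsCC K) : ∃ Ts : Finset Γk, (∀ t ∈ Ts, t ∈ K ∧ IsSSPt t) ∧
      (∃ m : ℕ, (m : k) ≠ 0 ∧ ∀ t ∈ Ts, t ^ m = 1) ∧
      ∀ i < D.n, ∀ j < D.n, (∀ t ∈ Ts, D.χ i t = D.χ j t) → ∀ x ∈ K, D.χ i x = D.χ j x := by
  classical
  let P := {p : Fin D.n × Fin D.n // ∃ x ∈ K, D.χ p.1 x ≠ D.χ p.2 x}
  choose t htK hts m hm htne using fun p : P =>
    let ⟨t, h1, h2, ⟨m, h3, h4⟩, h5⟩ := D.exists_sep hinj hKH hK p.1.1.2 p.1.2.2 p.2
    (⟨t, h1, h2, m, ⟨h3, h4⟩, h5⟩ : ∃ t, t ∈ K ∧ IsSSPt t ∧ ∃ m : ℕ, ((m : k) ≠ 0 ∧ t ^ m = 1) ∧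
      D.χ p.1.1 t ≠ D.χ p.1.2 t)
  refine ⟨Finset.univ.image t, fun y hy => ?_, ⟨∏ p, m p, ?_, fun y hy => ?_⟩, fun i hi j hj he x hx => ?_⟩
  · obtain ⟨p, -, rfl⟩ := Finset.mem_image.mp hy
    exact ⟨htK p, hts p⟩
  · rw [Nat.cast_prod]
    exact Finset.prod_ne_zero_iff.mpr fun p _ => (hm p).1
  · obtain ⟨p, -, rfl⟩ := Finset.mem_image.mp hy
    obtain ⟨c, hc⟩ := Finset.dvd_prod_of_mem m (Finset.mem_univ p)
    rw [hc, pow_mul, (hm p).2, one_pow]
  · by_contra hne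
    exact htne ⟨(⟨i, hi⟩, ⟨j, hj⟩), x, hx, hne⟩ (he _ (Finset.mem_image_of_mem t (Finset.mem_univ _)))

variable (V) in
/-- A joint eigenspace. -/
noncomputable def joint (Ts : Finset Γk) (b : Ts → k) : Submodule k V :=
  ⨅ t : Ts, (ptAct V (t : Γk)).eigenspace (b t)

omit [IsAlgClosed k] [Algebra.FiniteType k A] [Module.Finite k V] in
theorem apply_of_mem_joint {Ts : Finset Γk} {b : Ts → k} {v : V} (hv : v ∈ joint V Ts b) (t : Ts) :
    ptAct V (t : Γk) v = b t • v :=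
  Module.End.mem_eigenspace_iff.mp ((Submodule.mem_iInf _).mp hv t)

omit [Algebra.FiniteType k A] in
theorem iSup_joint {Ts : Finset Γk} (hss : ∀ t ∈ Ts, IsSSPt t) (hc : ∀ a ∈ Ts, ∀ b ∈ Ts, Commute a b) :
    ⨆ b : Ts → k, joint V Ts b = ⊤ := by
  have h := Module.End.iSup_iInf_maxGenEigenspace_eq_top_of_iSup_maxGenEigenspace_eq_top_of_commute
    (fun t : Ts => ptAct V (t : Γk)) (fun a b _ => (hc a a.2 b b.2).map (ptAct V))
    fun t => Module.End.iSup_maxGenEigenspace_eq_top _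
  refine le_antisymm le_top (h.symm.le.trans (iSup_mono fun b => iInf_mono fun t => le_of_eq ?_))
  exact ((hss t t.2) V inferInstance).isFinitelySemisimple.maxGenEigenspace_eq_eigenspace _

omit [IsAlgClosed k] [Algebra.FiniteType k A] [Module.Finite k V] in
theorem joint_stable {Ts : Finset Γk} {z : Γk} (hz : ∀ t ∈ Ts, Commute z t) {b : Ts → k} {v : V}
    (hv : v ∈ joint V Ts b) : ptAct V z v ∈ joint V Ts b := (Submodule.mem_iInf _).mpr fun t => by
  rw [Module.End.mem_eigenspace_iff, ← Module.End.mul_apply, ← map_mul, ← (hz t t.2).eq, map_mul,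
    Module.End.mul_apply, apply_of_mem_joint hv t, map_smul]

/-- A semisimple point whose characters are separated by `Ts` is scalar on the joint eigenspaces. -/
theorem scalar_joint {Ts : Finset Γk} (hTs : ∀ t ∈ Ts, t ∈ H) {s : Γk} (hs : s ∈ H) (hss : IsSSPt s)
    (hc : ∀ t ∈ Ts, Commute s t) (hsep : ∀ i < D.n, ∀ j < D.n, (∀ t ∈ Ts, D.χ i t = D.χ j t) → D.χ i s = D.χ j s)
    (b : Ts → k) : ∃ c : k, ∀ v ∈ joint V Ts b, ptAct V s v = c • v := by
  set W := joint V Ts b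
  have hst : ∀ v ∈ W, ptAct V s v ∈ W := fun v hv => joint_stable hc hv
  let f : Module.End k W := (ptAct V s).restrict hst
  have hf : f.IsSemisimple := Module.End.IsSemisimple.restrict (hp := hst) (hss V inferInstance)
  have htop : ⨆ μ, f.eigenspace μ = ⊤ :=
    hf.isFinitelySemisimple.iSup_maxGenEigenspace_eq_top_iff.mp (Module.End.iSup_maxGenEigenspace_eq_top f)
  have key : ∀ (μ : k) (w : W), w ≠ 0 → f w = μ • w →
      ∃ l < D.n, D.χ l s = μ ∧ ∀ t : Ts, D.χ l (t : Γk) = b t := fun μ w hw0 hw => by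
    obtain ⟨l, hl, he⟩ := D.exists_index (v := (w : V)) fun h => hw0 (Subtype.ext h)
    exact ⟨l, hl, he s hs μ (congrArg Subtype.val hw), fun t => he t (hTs t t.2) _ (apply_of_mem_joint w.2 t)⟩
  have huniq : ∀ μ ν : k, f.HasEigenvalue μ → f.HasEigenvalue ν → μ = ν := fun μ ν hμ hν => by
    obtain ⟨w, hw⟩ := hμ.exists_hasEigenvector
    obtain ⟨w', hw'⟩ := hν.exists_hasEigenvector
    obtain ⟨l, hl, e1, e2⟩ := key μ w hw.2 hw.apply_eq_smul
    obtain ⟨l', hl', e1', e2'⟩ := key ν w' hw'.2 hw'.apply_eq_smul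
    rw [← e1, ← e1']
    exact hsep l hl l' hl' fun t ht => (e2 ⟨t, ht⟩).trans (e2' ⟨t, ht⟩).symm
  by_cases hex : ∃ μ, f.HasEigenvalue μ
  · obtain ⟨c, hc'⟩ := hex
    refine ⟨c, fun v hv => ?_⟩
    have hle : ⨆ μ, f.eigenspace μ ≤ f.eigenspace c := iSup_le fun μ => by
      by_cases h : f.eigenspace μ = ⊥
      · rw [h]; exact bot_le
      · rw [huniq μ c h hc']
    exact congrArg Subtype.val (Module.End.mem_eigenspace_iff.mp (hle (htop.ge (Submodule.mem_top (x := ⟨v, hv⟩)))))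
  · push Not at hex
    refine ⟨0, fun v hv => ?_⟩
    have hbot : (⟨v, hv⟩ : W) ∈ (⊥ : Submodule k W) :=
      (iSup_le fun μ => le_of_eq (not_not.mp (hex μ))) (htop.ge Submodule.mem_top)
    rw [show v = 0 from congrArg Subtype.val ((Submodule.mem_bot k).mp hbot), map_zero, smul_zero]

/-- Commuting with separating torsion points means commuting. -/
theorem commute_of_sep (hinj : Function.Injective (ptAct (k := k) (A := A) V)) {Ts : Finset Γk}
    (hTs : ∀ t ∈ Ts, t ∈ H ∧ IsSSPt t) (hTc : ∀ a ∈ Ts, ∀ b ∈ Ts, Commute a b) {s : Γk} (hs : s ∈ H) (hss : IsSSPt s)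
    (hc : ∀ t ∈ Ts, Commute s t) (hsep : ∀ i < D.n, ∀ j < D.n, (∀ t ∈ Ts, D.χ i t = D.χ j t) → D.χ i s = D.χ j s)
    {z : Γk} (hz : ∀ t ∈ Ts, Commute z t) : Commute z s := by
  apply hinj
  refine LinearMap.ext fun v => ?_
  have hv : v ∈ ⨆ b : Ts → k, joint V Ts b := (iSup_joint (fun t ht => (hTs t ht).2) hTc).ge Submodule.mem_top
  rw [map_mul, map_mul, Module.End.mul_apply, Module.End.mul_apply]
  induction hv using Submodule.iSup_induction' with
  | zero => simp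
  | add x y _ _ hx hy => simp only [map_add, hx, hy]
  | mem b v hv =>
    obtain ⟨c, hcs⟩ := D.scalar_joint (fun t ht => (hTs t ht).1) hs hss hc hsep b
    rw [hcs v hv, map_smul, hcs _ (joint_stable hz hv)]

/-- Characters of a connected group are realized on the component of a subgroup realizing them. -/
theorem exists_pt_component {K P Z : Subgroup Γk} (hKH : K ≤ H) (hK : IsCC K) (hPK : P ≤ K)
    (hP : ZPts.IsCl (ptR k A) (P : Set Γk)) (hZP : Z ≤ P) (hZ : IsCC Z)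
    (hbig : ∀ T : Set Γk, ZPts.IsIrr (ptR k A) T → T ⊆ P → (1 : Γk) ∈ T → T ⊆ Z)
    (hsurj : ∀ z ∈ K, ∃ p ∈ P, ∀ j < D.n, D.χ j p = D.χ j z) {x : Γk} (hx : x ∈ K) :
    ∃ y ∈ Z, ∀ j < D.n, D.χ j y = D.χ j x := by
  classical
  have hZK : Z ≤ K := hZP.trans hPK
  let M := Subgroup.closure (Set.range (D.chi hKH))
  let M' := Subgroup.closure (Set.range (D.chi (hZK.trans hKH)))
  let r : (K →* kˣ) →* (Z →* kˣ) := MonoidHom.compHom' (Subgroup.inclusion hZK)
  have hr : M.map r = M' := by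
    rw [MonoidHom.map_closure, ← Set.range_comp]
    exact congrArg Subgroup.closure (congrArg Set.range (funext fun j => MonoidHom.ext fun z => Units.ext rfl))
  have hinjr : ∀ m ∈ M, r m = 1 → m = 1 := fun m hm hm1 => by
    have hreg := isRegChar_of_mem_closure (D.isRegChar_chi hKH) hm
    refine eq_one_of_finite_values hK.2 hreg ?_
    obtain ⟨a, ha⟩ := hreg
    have hfin := finite_image_component hP hbig (fun g : Γk => g.ofConv a) fun p hp z hz => by
      show (p * z).ofConv a = p.ofConv a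
      rw [← ha ⟨p * z, hPK (mul_mem hp (hZP hz))⟩, ← ha ⟨p, hPK hp⟩,
        show (⟨p * z, hPK (mul_mem hp (hZP hz))⟩ : K) = ⟨p, hPK hp⟩ * Subgroup.inclusion hZK ⟨z, hz⟩ from rfl, map_mul,
        show m (Subgroup.inclusion hZK ⟨z, hz⟩) = 1 from DFunLike.congr_fun hm1 ⟨z, hz⟩, mul_one]
    refine hfin.subset ?_
    rintro _ ⟨z, rfl⟩
    obtain ⟨p, hp, he⟩ := hsurj z z.2
    refine ⟨p, hp, ?_⟩
    show p.ofConv a = (m z : k)
    rw [← ha ⟨p, hPK hp⟩]
    congr 1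
    clear hm1 hfin ha
    induction hm using Subgroup.closure_induction with
    | mem m hm =>
      obtain ⟨j, rfl⟩ := hm
      exact Units.ext (he j j.2)
    | one => rfl
    | mul a b _ _ ha hb => simp only [MonoidHom.mul_apply, ha, hb]
    | inv a _ ha => simp only [MonoidHom.inv_apply, ha]
  let rM : M →* M' := (r.comp M.subtype).codRestrict M' fun m => hr.le ⟨m, m.2, rfl⟩
  have hbij : Function.Bijective rM :=
    ⟨(injective_iff_map_eq_one rM).mpr fun m hm => Subtype.ext (hinjr m m.2 (congrArg Subtype.val hm)), fun m => by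
      obtain ⟨m₀, hm₀, he⟩ := hr.ge m.2
      exact ⟨⟨m₀, hm₀⟩, Subtype.ext he⟩⟩
  let e := MulEquiv.ofBijective rM hbij
  obtain ⟨y, hy⟩ := exists_pt_char hZ.1 hZ.2 (D.chi (hZK.trans hKH)) (D.isRegChar_chi _)
    (((MonoidHom.eval (⟨x, hx⟩ : K)).comp M.subtype).comp e.symm.toMonoidHom)
  refine ⟨y, y.2, fun j hj => ?_⟩
  have := hy ⟨_, Subgroup.subset_closure ⟨⟨j, hj⟩, rfl⟩⟩
  rw [show (⟨D.chi (hZK.trans hKH) ⟨j, hj⟩, _⟩ : M') = e ⟨_, Subgroup.subset_closure ⟨⟨j, hj⟩, rfl⟩⟩ from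
    Subtype.ext (MonoidHom.ext fun z => Units.ext rfl)] at this
  simp only [MonoidHom.comp_apply, MulEquiv.coe_toMonoidHom, MulEquiv.symm_apply_apply] at this
  exact congrArg Units.val this

/-- When the torsion semisimple points are central, the semisimple points form a torus. -/
theorem exists_tor_of_central (hinj : Function.Injective (ptAct (k := k) (A := A) V)) {K : Subgroup Γk} (hKH : K ≤ H)
    (hK : IsCC K) (hcen : ∀ t ∈ K, IsSSPt t → (∃ m : ℕ, (m : k) ≠ 0 ∧ t ^ m = 1) → ∀ z ∈ K, Commute z t) :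
    ∃ T : Subgroup Γk, T ≤ K ∧ IsTor T ∧ ∀ z ∈ K, ∃ t ∈ T, ∀ j < D.n, D.χ j t = D.χ j z := by
  classical
  obtain ⟨Ts, hTs, ⟨m, hm, hTm⟩, hsep⟩ := D.exists_sep_set hinj hKH hK
  have hcen' : ∀ t ∈ Ts, ∀ z ∈ K, Commute z t := fun t ht => hcen t (hTs t ht).1 (hTs t ht).2 ⟨m, hm, hTm t ht⟩
  have hTc : ∀ a ∈ Ts, ∀ b ∈ Ts, Commute a b := fun a ha b hb => hcen' b hb a (hTs a ha).1
  have htop := iSup_joint (V := V) (fun t ht => (hTs t ht).2) hTc
  let T : Subgroup Γk :=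
    { carrier := {h | h ∈ K ∧ ∀ b : Ts → k, ∀ v ∈ joint V Ts b, ptAct V h v ∈ Submodule.span k {v}}
      one_mem' := ⟨K.one_mem, fun b v _ => by rw [map_one]; exact Submodule.mem_span_singleton_self v⟩
      mul_mem' := fun {x y} hx hy => ⟨mul_mem hx.1 hy.1, fun b v hv => by
        obtain ⟨c, hc⟩ := Submodule.mem_span_singleton.mp (hy.2 b v hv)
        rw [map_mul, Module.End.mul_apply, ← hc, map_smul]
        exact Submodule.smul_mem _ _ (hx.2 b v hv)⟩
      inv_mem' := fun {x} hx => ⟨inv_mem hx.1, fun b v hv => by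
        obtain ⟨c, hc⟩ := Submodule.mem_span_singleton.mp (hx.2 b v hv)
        have h1 : ptAct V x⁻¹ (ptAct V x v) = v := by
          rw [← Module.End.mul_apply, ← map_mul, inv_mul_cancel, map_one]; rfl
        rw [← hc, map_smul] at h1
        by_cases hc0 : c = 0
        · rw [hc0, zero_smul] at h1
          rw [← h1, map_zero]
          exact zero_mem _
        · refine Submodule.mem_span_singleton.mpr ⟨c⁻¹, ?_⟩
          conv_lhs => rw [← h1]
          rw [smul_smul, inv_mul_cancel₀ hc0, one_smul]⟩ }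
  have hTss : ∀ x ∈ T, IsSSPt x := fun x hx => by
    refine isSSPt_of_faithful V hinj (isSemisimple_of_iSup_eigenspace _ (top_le_iff.mp (htop.ge.trans ?_)))
    refine iSup_le fun b v hv => ?_
    obtain ⟨c, hc⟩ := Submodule.mem_span_singleton.mp (hx.2 b v hv)
    exact Submodule.mem_iSup_of_mem c (Module.End.mem_eigenspace_iff.mpr hc.symm)
  have hmemT : ∀ x ∈ K, IsSSPt x → x ∈ T := fun x hx hxs => ⟨hx, fun b v hv => by
    obtain ⟨c, hc⟩ := D.scalar_joint (fun t ht => hKH (hTs t ht).1) (hKH hx) hxs (fun t ht => hcen' t ht x hx)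
      (fun i hi j hj h => hsep i hi j hj h x hx) b
    exact Submodule.mem_span_singleton.mpr ⟨c, (hc v hv).symm⟩⟩
  have hcomm : ∀ x ∈ T, ∀ y ∈ T, Commute x y := fun x hx y hy =>
    D.commute_of_sep hinj (fun t ht => ⟨hKH (hTs t ht).1, (hTs t ht).2⟩) hTc (hKH hy.1) (hTss y hy)
      (fun t ht => hcen' t ht y hy.1) (fun i hi j hj h => hsep i hi j hj h y hy.1) fun t ht => hcen' t ht x hx.1
  have hTcl : ZPts.IsCl (ptR k A) (T : Set Γk) := by
    let I := {p : (Ts → k) × V × Module.Dual k V // p.2.1 ∈ joint V Ts p.1 ∧ p.2.2 p.2.1 = 0}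
    let F : I → ptR k A := fun p => ⟨_, ptEval_mem (ComodLib.coefFun (C := A) p.1.2.2 p.1.2.1)⟩
    have hF : ∀ p g, (F p : Γk → k) g = p.1.2.2 (ptAct V g p.1.2.1) := fun p g => apply_coefFun g _ _
    rw [show (T : Set Γk) = (K : Set Γk) ∩ {g | ∀ p, (F p : Γk → k) g = 0} from Set.ext fun g =>
      and_congr_right fun _ => ⟨fun h p => by
        obtain ⟨c, hc⟩ := Submodule.mem_span_singleton.mp (h p.1.1 p.1.2.1 p.2.1)
        rw [hF, ← hc, map_smul, p.2.2, smul_zero], fun h b v hv => by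
        by_contra hne
        obtain ⟨f, hf0, hf⟩ := Submodule.exists_dual_map_eq_bot_of_notMem hne inferInstance
        have hfv : f v = 0 := by
          have := Submodule.mem_map_of_mem (f := f) (Submodule.mem_span_singleton_self v)
          rwa [hf, Submodule.mem_bot] at this
        exact hf0 ((hF ⟨(b, v, f), hv, hfv⟩ g).symm.trans (h _))⟩]
    exact hK.1.inter (ZPts.isCl_setOf_forall F)
  have hsurj : ∀ z ∈ K, ∃ t ∈ T, ∀ j < D.n, D.χ j t = D.χ j z := fun z hz => by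
    obtain ⟨s, hs, hss, he, -⟩ := D.exists_ss_same hKH hK.1 hz
    exact ⟨s, hmemT s hs hss, he⟩
  obtain ⟨T₀, hle, hcc, hbig⟩ := exists_component T hTcl
  have hTK : T ≤ K := fun x hx => hx.1
  refine ⟨T, hTK, ⟨?_, hcomm, hTss⟩, hsurj⟩
  have heq : T = T₀ := le_antisymm (fun x hx => by
    obtain ⟨y, hy, he⟩ := D.exists_pt_component hKH hK hTK hTcl hle hcc hbig hsurj (hTK hx)
    rw [D.eq_of_commute hinj (hKH (hTK hx)) (hKH (hTK (hle hy))) (hTss x hx) (hTss _ (inv_mem (hle hy)))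
      (hcomm x hx y (hle hy)) fun j hj => (he j hj).symm]
    exact hy) hle
  rw [heq]
  exact hcc

/-- A torus with all the characters of a connected subgroup. -/
theorem exists_tor_surj (hinj : Function.Injective (ptAct (k := k) (A := A) V)) {S : Set Γk}
    (hS : ZPts.IsCl (ptR k A) S) : ∀ K : Subgroup Γk, (K : Set Γk) = S → K ≤ H → IsCC K →
      ∃ T : Subgroup Γk, T ≤ K ∧ IsTor T ∧ ∀ z ∈ K, ∃ t ∈ T, ∀ j < D.n, D.χ j t = D.χ j z := by
  refine ZPts.cl_induction (R := ptR k A) (fun S => ∀ K : Subgroup Γk, (K : Set Γk) = S → K ≤ H → IsCC K →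
    ∃ T : Subgroup Γk, T ≤ K ∧ IsTor T ∧ ∀ z ∈ K, ∃ t ∈ T, ∀ j < D.n, D.χ j t = D.χ j z) (fun S _ ih => ?_) hS
  intro K hKS hKH hK
  classical
  by_cases hcen : ∀ t ∈ K, IsSSPt t → (∃ m : ℕ, (m : k) ≠ 0 ∧ t ^ m = 1) → ∀ z ∈ K, Commute z t
  · exact D.exists_tor_of_central hinj hKH hK hcen
  push Not at hcen
  obtain ⟨t, htK, hts, ⟨m, hm, htm⟩, z₀, hz₀, hnc⟩ := hcen
  let C : Subgroup Γk := K ⊓ Subgroup.centralizer {t}
  have hmemC : ∀ x, x ∈ C ↔ x ∈ K ∧ x * t = t * x := fun x => by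
    rw [Subgroup.mem_inf, Subgroup.mem_centralizer_singleton_iff]
  have hCcl : ZPts.IsCl (ptR k A) (C : Set Γk) := by
    let F : A → ptR k A := fun a =>
      ⟨_, sub_mem (mem_ptR_mul (ptEval_mem a) t).1 (mem_ptR_mul (ptEval_mem a) t).2⟩
    rw [show (C : Set Γk) = (K : Set Γk) ∩ {g | ∀ a, (F a : Γk → k) g = 0} from Set.ext fun g =>
      (hmemC g).trans (and_congr_right fun _ => ⟨fun h a => by simp [F, h], fun h =>
        ofConv_injective (AlgHom.ext fun a => sub_eq_zero.mp (h a))⟩)]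
    exact hK.1.inter (ZPts.isCl_setOf_forall F)
  obtain ⟨Z, hZC, hZ, hbig⟩ := exists_component C hCcl
  have hCK : C ≤ K := inf_le_left
  have hsurjC : ∀ z ∈ K, ∃ p ∈ C, ∀ j < D.n, D.χ j p = D.χ j z := by
    intro z hz
    have hfin : IsOfFinOrder t := isOfFinOrder_iff_pow_eq_one.mpr
      ⟨m, Nat.pos_of_ne_zero fun h => hm (by rw [h, Nat.cast_zero]), htm⟩
    haveI : Finite (Subgroup.zpowers t) := hfin.finite_zpowers.to_subtype
    haveI := Fintype.ofFinite (Subgroup.zpowers t)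
    have hE : (Fintype.card (Subgroup.zpowers t) : k) ≠ 0 := fun h => hm (by
      obtain ⟨c, hc⟩ := orderOf_dvd_of_pow_eq_one htm
      rw [hc, ← Nat.card_zpowers, Nat.card_eq_fintype_card, Nat.cast_mul, h, zero_mul])
    have hle : Subgroup.zpowers t ≤ K := Subgroup.zpowers_le.mpr htK
    obtain ⟨u, huK, hu, he⟩ := D.exists_conj_fin hinj hKH hK.1 hE (Subgroup.zpowers t).subtype
      ((MulAut.conj z).toMonoidHom.comp (Subgroup.zpowers t).subtype) (fun e => hle e.2)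
      (fun e => mul_mem (mul_mem hz (hle e.2)) (inv_mem hz)) fun j hj e => by
        show D.χ j (e : Γk) = D.χ j (z * (e : Γk) * z⁻¹)
        rw [D.χ_mul hj (hKH (mul_mem hz (hle e.2))) (hKH (inv_mem hz)), D.χ_mul hj (hKH hz) (hKH (hle e.2)),
          D.χ_inv hj (hKH hz)]
        field_simp [D.χ_ne_zero hj (hKH hz)]
    have het : u * t * u⁻¹ = z * t * z⁻¹ := he ⟨t, Subgroup.mem_zpowers t⟩
    refine ⟨u⁻¹ * z, (hmemC _).mpr ⟨mul_mem (inv_mem huK) hz, ?_⟩, fun j hj => ?_⟩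
    · calc u⁻¹ * z * t = u⁻¹ * (z * t * z⁻¹) * z := by group
        _ = _ := by rw [← het]; group
    · rw [D.χ_mul hj (hKH (inv_mem huK)) (hKH hz), D.χ_inv hj (hKH huK), hu j hj, inv_one, one_mul]
  have hlt : (Z : Set Γk) ⊂ S := hKS ▸ ⟨fun x hx => hCK (hZC hx), fun h => hnc ((hmemC z₀).mp (hZC (h hz₀))).2⟩
  obtain ⟨T, hT, hT', hTs⟩ := ih Z hZ.1 hlt Z rfl ((hZC.trans hCK).trans hKH) hZ
  refine ⟨T, hT.trans (hZC.trans hCK), hT', fun z hz => ?_⟩
  obtain ⟨y, hy, he⟩ := D.exists_pt_component hKH hK hCK hCcl hZC hZ hbig hsurjC hz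
  obtain ⟨t', ht', he'⟩ := hTs y hy
  exact ⟨t', ht', fun j hj => (he' j hj).trans (he j hj)⟩

/-- Every torus is conjugate into a torus with all the characters. -/
theorem exists_conj_tor (hinj : Function.Injective (ptAct (k := k) (A := A) V)) (hH : IsCC H) {T : Subgroup Γk}
    (hTH : T ≤ H) (hT : IsTor T) (hTsurj : ∀ z ∈ H, ∃ t ∈ T, ∀ j < D.n, D.χ j t = D.χ j z) {S : Subgroup Γk}
    (hSH : S ≤ H) (hS : IsTor S) : ∃ u ∈ H, S ≤ cjSub u T := by
  classical
  obtain ⟨Ts, hTs, ⟨m, hm, hTm⟩, hsep⟩ := D.exists_sep_set hinj hSH hS.1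
  have hm0 : m ≠ 0 := fun h => hm (by rw [h, Nat.cast_zero])
  let E : Subgroup Γk :=
    { carrier := {x | x ∈ S ∧ x ^ m = 1}
      one_mem' := ⟨S.one_mem, one_pow m⟩
      mul_mem' := fun {x y} hx hy => ⟨mul_mem hx.1 hy.1, by
        rw [(hS.2.1 x hx.1 y hy.1).mul_pow, hx.2, hy.2, one_mul]⟩
      inv_mem' := fun {x} hx => ⟨inv_mem hx.1, by rw [inv_pow, hx.2, inv_one]⟩ }
  have hEH : ∀ e : E, (e : Γk) ∈ H := fun e => hSH e.2.1
  haveI : Finite E := by
    have hχ : ∀ (e : E) (j : Fin D.n), D.χ j (e : Γk) ∈ (Polynomial.nthRoots m (1 : k)).toFinset := fun e j => by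
      rw [Multiset.mem_toFinset, Polynomial.mem_nthRoots (Nat.pos_of_ne_zero hm0)]
      have e1 : ∀ q : ℕ, D.χ j ((e : Γk) ^ q) = D.χ j (e : Γk) ^ q := fun q => by
        induction q with
        | zero => simp [D.χ_one j.2]
        | succ q ih => rw [pow_succ, D.χ_mul j.2 (pow_mem (hEH e) q) (hEH e), ih, pow_succ]
      rw [← e1, e.2.2, D.χ_one j.2]
    refine Finite.of_injective (fun e (j : Fin D.n) => (⟨_, hχ e j⟩ : (Polynomial.nthRoots m (1 : k)).toFinset))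
      fun a b hab => Subtype.ext ?_
    exact D.eq_of_commute hinj (hEH a) (hEH b) (hS.2.2 _ a.2.1) (hS.2.2 _ (inv_mem b.2.1)) (hS.2.1 _ a.2.1 _ b.2.1)
      fun j hj => congrArg Subtype.val (congrFun hab ⟨j, hj⟩)
  haveI := Fintype.ofFinite E
  have hE : (Fintype.card E : k) ≠ 0 := fun h => by
    rcases CharP.char_is_prime_or_zero k (ringChar k) with hp | hp
    · haveI := Fact.mk hp
      obtain ⟨e, he⟩ := exists_prime_orderOf_dvd_card (ringChar k) ((CharP.cast_eq_zero_iff k (ringChar k) _).mp h)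
      have h1 : e ^ m = 1 := Subtype.ext e.2.2
      have := orderOf_dvd_of_pow_eq_one h1
      rw [he] at this
      exact hm ((CharP.cast_eq_zero_iff k (ringChar k) m).mpr this)
    · haveI := (CharP.ringChar_zero_iff_CharZero k).mp hp
      exact Fintype.card_ne_zero (Nat.cast_eq_zero.mp h)
  choose lift hliftT hlift using fun e : E => hTsurj _ (hEH e)
  have huniq : ∀ x ∈ T, ∀ y ∈ T, (∀ j < D.n, D.χ j x = D.χ j y) → x = y := fun x hx y hy =>
    D.eq_of_commute hinj (hTH hx) (hTH hy) (hT.2.2 x hx) (hT.2.2 _ (inv_mem hy)) (hT.2.1 x hx y hy)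
  let β : E →* Γk :=
    { toFun := lift
      map_one' := huniq _ (hliftT 1) _ T.one_mem fun j hj => hlift 1 j hj
      map_mul' := fun a b => huniq _ (hliftT _) _ (mul_mem (hliftT a) (hliftT b)) fun j hj => by
        rw [hlift _ j hj, D.χ_mul hj (hTH (hliftT a)) (hTH (hliftT b)), hlift a j hj, hlift b j hj]
        exact D.χ_mul hj (hEH a) (hEH b) }
  obtain ⟨u, huH, hu, he⟩ := D.exists_conj_fin hinj le_rfl hH.1 hE β E.subtype (fun e => hTH (hliftT e)) hEH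
    fun j hj e => hlift e j hj
  refine ⟨u, huH, fun s hs => ?_⟩
  have hT₁ := hT.cj u
  have hTs₁ : ∀ t ∈ Ts, t ∈ cjSub u T := fun t ht => by
    have this : u * lift ⟨t, (hTs t ht).1, hTm t ht⟩ * u⁻¹ = t := he ⟨t, (hTs t ht).1, hTm t ht⟩
    rw [mem_cjSub]
    have h2 : u⁻¹ * t * u = lift ⟨t, (hTs t ht).1, hTm t ht⟩ := by
      calc u⁻¹ * t * u = u⁻¹ * (u * lift ⟨t, (hTs t ht).1, hTm t ht⟩ * u⁻¹) * u := by rw [this]
        _ = _ := by group
    rw [h2]
    exact hliftT _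
  obtain ⟨t, ht, hte⟩ := hTsurj s (hSH hs)
  have hy : u * t * u⁻¹ ∈ cjSub u T := by
    rw [mem_cjSub, show u⁻¹ * (u * t * u⁻¹) * u = t by group]; exact ht
  have hyH : u * t * u⁻¹ ∈ H := mul_mem (mul_mem huH (hTH ht)) (inv_mem huH)
  have hc : Commute (u * t * u⁻¹) s := D.commute_of_sep hinj (fun x hx => ⟨hSH (hTs x hx).1, (hTs x hx).2⟩)
    (fun a ha b hb => hS.2.1 a (hTs a ha).1 b (hTs b hb).1) (hSH hs) (hS.2.2 s hs)
    (fun x hx => hS.2.1 s hs x (hTs x hx).1) (fun i hi j hj h => hsep i hi j hj h s hs)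
    fun x hx => hT₁.2.1 _ hy x (hTs₁ x hx)
  rw [D.eq_of_commute hinj (hSH hs) hyH (hS.2.2 s hs) (hT₁.2.2 _ (inv_mem hy)) hc.symm fun j hj => by
    rw [D.χ_mul hj (mul_mem huH (hTH ht)) (inv_mem huH), D.χ_mul hj huH (hTH ht), D.χ_inv hj huH, hu j hj, hte j hj]
    simp]
  exact hy

end Flag

/-- Tori of a connected solvable group: one torus contains a conjugate of every torus and, with the unipotent points, exhausts the group. -/
theorem exists_tori {H : Subgroup Γk} (hH : IsCC H) (hsol : Group.IsSolvable H) :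
    ∃ T : Subgroup Γk, T ≤ H ∧ IsTor T ∧ (∀ S : Subgroup Γk, S ≤ H → IsTor S → ∃ u ∈ H, S ≤ cjSub u T) ∧
      ∀ h ∈ H, ∃ t ∈ T, IsUnPt (t⁻¹ * h) := by
  obtain ⟨U, hU, hUf, hgen⟩ := exists_faithful (k := k) (A := A)
  have hinj := ptAct_injective_of_generators hU hgen
  letI := ComodSub.Comod.restr (HopfRep.Comod.regular k A) U hU
  haveI := hUf
  obtain ⟨D⟩ := exists_flag_pts (V := U) hH.2 hsol
  obtain ⟨T, hTH, hT, hsurj⟩ := D.exists_tor_surj hinj hH.1 H rfl le_rfl hH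
  refine ⟨T, hTH, hT, fun S hSH hS => D.exists_conj_tor hinj hH hTH hT hsurj hSH hS, fun h hh => ?_⟩
  obtain ⟨t, ht, he⟩ := hsurj h hh
  refine ⟨t, ht, isUnPt_of_faithful U hinj (D.isNilpotent_of_χ (mul_mem (inv_mem (hTH ht)) hh) fun j hj => ?_)⟩
  rw [D.χ_mul hj (inv_mem (hTH ht)) hh, D.χ_inv hj (hTH ht), he j hj, inv_mul_cancel₀ (D.χ_ne_zero hj hh)]

end Groth.Agent.AGFHopf
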