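import Groth.Agent.AGFHopf.Jordan
import Groth.Agent.AGFHopf.PGrp
import Mathlib.RingTheory.Polynomial.Pochhammer
import Mathlib.LinearAlgebra.Eigenspace.Semisimple
import Mathlib.Algebra.CharP.Lemmas

/-!
# Semisimple and unipotent points; Jordan parts and roots inside closed subgroups
-/

universe u v w

open TensorProduct WithConv Polynomial

namespace Groth.Agent.AGFHopf

open Groth.Agent.ComodLib

variable {k : Type u} [Field k] {A : Type v} [CommRing A] [HopfAlgebra k A]

local notation "Γk" => WithConv (A →ₐ[k] k)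

/-- A semisimple point. -/
def IsSSPt (g : Γk) : Prop := ∀ (V : Type v) [AddCommGroup V] [Module k V] [HopfRep.Comod k A V],
  Module.Finite k V → (ptAct V g).IsSemisimple

/-- A unipotent point. -/
def IsUnPt (g : Γk) : Prop := ∀ (V : Type v) [AddCommGroup V] [Module k V] [HopfRep.Comod k A V],
  Module.Finite k V → IsNilpotent (ptAct V g - 1)

theorem apply_ptAct (h g : Γk) (a : A) : h.ofConv (ptAct A g a) = (h * g).ofConv a := by
  show h.ofConv (slice g.ofConv.toLinearMap (Coalgebra.comul (R := k) a)) =
    Algebra.TensorProduct.lmul' k (Algebra.TensorProduct.map h.ofConv g.ofConv (Coalgebra.comul (R := k) a))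
  induction Coalgebra.comul (R := k) a using TensorProduct.induction_on with
  | zero => simp
  | tmul p q => simp [mul_comm]
  | add p q hp hq => simp only [map_add, hp, hq]

variable [PerfectField k] [Algebra.FiniteType k A]
variable (V : Type v) [AddCommGroup V] [Module k V] [HopfRep.Comod k A V] [Module.Finite k V]

/-- Semisimplicity is detected on a faithful representation. -/
theorem isSSPt_of_faithful (hinj : Function.Injective (ptAct (k := k) (A := A) V)) {g : Γk}
    (h : (ptAct V g).IsSemisimple) : IsSSPt g := by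
  obtain ⟨gs, hgs⟩ := exists_pt_ssPart g
  have e : gs = g := hinj (by
    rw [hgs V]
    exact IsJordan.ssPart_eq (u := 1) (isUnit_ptAct V g)
      ⟨h, by simp, Commute.one_right _, mul_one _⟩)
  intro W _ _ _ hW
  obtain ⟨u, hu⟩ := exists_isJordan_ssPart (isUnit_ptAct W g)
  rw [← e, hgs W]
  exact hu.1

/-- Unipotence is detected on a faithful representation. -/
theorem isUnPt_of_faithful (hinj : Function.Injective (ptAct (k := k) (A := A) V)) {g : Γk}
    (h : IsNilpotent (ptAct V g - 1)) : IsUnPt g := by
  obtain ⟨gs, hgs⟩ := exists_pt_ssPart g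
  have e : gs = 1 := hinj (by
    rw [hgs V, map_one]
    exact IsJordan.ssPart_eq (u := ptAct V g) (isUnit_ptAct V g)
      ⟨Module.End.isSemisimple_id, h, Commute.one_left _, one_mul _⟩)
  intro W _ _ _ hW
  obtain ⟨u, hu⟩ := exists_isJordan_ssPart (isUnit_ptAct W g)
  have h1 : ptAct W g = u := by rw [← hu.2.2.2, ← hgs W, e, map_one, one_mul]
  rw [h1]
  exact hu.2.1

/-- Jordan parts of a point of a closed subgroup lie in the subgroup. -/
theorem exists_ss_mem {H : Subgroup Γk} (hH : ZPts.IsCl (ptR k A) (H : Set Γk)) {g : Γk} (hg : g ∈ H) :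
    ∃ gs gu : Γk, gs ∈ H ∧ gu ∈ H ∧ gs * gu = g ∧ Commute gs gu ∧ IsSSPt gs ∧ IsUnPt gu ∧
      ∀ z, Commute z g → Commute z gs := by
  obtain ⟨gs, hgs⟩ := exists_pt_ssPart g
  obtain ⟨U, hU, hUf, hgen⟩ := exists_faithful (k := k) (A := A)
  have hinj := ptAct_injective_of_generators hU hgen
  letI := ComodSub.Comod.restr (HopfRep.Comod.regular k A) U hU
  haveI := hUf
  obtain ⟨u, hu⟩ := exists_isJordan_ssPart (isUnit_ptAct U g)
  have hmem : gs ∈ H := by
    refine hH fun ⟨_, a, rfl⟩ hFv => ?_
    obtain ⟨W, hWf, haW, hWs⟩ := exists_finite_subcomod_mem (k := k) (C := A) (V := A) a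
    letI := ComodSub.Comod.restr (HopfRep.Comod.regular k A) W hWs
    haveI := hWf
    have hsub : ∀ (x : Γk) (w : W), (ptAct W x w : A) = ptAct A x w := fun x w =>
      ptAct_comm (ComodSub.isComodHom_subtype _ W hWs) x w
    let W' : Submodule k W :=
      { carrier := {w | ∀ h ∈ H, h.ofConv (w : A) = 0}
        add_mem' := fun {p q} hp hq h hh => by simp [hp h hh, hq h hh]
        zero_mem' := fun h _ => by simp
        smul_mem' := fun c p hp h hh => by simp [hp h hh] }
    have hst : ∀ w ∈ W', ptAct W g w ∈ W' := fun w hw h hh => by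
      rw [hsub, apply_ptAct]
      exact hw _ (mul_mem hh hg)
    let α : Module.End k W' := (ptAct W g).restrict hst
    have hα : IsUnit α := by
      refine (Module.End.isUnit_iff α).mpr ⟨?_, ?_⟩
      · intro p q hpq
        exact Subtype.ext (((Module.End.isUnit_iff _).mp (isUnit_ptAct W g)).1 (congrArg Subtype.val hpq))
      · refine (LinearMap.injective_iff_surjective (K := k) (V := W')).mp fun p q hpq => ?_
        exact Subtype.ext (((Module.End.isUnit_iff _).mp (isUnit_ptAct W g)).1 (congrArg Subtype.val hpq))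
    have key := comp_ssPart (V := W') (α := α) hα (isUnit_ptAct W g) W'.subtype
      (LinearMap.ext fun w => show ((α w : W') : W) = ptAct W g (w : W) from rfl)
    have ha' : (⟨a, haW⟩ : W) ∈ W' := fun h hh => hFv h hh
    have e := LinearMap.congr_fun key ⟨_, ha'⟩
    simp only [LinearMap.comp_apply, Submodule.subtype_apply, ← hgs W] at e
    have h0 : (ptAct W gs ⟨a, haW⟩ : W) ∈ W' := e ▸ Subtype.prop _
    show gs.ofConv a = 0
    have := h0 1 (one_mem H)
    rwa [hsub, apply_ptAct, one_mul] at this
  have he : ptAct U (gs⁻¹ * g) = u := by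
    refine (isUnit_ptAct U gs).mul_left_cancel ?_
    rw [← map_mul, mul_inv_cancel_left, hgs U, hu.2.2.2]
  refine ⟨gs, gs⁻¹ * g, hmem, mul_mem (inv_mem hmem) hg, mul_inv_cancel_left _ _, hinj ?_,
    isSSPt_of_faithful U hinj (hgs U ▸ hu.1), isUnPt_of_faithful U hinj (he ▸ hu.2.1), fun z hz => hinj ?_⟩
  · rw [map_mul _ gs (gs⁻¹ * g), map_mul _ (gs⁻¹ * g) gs, he, hgs U]
    exact hu.2.2.1
  · rw [map_mul, map_mul, hgs U]
    exact comp_ssPart (isUnit_ptAct U g) (isUnit_ptAct U g) _
      (show ptAct U z * ptAct U g = ptAct U g * ptAct U z by rw [← map_mul, ← map_mul, hz.eq])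

omit [PerfectField k] [Algebra.FiniteType k A] in
/-- The values at powers of a unipotent point are polynomial in the exponent. -/
theorem exists_pow_poly [CharZero k] {x : Γk} (hx : IsUnPt x) (a : A) :
    ∃ p : k[X], ∀ n : ℕ, p.eval (n : k) = (x ^ n).ofConv a := by
  obtain ⟨W, hWf, haW, hWs⟩ := exists_finite_subcomod_mem (k := k) (C := A) (V := A) a
  letI := ComodSub.Comod.restr (HopfRep.Comod.regular k A) W hWs
  haveI := hWf
  have hval : ∀ y : Γk, y.ofConv a = Coalgebra.counit (R := k) ((ptAct W y ⟨a, haW⟩ : W) : A) := fun y => by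
    rw [show ((ptAct W y ⟨a, haW⟩ : W) : A) = ptAct A y a from
      ptAct_comm (ComodSub.isComodHom_subtype _ W hWs) y _, counit_ptAct]
  obtain ⟨N, hN⟩ := hx W hWf
  set X₀ : Module.End k W := ptAct W x - 1
  let c : ℕ → k := fun i => Coalgebra.counit (R := k) (((X₀ ^ i) ⟨a, haW⟩ : W) : A)
  refine ⟨∑ i ∈ Finset.range N, C (c i / (i.factorial : k)) * descPochhammer k i, fun n => ?_⟩
  have h1 : ptAct W (x ^ n) = ∑ i ∈ Finset.range N, n.choose i • X₀ ^ i := by
    rw [map_pow, show ptAct W x = X₀ + 1 from (sub_add_cancel (ptAct W x) 1).symm, Commute.add_pow (Commute.one_right _)]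
    simp only [one_pow, mul_one, ← nsmul_eq_mul', mul_comm]
    rcases le_or_gt (n + 1) N with h | h
    · exact Finset.sum_subset (Finset.range_mono h) fun i _ hi => by
        rw [Nat.choose_eq_zero_of_lt (by simpa using hi), zero_smul]
    · refine (Finset.sum_subset (Finset.range_mono h.le) fun i _ hi => ?_).symm
      rw [pow_eq_zero_of_le (by simpa using hi) hN, smul_zero]
  rw [hval, h1, LinearMap.sum_apply, Submodule.coe_sum, map_sum, Polynomial.eval_finsetSum]
  refine Finset.sum_congr rfl fun i _ => ?_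
  rw [eval_mul, eval_C, ← Nat.cast_smul_eq_nsmul k, LinearMap.smul_apply, Submodule.coe_smul, map_smul, smul_eq_mul, descPochhammer_eval_eq_descFactorial,
    Nat.descFactorial_eq_factorial_mul_choose, Nat.cast_mul]
  have : (i.factorial : k) ≠ 0 := Nat.cast_ne_zero.mpr i.factorial_ne_zero
  field_simp
  ring

omit [PerfectField k] in
/-- Roots of order prime to the characteristic of unipotent points in closed subgroups. -/
theorem exists_root_mem {H : Subgroup Γk} (hH : ZPts.IsCl (ptR k A) (H : Set Γk)) {x : Γk} (hxH : x ∈ H)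
    (hx : IsUnPt x) {m : ℕ} (hm : (m : k) ≠ 0) : ∃ y ∈ H, y ^ m = x := by
  rcases CharP.exists k with ⟨p, hp⟩
  rcases CharP.char_is_prime_or_zero k p with hpp | rfl
  · haveI : Fact p.Prime := ⟨hpp⟩
    obtain ⟨U, hU, hUf, hgen⟩ := exists_faithful (k := k) (A := A)
    have hinj := ptAct_injective_of_generators hU hgen
    letI := ComodSub.Comod.restr (HopfRep.Comod.regular k A) U hU
    obtain ⟨N, hN⟩ := hx U hUf
    have hord : x ^ p ^ N = 1 := hinj (by
      haveI : CharP (Module.End k U) p ∨ Subsingleton (Module.End k U) := by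
        rcases subsingleton_or_nontrivial (Module.End k U) with h | h
        · exact Or.inr h
        · exact Or.inl (charP_of_injective_algebraMap (algebraMap k (Module.End k U)).injective p)
      rcases this with h | h
      · haveI := h
        rw [map_pow, map_one, show ptAct U x = (ptAct U x - 1) + 1 from (sub_add_cancel (ptAct U x) 1).symm,
          add_pow_char_pow_of_commute p (n := N) (Commute.one_right _), one_pow,
          pow_eq_zero_of_le (Nat.lt_pow_self hpp.one_lt).le hN, zero_add]
      · exact Subsingleton.elim _ _)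
    have hcop : m.Coprime (p ^ N) := Nat.Coprime.pow_right N <| Nat.coprime_comm.mp <|
      hpp.coprime_iff_not_dvd.mpr fun hd => hm ((CharP.cast_eq_zero_iff k p m).mpr hd)
    refine ⟨x ^ m.gcdA (p ^ N), zpow_mem hxH _, ?_⟩
    have hb : (1 : ℤ) = m * m.gcdA (p ^ N) + (p ^ N : ℕ) * m.gcdB (p ^ N) := by
      rw [← Nat.gcd_eq_gcd_ab, hcop.gcd_eq_one]; norm_num
    rw [← zpow_natCast, ← zpow_mul, mul_comm, show (m : ℤ) * m.gcdA (p ^ N) = 1 - (p ^ N : ℕ) * m.gcdB (p ^ N) by linarith,
      zpow_sub, zpow_one, zpow_mul, zpow_natCast, hord, one_zpow, inv_one, mul_one]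
  · haveI : CharZero k := CharP.charP_to_charZero k
    choose p hp using exists_pow_poly hx
    have hext : ∀ {q r : k[X]}, (∀ n : ℕ, q.eval (n : k) = r.eval (n : k)) → q = r := fun h =>
      Polynomial.eq_of_infinite_eval_eq _ _ ((Set.infinite_range_of_injective Nat.cast_injective).mono
        (Set.range_subset_iff.mpr h))
    let P : A →ₐ[k] k[X] := AlgHom.ofLinearMap
      { toFun := p
        map_add' := fun a b => hext fun n => by simp [hp]
        map_smul' := fun c a => hext fun n => by simp [hp] }
      (hext fun n => by simp [hp]) (fun a b => hext fun n => by simp [hp])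
    have hev : ∀ n : ℕ, (Polynomial.aeval (n : k)).comp P = (x ^ n).ofConv := fun n => AlgHom.ext fun a => by
      show (Polynomial.aeval (n : k)) (p a) = _
      rw [Polynomial.coe_aeval_eq_eval, hp]
    let y : Γk := toConv ((Polynomial.aeval ((m : k)⁻¹)).comp P)
    refine ⟨y, hH fun ⟨_, a, rfl⟩ hFv => ?_, ofConv_injective (AlgHom.ext fun a => ?_)⟩
    · show Polynomial.aeval ((m : k)⁻¹) (p a) = 0
      rw [show p a = 0 from hext fun n => by
        rw [hp, eval_zero]; exact hFv _ (pow_mem hxH n), map_zero]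
    · have hcomp : ∀ (φ : k[X] →ₐ[k] k) (j : ℕ),
          toConv (φ.comp ((toConv P : WithConv (A →ₐ[k] k[X])) ^ j).ofConv) = (toConv (φ.comp P)) ^ j := fun φ j => by
        induction j with
        | zero => exact ofConv_injective (AlgHom.ext fun b => by simpa using φ.commutes (Coalgebra.counit (R := k) b))
        | succ j ih =>
          rw [pow_succ, pow_succ, ← ih]
          exact ofConv_injective (AlgHom.comp_convMul_distrib _ _ _)
      set Q : A →ₐ[k] k[X] := ((toConv P : WithConv (A →ₐ[k] k[X])) ^ m).ofConv with hQ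
      have hQa : Q a = (p a).comp (C (m : k) * Polynomial.X) := hext fun n => by
        have e := AlgHom.congr_fun (congrArg WithConv.ofConv (hcomp (Polynomial.aeval (n : k)) m)) a
        rw [hev, toConv_ofConv, ← pow_mul] at e
        simp only [eval_comp, eval_mul, eval_C, eval_X, ← Nat.cast_mul, hp, mul_comm m n]
        rw [← Polynomial.coe_aeval_eq_eval]
        exact e
      have e := AlgHom.congr_fun (congrArg WithConv.ofConv (hcomp (Polynomial.aeval ((m : k)⁻¹)) m)) a
      show (y ^ m).ofConv a = _
      rw [show (y ^ m).ofConv a = _ from e.symm]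
      show Polynomial.aeval ((m : k)⁻¹) (Q a) = _
      rw [hQa, Polynomial.coe_aeval_eq_eval, eval_comp, eval_mul, eval_C, eval_X, mul_inv_cancel₀ hm,
        ← Nat.cast_one, hp, pow_one]

end Groth.Agent.AGFHopf
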