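import Groth.Agent.AGFHopf.SchSub
import Groth.Prelude.Def_AGF
import Mathlib.GroupTheory.Solvable

/-!
# Solvability of a reduced group scheme is detected on rational points
-/

universe u

open CategoryTheory AlgebraicGeometry MonoidalCategory CartesianMonoidalCategory MonObj GrpObj TensorProduct
open Groth.Agent.GrpSchLib.Kunneth
open scoped commutatorElement

namespace Groth.Agent.AGFHopf

section Word

variable (Γ : Type*) [Group Γ]

/-- The values of the iterated commutator. -/
def itSet : ℕ → Set Γ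
  | 0 => Set.univ
  | n + 1 => Set.image2 (fun a b => ⁅a, b⁆) (itSet n) (itSet n)

variable {Γ}

theorem conj_itSet : ∀ (n : ℕ) (g v : Γ), v ∈ itSet Γ n → g * v * g⁻¹ ∈ itSet Γ n
  | 0, _, _, _ => Set.mem_univ _
  | n + 1, g, _, ⟨a, ha, b, hb, rfl⟩ =>
    ⟨g * a * g⁻¹, conj_itSet n g a ha, g * b * g⁻¹, conj_itSet n g b hb, by
      simp only [commutatorElement_def]; group⟩

theorem itSet_subset_derived : ∀ n : ℕ, itSet Γ n ⊆ (derivedSeries Γ n : Set Γ)
  | 0 => fun _ _ => Subgroup.mem_top _
  | n + 1 => by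
    rintro _ ⟨a, ha, b, hb, rfl⟩
    rw [derivedSeries_succ]
    exact Subgroup.commutator_mem_commutator (itSet_subset_derived n ha) (itSet_subset_derived n hb)

theorem derived_le_itSet : ∀ n : ℕ, derivedSeries Γ n ≤ Subgroup.closure (itSet Γ n)
  | 0 => fun g _ => Subgroup.subset_closure (Set.mem_univ g)
  | n + 1 => by
    rw [derivedSeries_succ]
    refine (Subgroup.commutator_mono (derived_le_itSet n) (derived_le_itSet n)).trans ?_
    set N := Subgroup.closure (itSet Γ (n + 1))
    haveI : N.Normal := ⟨fun v hv g => by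
      induction hv using Subgroup.closure_induction with
      | mem v hv => exact Subgroup.subset_closure (conj_itSet (n + 1) g v hv)
      | one => simp
      | mul a b _ _ ha hb =>
        rw [show g * (a * b) * g⁻¹ = g * a * g⁻¹ * (g * b * g⁻¹) by group]
        exact mul_mem ha hb
      | inv a _ ha =>
        rw [show g * a⁻¹ * g⁻¹ = (g * a * g⁻¹)⁻¹ by group]
        exact inv_mem ha⟩
    rw [Subgroup.commutator_le]
    intro a ha b hb
    let q := QuotientGroup.mk' N
    have hq : ∀ v ∈ itSet Γ n, ∀ w ∈ itSet Γ n, Commute (q v) (q w) := fun v hv w hw => by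
      apply commutatorElement_eq_one_iff_mul_comm.mp
      rw [← map_commutatorElement, ← MonoidHom.mem_ker, QuotientGroup.ker_mk']
      exact Subgroup.subset_closure ⟨v, hv, w, hw, rfl⟩
    have hqa : ∀ w ∈ itSet Γ n, Commute (q a) (q w) := fun w hw => by
      induction ha using Subgroup.closure_induction with
      | mem v hv => exact hq v hv w hw
      | one => rw [map_one]; exact Commute.one_left _
      | mul v v' _ _ h h' => rw [map_mul]; exact Commute.mul_left h h'
      | inv v _ h => rw [map_inv]; exact Commute.inv_left h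
    have hab : Commute (q a) (q b) := by
      induction hb using Subgroup.closure_induction with
      | mem v hv => exact hqa v hv
      | one => rw [map_one]; exact Commute.one_right _
      | mul v v' _ _ h h' => rw [map_mul]; exact Commute.mul_right h h'
      | inv v _ h => rw [map_inv]; exact Commute.inv_right h
    rw [← QuotientGroup.ker_mk' N, MonoidHom.mem_ker, map_commutatorElement]
    exact commutatorElement_eq_one_iff_mul_comm.mpr hab

end Word

section Scheme

variable {k : Type u} [Field k] {H : Over (Spec (CommRingCat.of k))} [GrpObj H]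

/-- The iterated commutator is a morphism from a smooth affine scheme. -/
theorem exists_itComm [IsAffine H.left] [Smooth H.hom] (n : ℕ) :
    ∃ (W : Over (Spec (CommRingCat.of k))) (_ : IsAffine W.left) (_ : Smooth W.hom) (w : W ⟶ H),
      ∀ X : Over (Spec (CommRingCat.of k)), itSet (X ⟶ H) n = Set.range fun x : X ⟶ W => x ≫ w := by
  induction n with
  | zero => exact ⟨H, inferInstance, inferInstance, 𝟙 H, fun X => (Set.range_eq_univ.mpr fun g => ⟨g, Category.comp_id g⟩).symm⟩
  | succ n ih =>
    obtain ⟨W, hW, hW', w, hw⟩ := ih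
    refine ⟨W ⊗ W, inferInstanceAs (IsAffine (Limits.pullback W.hom W.hom)),
      inferInstanceAs (Smooth (Limits.pullback.fst W.hom W.hom ≫ W.hom)), ⁅fst W W ≫ w, snd W W ≫ w⁆, fun X => ?_⟩
    have e : ∀ x : X ⟶ W ⊗ W, x ≫ ⁅fst W W ≫ w, snd W W ≫ w⁆ = ⁅(x ≫ fst W W) ≫ w, (x ≫ snd W W) ≫ w⁆ := fun x => by
      simp only [commutatorElement_def, MonObj.comp_mul, GrpObj.comp_inv, Category.assoc]
    rw [itSet, hw X]
    ext v
    constructor
    · rintro ⟨_, ⟨a, rfl⟩, _, ⟨b, rfl⟩, rfl⟩
      exact ⟨lift a b, by show lift a b ≫ _ = _; rw [e, lift_fst, lift_snd]⟩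
    · rintro ⟨x, rfl⟩
      exact ⟨_, ⟨x ≫ fst W W, rfl⟩, _, ⟨x ≫ snd W W, rfl⟩, (e x).symm⟩

/-- A smooth affine group scheme with solvable group of rational points is solvable. -/
theorem isSolvableGrp_of_points [IsAlgClosed k] [IsAffine H.left] [Smooth H.hom]
    (hsol : Group.IsSolvable (VecGrp.pt k k ⟶ H)) : Red.IsSolvableGrp H := by
  obtain ⟨n, hn⟩ := hsol.solvable
  refine ⟨n, fun X => eq_bot_iff.mpr ((derived_le_itSet n).trans ?_)⟩
  obtain ⟨W, hW, hW', w, hw⟩ := exists_itComm (H := H) n
  rw [Subgroup.closure_le, hw X]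
  rintro _ ⟨x, rfl⟩
  suffices e : w = 1 by rw [SetLike.mem_coe, Subgroup.mem_bot]; show x ≫ w = 1; rw [e, MonObj.comp_one]
  haveI : IsReduced W.left := Groth.Agent.GrpSchLib.isReduced_of_smooth_field W.hom
  refine hom_ext_fn (AlgHom.ext fun f => AGF27.eq_of_forall_pt fun g => ?_)
  have hg : g ≫ w = 1 := by
    have := itSet_subset_derived (Γ := VecGrp.pt k k ⟶ H) n ((hw _).ge ⟨g, rfl⟩)
    rwa [hn, SetLike.mem_coe, Subgroup.mem_bot] at this
  rw [← AlgHom.comp_apply, ← AlgHom.comp_apply, ← AGF27.pullFn_comp, ← AGF27.pullFn_comp, hg, MonObj.comp_one]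

end Scheme

end Groth.Agent.AGFHopf
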