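import Groth.Agent.AGFHopf.SchBorel
import Groth.Agent.AGFHopf.PBorEx
import Groth.Agent.GrpSchLib.AffineHopf
import Groth.Agent.GrpSchLib.MultTypeBC
import Groth.Agent.MultTransp18.Mono
import Groth.Agent.Sga3xB.MultBasic
import Groth.Agent.AlgGrp25.TorusProper
import Groth.Agent.TorusPts.Scheme

/-!
# Tori over an algebraically closed field and tori of rational points
-/

universe u

open CategoryTheory CategoryTheory.Limits AlgebraicGeometry MonoidalCategory CartesianMonoidalCategory MonObj GrpObj TensorProduct WithConv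
open Groth.Agent.GrpSchLib.Kunneth
open scoped Groth.Agent.AGF27

set_option linter.style.haveILetI false

namespace Groth.Agent.AGFHopf

open Groth.Agent.AGF27 (ptConv toPt univPt pullFn_comp pullFn_toPt toPt_pullFn)
open Groth.Agent.GrpSchLib

variable {k : Type u} [Field k]

theorem bc_id {S : Scheme.{u}} (H : Over S) [GrpObj H] : Nonempty (Grp.mk (Red.bc (𝟙 S) H) ≅ Grp.mk H) :=
  ⟨(Functor.mapGrpNatIso Over.pullbackId ≪≫ Functor.mapGrpIdIso).app (Grp.mk H)⟩

/-- A group scheme isomorphic to a split torus is a torus. -/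
theorem isTorus_of_iso {T : Over (Spec (CommRingCat.of k))} [GrpObj T] {r : ℕ}
    (e : Grp.mk T ≅ Grp.mk (AffineHopf.sp k (MonoidAlgebra k (Multiplicative (Fin r → ℤ))))) : Red.IsTorus T := by
  obtain ⟨d⟩ := AffineHopf.nonempty_DS_iso k (Fin r → ℤ)
  refine ⟨Spec (CommRingCat.of k), 𝟙 _, inferInstance, inferInstance,
    fun V hV => ⟨V, hV.isCompact, by simp⟩, fun _ => ⟨⊤, trivial, r, ?_⟩⟩
  obtain ⟨e₁⟩ := MultTypeBC.bc_iso ((⊤ : (Spec (CommRingCat.of k)).Opens).ι ≫ 𝟙 _) (e ≪≫ d)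
  obtain ⟨e₂⟩ := MultTypeBC.bc_DS ((⊤ : (Spec (CommRingCat.of k)).Opens).ι ≫ 𝟙 _) (Fin r → ℤ)
  exact ⟨e₁ ≪≫ e₂⟩

variable [IsAlgClosed k]

/-- Over an algebraically closed field every torus is split. -/
theorem torus_iso {T : Over (Spec (CommRingCat.of k))} [GrpObj T] (hT : Red.IsTorus T) :
    ∃ r : ℕ, Nonempty (Grp.mk T ≅ Grp.mk (AffineHopf.sp k (MonoidAlgebra k (Multiplicative (Fin r → ℤ))))) := by
  haveI : IsAffineHom T.hom := (TransLib.multTypeFT_essFree (Sga3xB.isMultTypeFT_of_isTorus hT)).1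
  haveI : IsAffine T.left := isAffine_of_isAffineHom T.hom
  obtain ⟨L, _, φ, r, ⟨s⟩⟩ := AlgGrp25.TorusProper.exists_split_field hT
  letI : Algebra k L := φ.toAlgebra
  obtain ⟨A, _, _, ⟨t⟩⟩ := AffineHopf.exists_hopf T
  obtain ⟨b⟩ := AffineHopf.nonempty_bc_sp (R := k) L A
  let g : Grp.mk (AffineHopf.sp L (L ⊗[k] A)) ≅ Grp.mk (AffineHopf.sp L (MonoidAlgebra L (Multiplicative (Fin r → ℤ)))) :=
    b.symm.trans (((Over.pullback (Spec.map (CommRingCat.ofHom (algebraMap k L)))).mapGrp.mapIso t).trans s)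
  obtain ⟨e₁⟩ := TorusPts.exists_bialgEquiv g
  obtain ⟨L', _, _, hfin, -, ⟨e⟩⟩ := TorusPts.exists_galois_split L
    (e₁.trans (MonoidAlgebra.domCongrBialgEquiv L L MulEquiv.ulift.symm))
  haveI := hfin
  haveI : Algebra.IsIntegral k L' := Algebra.IsIntegral.of_finite k L'
  let σ := RingEquiv.ofBijective (algebraMap k L') IsAlgClosed.algebraMap_bijective_of_isIntegral
  let q := Spec.map (CommRingCat.ofHom (algebraMap k L'))
  let q' : Spec (CommRingCat.of k) ⟶ Spec (CommRingCat.of L') := Spec.map (CommRingCat.ofHom σ.symm.toRingHom)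
  have hq : q' ≫ q = 𝟙 _ := by
    simp only [q, q', ← Spec.map_comp]
    rw [show CommRingCat.ofHom (algebraMap k L') ≫ CommRingCat.ofHom σ.symm.toRingHom = 𝟙 _ from
      CommRingCat.hom_ext (RingHom.ext fun x => σ.symm_apply_apply x), Spec.map_id]
  obtain ⟨b'⟩ := AffineHopf.nonempty_bc_sp (R := k) L' A
  obtain ⟨d'⟩ := AffineHopf.nonempty_DS_iso L' (Fin r → ℤ)
  obtain ⟨d⟩ := AffineHopf.nonempty_DS_iso k (Fin r → ℤ)
  let i₁ : Grp.mk (Red.bc q T) ≅ Grp.mk (Red.DS (Spec (CommRingCat.of L')) (Fin r → ℤ)) :=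
    ((Over.pullback q).mapGrp.mapIso t).symm ≪≫ b' ≪≫
      AffineHopf.spIso ((e.trans (MonoidAlgebra.domCongrBialgEquiv L' L' MulEquiv.ulift)).symm) ≪≫ d'
  obtain ⟨i₂⟩ := MultTypeBC.bc_iso q' i₁
  obtain ⟨i₃⟩ := MultTypeBC.bc_DS q' (Fin r → ℤ)
  obtain ⟨i₄⟩ := MultTypeBC.bc_bc q' q T
  obtain ⟨i₅⟩ := MultTypeBC.bc_congr hq T
  obtain ⟨i₆⟩ := bc_id T
  exact ⟨r, ⟨i₆.symm ≪≫ i₅.symm ≪≫ i₄.symm ≪≫ i₂ ≪≫ i₃ ≪≫ d.symm⟩⟩

section Lattice

/-- A regular function on a split torus vanishing at the torsion points of invertible order is zero. -/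
theorem eq_zero_of_torsion {r : ℕ} (f : MonoidAlgebra k (Multiplicative (Fin r → ℤ)))
    (h : ∀ x : Multiplicative (Fin r → ℤ) →* k, (∃ m : ℕ, (m : k) ≠ 0 ∧ ∀ a, x a ^ m = 1) →
      MonoidAlgebra.lift k k _ x f = 0) : f = 0 := by
  classical
  let G : Submonoid (Multiplicative (Fin r → ℤ) →* k) :=
    { carrier := {x | ∃ m : ℕ, (m : k) ≠ 0 ∧ ∀ a, x a ^ m = 1}
      one_mem' := ⟨1, by simp, fun a => by simp⟩
      mul_mem' := fun {x y} ⟨m, hm, hx⟩ ⟨n, hn, hy⟩ => ⟨m * n, by rw [Nat.cast_mul]; exact mul_ne_zero hm hn,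
        fun a => by rw [MonoidHom.mul_apply, mul_pow, pow_mul, hx, one_pow, _root_.one_mul, mul_comm m, pow_mul, hy, one_pow]⟩ }
  let ev : Multiplicative (Fin r → ℤ) → (G →* k) := fun a => (MonoidHom.eval a).comp G.subtype
  have hev : Function.Injective ev := fun a b hab => by
    by_contra hne
    obtain ⟨i, hi⟩ : ∃ i, Multiplicative.toAdd a i ≠ Multiplicative.toAdd b i := Function.ne_iff.mp fun e => hne e
    set c := Multiplicative.toAdd a i - Multiplicative.toAdd b i with hc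
    obtain ⟨ℓ, hℓ, hℓp⟩ := Nat.exists_infinite_primes (max c.natAbs (ringChar k) + 1)
    have hℓk : (ℓ : k) ≠ 0 := fun h => by
      rcases CharP.char_is_prime_or_zero k (ringChar k) with hp | hp
      · have := (Nat.prime_dvd_prime_iff_eq hp hℓp).mp ((CharP.cast_eq_zero_iff k (ringChar k) ℓ).mp h)
        omega
      · haveI := (CharP.ringChar_zero_iff_CharZero k).mp hp
        exact hℓp.ne_zero (Nat.cast_eq_zero.mp h)
    haveI : NeZero (ℓ : k) := ⟨hℓk⟩
    obtain ⟨ζ, hζ⟩ := HasEnoughRootsOfUnity.exists_primitiveRoot k ℓ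
    have hζ0 : ζ ≠ 0 := hζ.ne_zero hℓp.ne_zero
    let x : Multiplicative (Fin r → ℤ) →* k :=
      { toFun := fun a => ζ ^ (Multiplicative.toAdd a i)
        map_one' := by simp
        map_mul' := fun a b => by simp [zpow_add₀ hζ0] }
    have hx : x ∈ G := ⟨ℓ, hℓk, fun a => by
      show (ζ ^ (Multiplicative.toAdd a i)) ^ ℓ = 1
      rw [← zpow_natCast, ← zpow_mul, mul_comm, zpow_mul, zpow_natCast, hζ.pow_eq_one, one_zpow]⟩
    have e : ζ ^ (Multiplicative.toAdd a i) = ζ ^ (Multiplicative.toAdd b i) := DFunLike.congr_fun hab ⟨x, hx⟩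
    have hd : ζ ^ c = 1 := by rw [hc, zpow_sub₀ hζ0, e, div_self (zpow_ne_zero _ hζ0)]
    rw [hζ.zpow_eq_one_iff_dvd] at hd
    have := Nat.le_of_dvd (Int.natAbs_pos.mpr (sub_ne_zero.mpr hi)) (Int.natAbs_dvd_natAbs.mpr hd)
    simp only [Int.natAbs_natCast] at this
    omega
  have hli : LinearIndependent k fun a => (ev a : G → k) := (linearIndependent_monoidHom G k).comp ev hev
  apply MonoidAlgebra.ext
  have := linearIndependent_iff.mp hli f.coeff (funext fun x => ?_)
  · rw [this]; rfl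
  · have hx := h x x.2
    rw [MonoidAlgebra.lift_apply] at hx
    simpa [Finsupp.linearCombination_apply, Finsupp.sum, Finset.sum_apply, Pi.smul_apply, ev] using hx

theorem isDomain_monoidAlgebra_lattice (r : ℕ) : IsDomain (MonoidAlgebra k (Multiplicative (Fin r → ℤ))) := by
  haveI : UniqueSums ℤ := TwoUniqueSums.toUniqueSums ℤ
  exact NoZeroDivisors.to_isDomain _

end Lattice

variable {G T : Over (Spec (CommRingCat.of k))} [GrpObj G] [IsAffine G.left] [GrpObj T]

local notation "Γk" => WithConv (Fn G →ₐ[k] k)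

omit [IsAlgClosed k] in
theorem isClosedImmersion_torus (hT : Red.IsTorus T) (i : T ⟶ G) [IsMonHom i] [Mono i] : IsClosedImmersion i.left :=
  MultTransp18.isClosedImmersion_of_mono (Sga3xB.isMultTypeFT_of_isTorus hT) (isAffineHom_of_isAffine G.hom) i

omit [GrpObj G] [IsAffine G.left] in
theorem smooth_connected_torus (hT : Red.IsTorus T) : Smooth T.hom ∧ ConnectedSpace T.left := by
  obtain ⟨r, ⟨e⟩⟩ := torus_iso hT
  let j : T ≅ AffineHopf.sp k (MonoidAlgebra k (Multiplicative (Fin r → ℤ))) := (Grp.forget _).mapIso e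
  let jl : T.left ≅ Spec (CommRingCat.of (MonoidAlgebra k (Multiplicative (Fin r → ℤ)))) := (Over.forget _).mapIso j
  haveI := isDomain_monoidAlgebra_lattice (k := k) r
  haveI : AddGroup.FG (Fin r → ℤ) := Module.Finite.iff_addGroup_fg.mp inferInstance
  haveI : AddMonoid.FG (Fin r → ℤ) := AddGroup.fg_iff_addMonoid_fg.mp inferInstance
  haveI : Monoid.FG (Multiplicative (Fin r → ℤ)) := Monoid.fg_of_addMonoid_fg
  haveI : LocallyOfFiniteType (AffineHopf.sp k (MonoidAlgebra k (Multiplicative (Fin r → ℤ)))).hom := by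
    show LocallyOfFiniteType (Spec.map (CommRingCat.ofHom (algebraMap k (MonoidAlgebra k (Multiplicative (Fin r → ℤ))))))
    rw [HasRingHomProperty.Spec_iff (P := @LocallyOfFiniteType)]
    exact RingHom.finiteType_algebraMap.mpr inferInstance
  haveI : LocallyOfFiniteType T.hom := by
    rw [← Over.w j.hom]
    haveI : IsIso j.hom.left := inferInstanceAs (IsIso jl.hom)
    infer_instance
  haveI : IsReduced T.left := isReduced_of_isOpenImmersion jl.hom
  exact ⟨GrpSchLib.smooth_of_perfectField_of_isReduced T, jl.inv.surjective.connectedSpace jl.inv.continuous⟩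

variable [LocallyOfFiniteType G.hom]

/-- The points of a torus form a torus. -/
theorem isTor_pts (hT : Red.IsTorus T) (i : T ⟶ G) [IsMonHom i] [IsClosedImmersion i.left] : IsTor (pts i) := by
  obtain ⟨hsm, hc⟩ := smooth_connected_torus hT
  have hcc : IsCC (pts i) := isCC_pts i
  obtain ⟨r, ⟨e⟩⟩ := torus_iso hT
  haveI := e.hom.hom.isMonHom_hom
  haveI := e.inv.hom.isMonHom_hom
  let B := MonoidAlgebra k (Multiplicative (Fin r → ℤ))
  let j : AffineHopf.sp k B ⟶ G := e.inv.hom.hom ≫ i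
  haveI : IsMonHom j := inferInstanceAs (IsMonHom (e.inv.hom.hom ≫ i))
  let ψ : Fn G →ₐ[k] B := pullFn (B := B) j
  let π : WithConv (B →ₐ[k] k) →* Γk := MonoidHom.mk' (fun y => toConv (y.ofConv.comp ψ)) fun y y' => by
    have h := congrArg (fun q : AffineHopf.sp k k ⟶ AffineHopf.sp k B => ptConv G (q ≫ j))
      (AffineHopf.spMap_mul y.ofConv y'.ofConv)
    erw [MonObj.mul_comp, map_mul] at h
    have e1 : ∀ f : B →ₐ[k] k, ptConv G (AffineHopf.spMap f ≫ j) = toConv (f.comp ψ) := fun f =>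
      congrArg toConv (AGF27.pullFn_ptMap' f (j : VecGrp.pt k B ⟶ G))
    rw [e1, e1, e1, toConv_ofConv] at h
    exact h.symm
  have hrange : ∀ x ∈ pts i, ∃ y, π y = x := by
    rintro _ ⟨h, rfl⟩
    obtain ⟨f, hf⟩ := AffineHopf.exists_eq_spMap (h ≫ e.hom.hom.hom : AffineHopf.sp k k ⟶ AffineHopf.sp k B)
    refine ⟨toConv f, ?_⟩
    show toConv (f.comp ψ) = ptConv G (h ≫ i)
    rw [← congrArg toConv (AGF27.pullFn_ptMap' f (j : VecGrp.pt k B ⟶ G))]
    show ptConv G (AffineHopf.spMap f ≫ j) = _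
    erw [← hf, Category.assoc, show e.hom.hom.hom ≫ j = i by
      show e.hom.hom.hom ≫ e.inv.hom.hom ≫ i = i
      rw [← Category.assoc, show e.hom.hom.hom ≫ e.inv.hom.hom = 𝟙 _ from congrArg (fun w => w.hom.hom) e.hom_inv_id,
        Category.id_comp]]
  have hπ : ∀ y, π y ∈ pts i := fun y =>
    ⟨AffineHopf.spMap y.ofConv ≫ e.inv.hom.hom, by
      show ptConv G ((AffineHopf.spMap y.ofConv ≫ e.inv.hom.hom) ≫ i) = _
      erw [Category.assoc]
      exact congrArg toConv (AGF27.pullFn_ptMap' y.ofConv (j : VecGrp.pt k B ⟶ G))⟩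
  have hcommB : ∀ y y' : WithConv (B →ₐ[k] k), y * y' = y' * y := fun y y' => by
    refine WithConv.ofConv_injective (MonoidAlgebra.algHom_ext (fun a => ?_) (by ext))
    rw [AlgHom.convMul_apply, AlgHom.convMul_apply, MonoidAlgebra.comul_single]
    simp [mul_comm]
  have hcomm : ∀ x ∈ pts i, ∀ x' ∈ pts i, Commute x x' := fun x hx x' hx' => by
    obtain ⟨y, rfl⟩ := hrange x hx
    obtain ⟨y', rfl⟩ := hrange x' hx'
    exact ((Commute.all y y' : Commute y y') |>.map π : _)
  haveI hsol : Group.IsSolvable (pts i) := by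
    letI : CommGroup (pts i) :=
      { (inferInstance : Group (pts i)) with mul_comm := fun a b => Subtype.ext (hcomm a a.2 b b.2) }
    infer_instance
  obtain ⟨S, hSle, hS, -, hex⟩ := exists_tori hcc hsol
  suffices heq : pts i = S by rw [heq]; exact hS
  refine le_antisymm (fun x hx => ?_) hSle
  obtain ⟨y₀, rfl⟩ := hrange x hx
  refine hS.1.1 fun ⟨_, a, rfl⟩ ha => ?_
  show y₀.ofConv (ψ a) = 0
  rw [eq_zero_of_torsion (ψ a) fun z ⟨m, hm, hzm⟩ => ?_, map_zero]
  let y : WithConv (B →ₐ[k] k) := toConv (MonoidAlgebra.lift k k _ z)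
  have hym : y ^ m = 1 := by
    have hpow : ∀ (n : ℕ) b, (y ^ n).ofConv (MonoidAlgebra.single b 1) = z b ^ n := fun n b => by
      induction n with
      | zero => rw [pow_zero, pow_zero, AlgHom.convOne_apply, MonoidAlgebra.counit_single]; simp
      | succ n ih =>
        rw [pow_succ, pow_succ, AlgHom.convMul_apply, MonoidAlgebra.comul_single]
        simp [y, ih]
        left
        exact (MonoidAlgebra.lift_single z b (1 : k)).trans (one_smul k _)
    refine WithConv.ofConv_injective (MonoidAlgebra.algHom_ext (fun b => ?_) (by ext))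
    rw [hpow, hzm, AlgHom.convOne_apply]
    simp
  have hmem : π y ∈ S := by
    obtain ⟨t, ht, hun⟩ := hex (π y) (hπ y)
    have htm : (π y) ^ m = 1 := by rw [← map_pow, hym, map_one]
    have hss : IsSSPt (π y) := fun W _ _ _ hW => by
      have : (ptAct W (π y)) ^ m = 1 := by rw [← map_pow, htm, map_one]
      refine Module.End.isSemisimple_of_squarefree_aeval_eq_zero (p := Polynomial.X ^ m - 1)
        (Polynomial.separable_X_pow_sub_C (1 : k) hm one_ne_zero).squarefree ?_
      simp [this]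
    have hz : t⁻¹ * π y = 1 := by
      obtain ⟨U, hU, hUf, hgen⟩ := exists_faithful (k := k) (A := Fn G)
      have hinj := ptAct_injective_of_generators hU hgen
      letI := ComodSub.Comod.restr (HopfRep.Comod.regular k (Fn G)) U hU
      haveI := hUf
      apply hinj
      rw [map_one]
      have hs1 : (ptAct U (t⁻¹ * π y)).IsSemisimple := by
        rw [map_mul]
        exact Module.End.IsSemisimple.mul_of_commute ((hcomm _ (inv_mem (hSle ht)) _ (hπ y)).map (ptAct U))
          (hS.2.2 _ (inv_mem ht) U inferInstance) (hss U inferInstance)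
      exact sub_eq_zero.mp (Module.End.eq_zero_of_isNilpotent_isSemisimple (hun U inferInstance)
        (Module.End.IsSemisimple.sub_of_commute (Commute.one_right _) hs1 Module.End.isSemisimple_id))
    rwa [← inv_mul_eq_one.mp hz]
  have := ha _ hmem
  exact this

theorem exists_conj_iso {A B : Over (Spec (CommRingCat.of k))} [GrpObj A] [GrpObj B] (iA : A ⟶ G) (iB : B ⟶ G)
    [IsMonHom iA] [IsMonHom iB] [IsClosedImmersion iA.left] [IsClosedImmersion iB.left] [Smooth A.hom] [Smooth B.hom]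
    {c : Γk} (hc : cjSub c (pts iA) = pts iB) : ∃ f : A ≅ B, f.hom ≫ iB = AGF.conjBy (ratPt c) iA := by
  haveI : IsAffine A.left := isAffine_of_isAffineHom iA.left
  haveI : IsAffine B.left := isAffine_of_isAffineHom iB.left
  haveI : IsReduced A.left := GrpSchLib.isReduced_of_smooth_field A.hom
  haveI : IsReduced B.left := GrpSchLib.isReduced_of_smooth_field B.hom
  haveI : Mono iA := (Over.forget _).mono_of_mono_map (inferInstanceAs (Mono iA.left))
  haveI : Mono iB := (Over.forget _).mono_of_mono_map (inferInstanceAs (Mono iB.left))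
  have ha : algPt (ratPt c) = c := ptConv_toUnit_ratPt c
  have ha' : algPt (ratPt c⁻¹) = c⁻¹ := ptConv_toUnit_ratPt c⁻¹
  obtain ⟨f, hf⟩ := exists_factor_of_pts iB (AGF.conjBy (ratPt c) iA) fun x => by
    rw [ptConv_comp_conjBy, ha, ← hc, mem_cjSub]
    exact ⟨x, by show ptConv G (x ≫ iA) = _; group⟩
  obtain ⟨f', hf'⟩ := exists_factor_of_pts iA (AGF.conjBy (ratPt c⁻¹) iB) fun x => by
    rw [ptConv_comp_conjBy, ha', _root_.inv_inv]
    exact mem_cjSub.mp (hc.ge ⟨x, rfl⟩)
  have hinv : (ratPt c⁻¹ : _ ⟶ G) = (ratPt c)⁻¹ := by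
    apply (cancel_epi (toUnit (VecGrp.pt k k))).mp
    apply (ptConv G).injective
    rw [ptConv_toUnit_ratPt, GrpObj.comp_inv, map_inv, ptConv_toUnit_ratPt]
  rw [hinv] at hf'
  refine ⟨⟨f, f', ?_, ?_⟩, hf⟩
  · rw [← cancel_mono iA, Category.assoc, hf', Category.id_comp, AGF.conjBy]
    simp only [MonObj.comp_mul, GrpObj.comp_inv, hf, toUnit_unique _ (toUnit A), comp_toUnit_assoc, AGF.conjBy]
    group
  · rw [← cancel_mono iB, Category.assoc, hf, Category.id_comp, AGF.conjBy]
    simp only [MonObj.comp_mul, GrpObj.comp_inv, hf', comp_toUnit_assoc, AGF.conjBy]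
    group

end Groth.Agent.AGFHopf
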